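import Mathlib.GroupTheory.Focal
import Mathlib.GroupTheory.Nilpotent
import Mathlib.GroupTheory.Subgroup.Simple
import Cfsg.Agent.Lib.Fusion.Abelian

/-!
# Tools on Sylow subgroups of simple groups
-/

set_option autoImplicit false
set_option linter.unusedSectionVars false
set_option linter.style.haveILetI false

namespace Cfsg.Lib.TICyclic

open Subgroup Cfsg.Lib
open scoped commutatorElement

variable {G : Type*} [Group G] [Finite G]

/-- A simple nonabelian group equals its commutator subgroup. -/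
theorem commutator_eq_top [IsSimpleGroup G] (hG : ¬ IsMulCommutative G) :
    _root_.commutator G = ⊤ := by
  refine (IsSimpleGroup.eq_bot_or_eq_top_of_normal (_root_.commutator G) inferInstance).resolve_left
    fun h => hG ⟨⟨fun a b => ?_⟩⟩
  have hmem : ⁅a, b⁆ ∈ _root_.commutator G := commutator_mem_commutator (mem_top a) (mem_top b)
  rw [h, mem_bot, commutatorElement_eq_one_iff_mul_comm] at hmem
  exact hmem

/-- A subgroup absorbing all fusion contains the Sylow subgroup. -/
theorem sylow_le_of_fusion [IsSimpleGroup G] (hG : ¬ IsMulCommutative G) {p : ℕ} [Fact p.Prime]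
    (S : Sylow p G) (L : Subgroup G)
    (h : ∀ s ∈ (S : Subgroup G), ∀ g : G, g * s * g⁻¹ ∈ (S : Subgroup G) →
      s⁻¹ * (g * s * g⁻¹) ∈ L) : (S : Subgroup G) ≤ L := by
  have h1 : (S : Subgroup G) ≤ (S : Subgroup G).focalSubgroup := by
    rw [← commutator_inf_eq_focalSubgroup S, commutator_eq_top hG, top_inf_eq]
  refine h1.trans ?_
  rw [focalSubgroup_def, closure_le]
  rintro z ⟨hz, x, hx, u, rfl⟩
  have hm : u * x⁻¹ * u⁻¹ ∈ (S : Subgroup G) := by
    have : u * x⁻¹ * u⁻¹ = x⁻¹ * ⁅x, u⁆ := by rw [commutatorElement_def]; group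
    rw [this]; exact mul_mem (inv_mem hx) hz
  have := h x⁻¹ (inv_mem hx) u hm
  rwa [SetLike.mem_coe, show ⁅x, u⁆ = x⁻¹⁻¹ * (u * x⁻¹ * u⁻¹) by rw [commutatorElement_def]; group]

/-- A proper subgroup of a `p`-group does not contain its normalizer there. -/
theorem exists_normalizer_notMem {p : ℕ} [Fact p.Prime] {P D : Subgroup G} (hP : IsPGroup p P)
    (hle : D ≤ P) (hne : D ≠ P) : ∃ s ∈ P, s ∉ D ∧ ∀ x ∈ D, s * x * s⁻¹ ∈ D := by
  haveI := hP.isNilpotent
  have hlt : D.subgroupOf P < ⊤ := by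
    rw [lt_top_iff_ne_top, Ne, subgroupOf_eq_top]
    exact fun h => hne (le_antisymm hle h)
  obtain ⟨g, hgN, hgU⟩ := SetLike.exists_of_lt
    (Group.normalizerCondition_of_isNilpotent (D.subgroupOf P) hlt)
  refine ⟨g, g.2, fun h => hgU (mem_subgroupOf.mpr h), fun x hx => ?_⟩
  exact mem_subgroupOf.mp ((mem_normalizer_iff.mp hgN ⟨x, hle hx⟩).mp (mem_subgroupOf.mpr hx))

end Cfsg.Lib.TICyclic
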