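import Cfsg.Agent.Lib.TICyclic.Nine
import Cfsg.Agent.Lib.AllAb.Count

/-!
# A group of Ree type has no abelian Sylow three-subgroup

The Sylow three-subgroups meet trivially and there are `q³ + 1` of them, so an irreducible character
of degree `q² - q + 1` would be too large on them if they were abelian.
-/

set_option autoImplicit false
set_option linter.unusedSectionVars false
set_option linter.style.haveILetI false

namespace Cfsg.Lib.TICyclic

open Subgroup Cfsg Cfsg.Lib Cfsg.Lib.ReeType Cfsg.Lib.ReeTwoTrans MulAction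
open scoped Pointwise

universe u v

namespace Geo

variable {G : Type u} {L : Type v} [Group G] [Group L] [Finite G] {n T : ℕ} (E : Geo G L n T)

local notation "q" => 3 ^ (2 * n + 1)

theorem sylow_fix (g : G) {y : G} (hy : y ∈ ((g • E.P : Sylow 3 G) : Subgroup G)) :
    y • g • E.pt = g • E.pt ∧ ∃ j : ℕ, y ^ 3 ^ j = 1 := by
  constructor
  · rw [Sylow.coe_subgroup_smul] at hy
    obtain ⟨x, hx, rfl⟩ := hy
    show (g * x * g⁻¹) • g • E.pt = g • E.pt
    rw [mul_smul, mul_smul, inv_smul_smul, E.mem_H_iff.1 (E.P_le hx)]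
  · obtain ⟨j, hj⟩ := (g • E.P : Sylow 3 G).isPGroup' ⟨y, hy⟩
    exact ⟨j, congrArg Subtype.val hj⟩

theorem sylow_eq_of_pt {g g' : G} (h : g • E.pt = g' • E.pt) : g • E.P = g' • E.P := by
  have hH : g'⁻¹ * g ∈ E.H := E.mem_H_iff.2 (by rw [mul_smul, h, inv_smul_smul])
  have h' := Sylow.smul_eq_iff_mem_normalizer.2 (E.H_le hH)
  rw [mul_smul, inv_smul_eq_iff] at h'
  exact h'

include E in
theorem sylow_ti [Fact (Nat.Prime 3)] (P P' : Sylow 3 G) (y : G) (hy : y ∈ (P : Subgroup G))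
    (hy' : y ∈ (P' : Subgroup G)) (hy1 : y ≠ 1) : P' = P := by
  obtain ⟨g, rfl⟩ := MulAction.exists_smul_eq G E.P P
  obtain ⟨g', rfl⟩ := MulAction.exists_smul_eq G E.P P'
  obtain ⟨h1, j, hj⟩ := E.sylow_fix g hy
  obtain ⟨h2, -⟩ := E.sylow_fix g' hy'
  by_cases he : g' • E.pt = g • E.pt
  · exact E.sylow_eq_of_pt he
  · exact absurd (E.three_fix hj he h2 h1) hy1

include E in
theorem card_sylow : Nat.card (Sylow 3 G) = q ^ 3 + 1 := by
  classical
  haveI : Fact (Nat.Prime 3) := ⟨Nat.prime_three⟩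
  haveI := E.two
  have hsurj : ∀ p : G ⧸ E.H, ∃ g : G, g • E.pt = p := fun p => MulAction.exists_smul_eq G E.pt p
  choose c hc using hsurj
  rw [← E.idx, Subgroup.index_eq_card]
  refine (Nat.card_eq_of_bijective (fun p => c p • E.P) ⟨fun p r h => ?_, fun R => ?_⟩).symm
  · by_contra hne
    obtain ⟨u, hu, hu1⟩ := E.S.exists_ne_one_threeSub
    have hy : c p * u * (c p)⁻¹ ∈ ((c p • E.P : Sylow 3 G) : Subgroup G) := by
      rw [Sylow.coe_subgroup_smul]
      exact ⟨u, E.U_le hu, rfl⟩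
    have hy' : c p * u * (c p)⁻¹ ∈ ((c r • E.P : Sylow 3 G) : Subgroup G) := by
      rw [← show c p • E.P = c r • E.P from h]; exact hy
    obtain ⟨h1, j, hj⟩ := E.sylow_fix _ hy
    obtain ⟨h2, -⟩ := E.sylow_fix _ hy'
    rw [hc] at h1 h2
    exact hu1 (conj_eq_one_iff.1 (E.three_fix hj hne h1 h2))
  · obtain ⟨g, rfl⟩ := MulAction.exists_smul_eq G E.P R
    exact ⟨g • E.pt, E.sylow_eq_of_pt (hc _)⟩

include E in
theorem false_of_comm (hP : ∀ x ∈ (E.P : Subgroup G), ∀ y ∈ (E.P : Subgroup G), x * y = y * x)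
    (χ : IrrCharacter G) (hχ : charDegree (χ : G → ℂ) = q ^ 2 - q + 1) : False := by
  classical
  haveI := Fintype.ofFinite G
  haveI : Fact (Nat.Prime 3) := ⟨Nat.prime_three⟩
  have hab : ∀ R : Sylow 3 G, ∀ a ∈ (R : Subgroup G), ∀ b ∈ (R : Subgroup G), a * b = b * a := by
    intro R a ha b hb
    obtain ⟨g, rfl⟩ := MulAction.exists_smul_eq G E.P R
    rw [Sylow.coe_subgroup_smul] at ha hb
    obtain ⟨x, hx, rfl⟩ := ha
    obtain ⟨y, hy, rfl⟩ := hb
    show g * x * g⁻¹ * (g * y * g⁻¹) = g * y * g⁻¹ * (g * x * g⁻¹)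
    rw [← conj_mul', ← conj_mul', hP x hx y hy]
  have h := AllAb.degree_bound (E.sylow_ti) hab E.P χ
  obtain ⟨-, hPc, -⟩ := E.card_facts
  rw [E.card_sylow, hPc, hχ, E.hord] at h
  have h27 := E.S.q_facts.2.1
  obtain ⟨a, ha⟩ : ∃ a, q = a + 1 := ⟨q - 1, by omega⟩
  have e1 : q - 1 = a := by omega
  have e2 : q ^ 2 - q + 1 = a * a + a + 1 := by
    have : q ^ 2 = (a * a + a) + q := by rw [ha]; ring
    omega
  rw [e1, e2, ha] at h
  have ha26 : 26 ≤ a := by omega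
  have h' : (a + 1) ^ 3 * (a * a + a + 1) ≤ (a + 1) ^ 3 * a + (a * a + a + 1) ^ 2 := by
    refine Nat.le_of_mul_le_mul_left (?_ : ((a + 1) ^ 3 + 1) * _ ≤ ((a + 1) ^ 3 + 1) * _)
      (Nat.succ_pos _)
    linarith
  nlinarith

end Geo

end Cfsg.Lib.TICyclic
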