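import Mathlib.GroupTheory.OrderOfElement
import Mathlib.GroupTheory.Sylow
import Mathlib.GroupTheory.SpecificGroups.Cyclic
import Cfsg.Agent.Lib.Invol.Basic

/-!
# Groups whose cyclic subgroups of prime power order are TI: squares of elements of order four

Two commuting involutions that are squares of elements of order four either centralize or invert all
of each other's square roots. The centralizing relation is transitive.
-/

set_option autoImplicit false
set_option linter.unusedSectionVars false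
set_option linter.style.haveILetI false

namespace Cfsg.Lib.TICyclic

open Subgroup Cfsg.Lib

variable {G : Type*} [Group G]

/-- Every cyclic subgroup of prime power order is a trivial intersection subgroup. -/
def IsTI (G : Type*) [Group G] : Prop :=
  ∀ H : Subgroup G, IsCyclic H → IsPrimePow (Nat.card H) →
    ∀ g : G, H.map (MulAut.conj g).toMonoidHom = H ∨ H.map (MulAut.conj g).toMonoidHom ⊓ H = ⊥

/-- An element fixing a nontrivial power of an element of prime power order normalizes it. -/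
theorem IsTI.conj_mem (h : IsTI G) {x g : G} {p k : ℕ} (hp : p.Prime) (hx : orderOf x = p ^ k)
    {i : ℕ} (hi : x ^ i ≠ 1) (hg : g * x ^ i = x ^ i * g) : g * x * g⁻¹ ∈ zpowers x := by
  have hk : 0 < k := by
    rcases Nat.eq_zero_or_pos k with rfl | h0
    · rw [pow_zero, orderOf_eq_one_iff] at hx
      exact absurd (by rw [hx, one_pow]) hi
    · exact h0
  have hpp : IsPrimePow (Nat.card (zpowers x)) := by
    rw [Nat.card_zpowers, hx]
    exact ⟨p, k, hp.prime, hk, rfl⟩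
  have hin : g * x * g⁻¹ ∈ (zpowers x).map (MulAut.conj g).toMonoidHom :=
    ⟨x, mem_zpowers x, rfl⟩
  rcases h (zpowers x) inferInstance hpp g with he | he
  · rwa [he] at hin
  · exfalso
    refine hi (mem_bot.1 (he ▸ Subgroup.mem_inf.2 ⟨⟨x ^ i, pow_mem (mem_zpowers x) i, ?_⟩,
      pow_mem (mem_zpowers x) i⟩))
    show g * x ^ i * g⁻¹ = x ^ i
    rw [hg, mul_inv_cancel_right]

/-- `x` has order four and square `z`. -/
def IsRoot (x z : G) : Prop := orderOf x = 4 ∧ x * x = z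

/-- `z` is the square of an element of order four. -/
def IsSq (z : G) : Prop := ∃ x, IsRoot x z

theorem IsRoot.sq_ne {x z : G} (h : IsRoot x z) : z ≠ 1 := fun e => by
  have h2 : orderOf x ∣ 2 := orderOf_dvd_of_pow_eq_one (by rw [pow_two, h.2, e])
  rw [h.1] at h2
  norm_num at h2

theorem IsRoot.sq_sq {x z : G} (h : IsRoot x z) : z * z = 1 := by
  rw [← h.2, show x * x * (x * x) = x ^ 4 by simp [pow_succ, mul_assoc], ← h.1, pow_orderOf_eq_one]

theorem IsRoot.mk' {x z : G} (h : x * x = z) (hz : z ≠ 1) (hz2 : z * z = 1) : IsRoot x z := by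
  refine ⟨?_, h⟩
  haveI := Fact.mk Nat.prime_two
  refine orderOf_eq_prime_pow (p := 2) (n := 1) ?_ ?_
  · rw [pow_one, pow_two, h]; exact hz
  · rw [show 2 ^ (1 + 1) = 2 * 2 from rfl, pow_mul, pow_two x, h, pow_two, hz2]

theorem IsRoot.inv {x z : G} (h : IsRoot x z) : IsRoot x⁻¹ z :=
  IsRoot.mk' (by rw [← mul_inv_rev, h.2, inv_eq_iff_mul_eq_one.2 h.sq_sq]) h.sq_ne h.sq_sq

theorem IsRoot.inv_eq {x z : G} (h : IsRoot x z) : x⁻¹ = z * x :=
  inv_eq_of_mul_eq_one_left (by rw [mul_assoc, h.2, h.sq_sq])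

theorem IsRoot.inv_ne {x z : G} (h : IsRoot x z) : x⁻¹ ≠ x := fun e => h.sq_ne (by
  rw [← h.2]; nth_rewrite 1 [← e]; exact inv_mul_cancel x)

theorem IsRoot.comm_sq {x z : G} (h : IsRoot x z) : x * z = z * x := by
  rw [← h.2, mul_assoc]

theorem IsSq.ne_one {z : G} (h : IsSq z) : z ≠ 1 := by
  obtain ⟨x, hx⟩ := h; exact hx.sq_ne

theorem IsSq.mul_self {z : G} (h : IsSq z) : z * z = 1 := by
  obtain ⟨x, hx⟩ := h; exact hx.sq_sq

theorem IsSq.orderOf {z : G} (h : IsSq z) : orderOf z = 2 :=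
  Invol.orderOf_eq_two_of h.ne_one h.mul_self

theorem IsRoot.conj {x z : G} (h : IsRoot x z) (g : G) : IsRoot (g * x * g⁻¹) (g * z * g⁻¹) :=
  ⟨by rw [Invol.orderOf_conj_eq, h.1], by rw [← h.2]; group⟩

theorem IsSq.conj {z : G} (h : IsSq z) (g : G) : IsSq (g * z * g⁻¹) := by
  obtain ⟨x, hx⟩ := h; exact ⟨_, hx.conj g⟩

/-- Whatever fixes an involution normalizes its roots. -/
theorem conj_root (h : IsTI G) {x z g : G} (hx : IsRoot x z) (hg : g * z = z * g) :
    g * x * g⁻¹ = x ∨ g * x * g⁻¹ = x⁻¹ := by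
  have hxx : x ^ 2 = z := by rw [pow_two, hx.2]
  have hmem := h.conj_mem (x := x) (g := g) Nat.prime_two (k := 2) hx.1 (i := 2)
    (hxx ▸ hx.sq_ne) (hxx.symm ▸ hg)
  obtain ⟨j, hj⟩ := mem_zpowers_iff.1 hmem
  have hr := hx.conj g
  have h4 : x ^ (4 : ℤ) = 1 := by
    rw [zpow_ofNat, ← hx.1, pow_orderOf_eq_one]
  have hmod : x ^ j = x ^ (j % 4) := by
    conv_lhs => rw [← Int.emod_add_mul_ediv j 4, zpow_add, zpow_mul, h4, one_zpow, mul_one]
  have h0 := Int.emod_nonneg j (show (4 : ℤ) ≠ 0 by norm_num)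
  have h1 := Int.emod_lt_of_pos j (show (0 : ℤ) < 4 by norm_num)
  have hjj := hmod ▸ hj
  interval_cases hv : j % 4
  · rw [zpow_zero] at hjj
    exfalso
    rw [← hjj] at hr
    have := hr.1
    rw [orderOf_one] at this
    omega
  · left; rw [← hjj, zpow_one]
  · exfalso
    rw [zpow_two, hx.2] at hjj
    have := hr.1
    rw [← hjj] at this
    have h2 : orderOf z ∣ 2 := orderOf_dvd_of_pow_eq_one (by rw [pow_two, hx.sq_sq])
    rw [this] at h2
    norm_num at h2
  · right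
    rw [← hjj]
    refine eq_inv_of_mul_eq_one_left ?_
    rw [show (3 : ℤ) = 4 - 1 by norm_num, zpow_sub, h4, one_mul, zpow_one, inv_mul_cancel]

/-- If an involution centralizes one root, it centralizes commuting roots on both sides. -/
theorem root_comm (h : IsTI G) {x y z v : G} (hx : IsRoot x z) (hy : IsRoot y v) (hne : z ≠ v)
    (_hzv : z * v = v * z) (hvx : v * x = x * v) : z * y = y * z ∧ x * y = y * x := by
  have h1 : x * y * x⁻¹ = y ∨ x * y * x⁻¹ = y⁻¹ := conj_root h hy hvx.symm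
  have hzy : z * y = y * z := by
    refine mul_inv_eq_iff_eq_mul.1 ?_
    rw [← hx.2, show x * x * y * (x * x)⁻¹ = x * (x * y * x⁻¹) * x⁻¹ by group]
    rcases h1 with e | e <;> rw [e]
    · exact e
    · rw [show x * y⁻¹ * x⁻¹ = (x * y * x⁻¹)⁻¹ by group, e, inv_inv]
  refine ⟨hzy, ?_⟩
  rcases h1 with e | e
  · exact mul_inv_eq_iff_eq_mul.1 e
  exfalso
  have hyxy : y * x * y⁻¹ = v * x := by
    calc y * x * y⁻¹ = y * (x * y⁻¹ * x⁻¹) * x := by group
      _ = y * (x * y * x⁻¹)⁻¹ * x := by group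
      _ = v * x := by rw [e, inv_inv, hy.2]
  rcases conj_root h hx hzy.symm with e2 | e2
  · rw [hyxy, mul_eq_right] at e2
    exact hy.sq_ne e2
  · rw [hyxy, hx.inv_eq] at e2
    exact hne (mul_right_cancel e2).symm

/-- Commuting squares, one centralizing the roots of the other. -/
def Rel (z v : G) : Prop :=
  IsSq z ∧ IsSq v ∧ z ≠ v ∧ z * v = v * z ∧ ∀ x, IsRoot x z → v * x = x * v

/-- If one root is centralized then all are. -/
theorem rel_of_one (h : IsTI G) {x z v : G} (hx : IsRoot x z) (hv : IsSq v) (hne : z ≠ v)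
    (hzv : z * v = v * z) (hvx : v * x = x * v) : Rel z v := by
  obtain ⟨y, hy⟩ := hv
  refine ⟨⟨x, hx⟩, ⟨y, hy⟩, hne, hzv, fun x' hx' => ?_⟩
  exact (root_comm h hy hx' hne.symm hzv.symm (root_comm h hx hy hne hzv hvx).1).1

theorem Rel.symm (h : IsTI G) {z v : G} (hr : Rel z v) : Rel v z := by
  obtain ⟨⟨x, hx⟩, hv, hne, hzv, hc⟩ := hr
  exact ⟨hv, ⟨x, hx⟩, hne.symm, hzv.symm, fun y hy => (root_comm h hx hy hne hzv (hc x hx)).1⟩

theorem Rel.roots_comm (h : IsTI G) {x y z v : G} (hr : Rel z v) (hx : IsRoot x z)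
    (hy : IsRoot y v) : x * y = y * x :=
  (root_comm h hx hy hr.2.2.1 hr.2.2.2.1 (hr.2.2.2.2 x hx)).2

theorem Rel.comm_root (h : IsTI G) {z v y : G} (hr : Rel z v) (hy : IsRoot y v) : z * y = y * z :=
  (hr.symm h).2.2.2.2 y hy

theorem Rel.conj {z v : G} (hr : Rel z v) (g : G) : Rel (g * z * g⁻¹) (g * v * g⁻¹) := by
  obtain ⟨hz, hv, hne, hzv, hc⟩ := hr
  refine ⟨hz.conj g, hv.conj g, fun e => hne (mul_left_cancel (mul_right_cancel e)), ?_, fun x hx => ?_⟩
  · exact ((Commute.conj_iff g).2 hzv).eq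
  · have h1 : IsRoot (g⁻¹ * x * g) z := by
      have := hx.conj g⁻¹
      rwa [inv_inv, show g⁻¹ * (g * z * g⁻¹) * g = z by group] at this
    have := ((Commute.conj_iff g).2 (hc _ h1)).eq
    rwa [show g * (g⁻¹ * x * g) * g⁻¹ = x by group] at this

theorem Rel.mul (h : IsTI G) {z v : G} (hr : Rel z v) : Rel z (z * v) := by
  obtain ⟨⟨x, hx⟩, ⟨y, hy⟩, hne, hzv, hc⟩ := hr
  have hxy := Rel.roots_comm h ⟨⟨x, hx⟩, ⟨y, hy⟩, hne, hzv, hc⟩ hx hy
  refine ⟨⟨x, hx⟩, ⟨x * y, IsRoot.mk' ?_ ?_ ?_⟩, fun e => ?_, ?_, fun x' hx' => ?_⟩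
  · rw [(show Commute x y from hxy).symm.mul_mul_mul_comm, hx.2, hy.2]
  · rw [Ne, mul_eq_one_iff_eq_inv, inv_eq_of_mul_eq_one_left hy.sq_sq]
    exact hne
  · rw [(show Commute z v from hzv).symm.mul_mul_mul_comm, hx.sq_sq, hy.sq_sq, one_mul]
  · exact hy.sq_ne (left_eq_mul.1 e)
  · rw [mul_assoc z v z, hzv, ← mul_assoc]
  · rw [mul_assoc, hc x' hx', ← mul_assoc, ← hx'.comm_sq, mul_assoc]

/-- The relation is transitive. -/
theorem Rel.trans (h : IsTI G) {a z c : G} (h1 : Rel a z) (h2 : Rel a c) (hne : z ≠ c) :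
    Rel z c := by
  obtain ⟨xa, hxa⟩ := h1.1
  obtain ⟨xz, hxz⟩ := h1.2.1
  -- `xa z` is another root of `a`
  have h3 : IsRoot (xa * z) a := by
    refine IsRoot.mk' ?_ hxa.sq_ne hxa.sq_sq
    rw [(show Commute z xa from h1.2.2.2.2 xa hxa).mul_mul_mul_comm, hxa.2, h1.2.1.mul_self, mul_one]
  have hzc : z * c = c * z := by
    have hA := h2.2.2.2.2 _ h3
    have hB := h2.2.2.2.2 _ hxa
    refine (mul_left_cancel (a := xa) ?_).symm
    rw [← mul_assoc, ← hB, mul_assoc, hA, mul_assoc]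
  refine rel_of_one h hxz h2.2.1 hne hzc ?_
  -- `xa xz` is a root of `a z`
  have hr := Rel.mul h h1
  have hxy := h1.roots_comm h hxa hxz
  have hrt : IsRoot (xa * xz) (a * z) := IsRoot.mk'
    (by rw [(show Commute xa xz from hxy).symm.mul_mul_mul_comm, hxa.2, hxz.2]) hr.2.1.ne_one
    hr.2.1.mul_self
  have hcaz : c * (a * z) = a * z * c := by
    rw [← mul_assoc, ← h2.2.2.2.1, mul_assoc, ← hzc, mul_assoc]
  have hca : c * xa * c⁻¹ = xa := mul_inv_eq_iff_eq_mul.2 (h2.2.2.2.2 _ hxa)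
  have hprod : c * (xa * xz) * c⁻¹ = xa * (c * xz * c⁻¹) := by
    rw [show c * (xa * xz) * c⁻¹ = (c * xa * c⁻¹) * (c * xz * c⁻¹) by group, hca]
  rcases conj_root h hxz hzc.symm with e | e
  · exact mul_inv_eq_iff_eq_mul.1 e
  exfalso
  rcases conj_root h hrt hcaz with e2 | e2 <;> rw [hprod, e] at e2
  · exact hxz.inv_ne (mul_left_cancel e2)
  · rw [mul_inv_rev, (show Commute xa xz⁻¹ from (show Commute xa xz from hxy).inv_right).eq] at e2
    exact hxa.inv_ne (mul_left_cancel e2).symm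

/-- A square outside the relation inverts all roots. -/
theorem inverts_of_not_rel (h : IsTI G) {x z b : G} (hb : IsSq b) (hne : z ≠ b)
    (hzb : z * b = b * z) (hn : ¬ Rel z b) (hx : IsRoot x z) : b * x * b⁻¹ = x⁻¹ :=
  (conj_root h hx hzb.symm).resolve_left fun e =>
    hn (rel_of_one h hx hb hne hzb (mul_inv_eq_iff_eq_mul.1 e))

/-- A square commuting with a member of a nontrivial class lies in the class. -/
theorem clique_closed (h : IsTI G) {a v b : G} (hav : Rel a v) (hb : IsSq b)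
    (hab : a * b = b * a) (hne : a ≠ b) : Rel a b := by
  by_contra hn
  obtain ⟨xa, hxa⟩ := hav.1
  have hb2 : b⁻¹ = b := inv_eq_of_mul_eq_one_right hb.mul_self
  have h1 := inverts_of_not_rel h hb hne hab hn hxa
  -- `b` fixes `v`
  have h3 : IsRoot (xa * v) a := by
    refine IsRoot.mk' ?_ hxa.sq_ne hxa.sq_sq
    rw [(show Commute v xa from hav.2.2.2.2 xa hxa).mul_mul_mul_comm, hxa.2, hav.2.1.mul_self, mul_one]
  have h4 := inverts_of_not_rel h hb hne hab hn h3
  have hvi : v⁻¹ = v := inv_eq_of_mul_eq_one_right hav.2.1.mul_self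
  have hvb : v * b = b * v := by
    rw [mul_inv_rev, hvi, show b * (xa * v) * b⁻¹ = (b * xa * b⁻¹) * (b * v * b⁻¹) by group, h1,
      ((show Commute v xa from hav.2.2.2.2 xa hxa).inv_right).eq] at h4
    exact (mul_inv_eq_iff_eq_mul.1 (mul_left_cancel h4)).symm
  have hvne : v ≠ b := fun e => hn (e ▸ hav)
  have hnv : ¬ Rel v b := fun hr => hn (Rel.trans h (hav.symm h) hr hne)
  obtain ⟨xb, hxb⟩ := hb
  have hinva : a * xb * a⁻¹ = xb⁻¹ :=
    inverts_of_not_rel h hav.1 hne.symm hab.symm (fun hr => hn (hr.symm h)) hxb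
  have hinvv : v * xb * v⁻¹ = xb⁻¹ :=
    inverts_of_not_rel h hav.2.1 hvne.symm hvb.symm (fun hr => hnv (hr.symm h)) hxb
  have hm := Rel.mul h hav
  have hcent : a * v * xb = xb * (a * v) := by
    refine mul_inv_eq_iff_eq_mul.1 ?_
    rw [show a * v * xb * (a * v)⁻¹ = a * (v * xb * v⁻¹) * a⁻¹ by group, hinvv,
      show a * xb⁻¹ * a⁻¹ = (a * xb * a⁻¹)⁻¹ by group, hinva, inv_inv]
  have hbav : b * (a * v) = a * v * b := by rw [← mul_assoc, ← hab, mul_assoc, ← hvb, mul_assoc]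
  by_cases heq : a * v = b
  · exact hn (heq ▸ hm)
  · exact hn (Rel.trans h (hm.symm h)
      ((rel_of_one h hxb hm.2.1 (Ne.symm heq) hbav hcent).symm h) hne)

end Cfsg.Lib.TICyclic
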