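import Cfsg.Agent.Lib.TICyclic.Basic
import Cfsg.Agent.Lib.TICyclic.Tools
import Cfsg.Agent.Lib.Invol.Cyclic
import Cfsg.Agent.Lib.Local.StronglyClosedAbelianFusion
import Mathlib.GroupTheory.Perm.Sign
import Mathlib.GroupTheory.GroupAction.SubMulAction
import Mathlib.Algebra.Group.End

/-!
# A nontrivial centralizing class forces abelian Sylow two-subgroups

The class `A` of an involution is elementary abelian, strongly closed and TI. Its normalizer controls
fusion, so by the focal subgroup theorem a Sylow two-subgroup centralizes `A` and all roots of its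
elements, and then it is abelian.
-/

set_option autoImplicit false
set_option linter.unusedSectionVars false
set_option linter.style.haveILetI false

namespace Cfsg.Lib.TICyclic

open Subgroup Cfsg.Lib

variable {G : Type*} [Group G]

/-- Membership in the class of `z`. -/
def InClique (z g : G) : Prop := g = 1 ∨ g = z ∨ Rel z g

theorem InClique.isSq {z g : G} (hz : IsSq z) (h : InClique z g) (hg : g ≠ 1) : IsSq g := by
  rcases h with h | h | h
  · exact absurd h hg
  · exact h ▸ hz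
  · exact h.2.1

theorem InClique.mul_self {z g : G} (hz : IsSq z) (h : InClique z g) : g * g = 1 := by
  by_cases hg : g = 1
  · rw [hg, one_mul]
  · exact (h.isSq hz hg).mul_self

theorem InClique.comm {z g g' : G} (hti : IsTI G) (h : InClique z g) (h' : InClique z g') :
    g * g' = g' * g := by
  rcases h with rfl | rfl | h
  · rw [one_mul, mul_one]
  · rcases h' with rfl | rfl | h'
    · rw [one_mul, mul_one]
    · rfl
    · exact h'.2.2.2.1
  · rcases h' with rfl | rfl | h'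
    · rw [one_mul, mul_one]
    · exact h.2.2.2.1.symm
    · by_cases e : g = g'
      · rw [e]
      · exact (Rel.trans hti h h' e).2.2.2.1

theorem InClique.mul_mem {z g g' : G} (hti : IsTI G) (hz : IsSq z) (h : InClique z g)
    (h' : InClique z g') : InClique z (g * g') := by
  rcases h with rfl | rfl | h
  · rwa [one_mul]
  · rcases h' with rfl | rfl | h'
    · rw [mul_one]; exact Or.inr (Or.inl rfl)
    · exact Or.inl hz.mul_self
    · exact Or.inr (Or.inr (h'.mul hti))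
  · rcases h' with rfl | rfl | h'
    · rw [mul_one]; exact Or.inr (Or.inr h)
    · rw [← h.2.2.2.1]; exact Or.inr (Or.inr (h.mul hti))
    · by_cases e : g = g'
      · exact Or.inl (by rw [e, h'.2.1.mul_self])
      · by_cases ez : g * g' = z
        · exact Or.inr (Or.inl ez)
        · exact Or.inr (Or.inr (Rel.trans hti (h.symm hti)
            ((Rel.trans hti h h' e).mul hti) (Ne.symm ez)))

/-- The class of an involution as a subgroup. -/
def clique (hti : IsTI G) {z : G} (hz : IsSq z) : Subgroup G where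
  carrier := {g | InClique z g}
  mul_mem' := fun h h' => InClique.mul_mem hti hz h h'
  one_mem' := Or.inl rfl
  inv_mem' := fun {g} h => by
    show InClique z g⁻¹
    rw [inv_eq_of_mul_eq_one_right (h.mul_self hz)]
    exact h

/-- The standing hypotheses. -/
structure Data (G : Type*) [Group G] where
  ti : IsTI G
  z : G
  v : G
  rel : Rel z v

namespace Data

variable (D : Data G)

/-- The class. -/
def A : Subgroup G := clique D.ti D.rel.1

theorem z_mem : D.z ∈ D.A := Or.inr (Or.inl rfl)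
theorem v_mem : D.v ∈ D.A := Or.inr (Or.inr D.rel)

theorem isSq {a : G} (ha : a ∈ D.A) (h1 : a ≠ 1) : IsSq a := InClique.isSq D.rel.1 ha h1

theorem sq {a : G} (ha : a ∈ D.A) : a * a = 1 := InClique.mul_self D.rel.1 ha

theorem comm {a b : G} (ha : a ∈ D.A) (hb : b ∈ D.A) : a * b = b * a := InClique.comm D.ti ha hb

theorem isMulCommutative : IsMulCommutative D.A :=
  ⟨⟨fun a b => Subtype.ext (D.comm a.2 b.2)⟩⟩

theorem isPGroup : IsPGroup 2 D.A := fun a => ⟨1, Subtype.ext (by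
  rw [pow_one, pow_two, Subgroup.coe_mul, D.sq a.2]; rfl)⟩

/-- Members of the class are related. -/
theorem rel_of {a b : G} (ha : a ∈ D.A) (ha1 : a ≠ 1) (hb : b ∈ D.A) (hb1 : b ≠ 1) (hne : a ≠ b) :
    Rel a b := by
  rcases ha with h | rfl | h
  · exact absurd h ha1
  · exact (hb.resolve_left hb1).resolve_left hne.symm
  · rcases hb with h' | rfl | h'
    · exact absurd h' hb1
    · exact h.symm D.ti
    · exact Rel.trans D.ti h h' hne

theorem exists_rel {a : G} (ha : a ∈ D.A) (ha1 : a ≠ 1) : ∃ b ∈ D.A, Rel a b := by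
  by_cases e : a = D.z
  · exact ⟨D.v, D.v_mem, e ▸ D.rel⟩
  · exact ⟨D.z, D.z_mem, D.rel_of ha ha1 D.z_mem D.rel.1.ne_one e⟩

/-- The class is closed under the relation. -/
theorem mem_of_rel {a b : G} (ha : a ∈ D.A) (ha1 : a ≠ 1) (h : Rel a b) : b ∈ D.A := by
  by_cases e : b = D.z
  · exact Or.inr (Or.inl e)
  rcases ha with h' | rfl | h'
  · exact absurd h' ha1
  · exact Or.inr (Or.inr h)
  · exact Or.inr (Or.inr (Rel.trans D.ti (h'.symm D.ti) h (Ne.symm e)))

theorem mem_of_comm {a b : G} (ha : a ∈ D.A) (ha1 : a ≠ 1) (hb : IsSq b) (hab : a * b = b * a) :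
    b ∈ D.A := by
  by_cases e : a = b
  · exact e ▸ ha
  obtain ⟨c, -, hc⟩ := D.exists_rel ha ha1
  exact D.mem_of_rel ha ha1 (clique_closed D.ti hc hb hab e)

/-- The class is a TI subgroup, with the stabilizer of each of its involutions in the normalizer. -/
theorem conj_mem_of {a g : G} (ha : a ∈ D.A) (ha1 : a ≠ 1) (hg : g * a * g⁻¹ ∈ D.A) :
    ∀ b ∈ D.A, g * b * g⁻¹ ∈ D.A := by
  intro b hb
  by_cases hb1 : b = 1
  · rw [hb1, mul_one, mul_inv_cancel]; exact one_mem _
  by_cases e : a = b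
  · exact e ▸ hg
  · exact D.mem_of_rel hg (fun h => ha1 (conj_eq_one_iff.1 h)) ((D.rel_of ha ha1 hb hb1 e).conj g)

variable [Finite G]

theorem mem_normalizer_of {a g : G} (ha : a ∈ D.A) (ha1 : a ≠ 1) (hg : g * a * g⁻¹ ∈ D.A) :
    g ∈ normalizer (D.A : Set G) :=
  Fusion.le_normalizer_of_conj_mem (D.conj_mem_of ha ha1 hg)

/-- A square normalizing the class lies in it. -/
theorem mem_of_normalizes {b : G} (hb : IsSq b) (hn : b ∈ normalizer (D.A : Set G)) : b ∈ D.A := by
  have hbi : b⁻¹ = b := inv_eq_of_mul_eq_one_right hb.mul_self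
  have hzn : b * D.z * b⁻¹ ∈ D.A := (mem_normalizer_iff.1 hn _).1 D.z_mem
  by_cases e : b * D.z * b⁻¹ = D.z
  · exact D.mem_of_comm D.z_mem D.rel.1.ne_one hb (mul_inv_eq_iff_eq_mul.1 e).symm
  set c := b * D.z * b⁻¹ with hc
  refine D.mem_of_comm (mul_mem D.z_mem hzn) ?_ hb ?_
  · intro h
    refine e ?_
    calc c = D.z * (D.z * c) := by rw [← mul_assoc, D.rel.1.mul_self, one_mul]
      _ = D.z := by rw [h, mul_one]
  · have h1 : b * c * b⁻¹ = D.z := by
      rw [hc, hbi]
      calc b * (b * D.z * b) * b = (b * b) * D.z * (b * b) := by group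
        _ = D.z := by rw [hb.mul_self, one_mul, mul_one]
    refine (mul_inv_eq_iff_eq_mul.1 ?_).symm
    rw [show b * (D.z * c) * b⁻¹ = (b * D.z * b⁻¹) * (b * c * b⁻¹) by group, h1, ← hc]
    exact (D.comm D.z_mem hzn).symm

variable (S : Sylow 2 G) (hS : D.A ≤ (S : Subgroup G))
include hS

theorem sylow_le_normalizer : (S : Subgroup G) ≤ normalizer (D.A : Set G) := by
  haveI : Fact (Nat.Prime 2) := ⟨Nat.prime_two⟩
  by_contra hcon
  set S₀ := (S : Subgroup G) ⊓ normalizer (D.A : Set G) with hS₀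
  obtain ⟨s, hs, hs0, hsc⟩ := exists_normalizer_notMem S.2 (inf_le_left : S₀ ≤ S)
    fun h => hcon (h ▸ inf_le_right)
  refine hs0 ⟨hs, D.mem_normalizer_of D.z_mem D.rel.1.ne_one ?_⟩
  exact D.mem_of_normalizes (D.rel.1.conj s) (hsc D.z ⟨hS D.z_mem, le_normalizer D.z_mem⟩).2

theorem stronglyClosed : Cfsg.IsStronglyClosed D.A (S : Subgroup G) := by
  refine ⟨hS, fun x hx g hg => ?_⟩
  by_cases hx1 : x = 1
  · rw [hx1, mul_one, mul_inv_cancel]; exact one_mem _
  exact D.mem_of_normalizes ((D.isSq hx hx1).conj g) (D.sylow_le_normalizer S hS hg)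

theorem exists_conj (s : G) (hs : s ∈ (S : Subgroup G)) (g : G) (hg : g * s * g⁻¹ ∈ (S : Subgroup G)) :
    ∃ m ∈ normalizer (D.A : Set G), g * s * g⁻¹ = m * s * m⁻¹ := by
  haveI : Fact (Nat.Prime 2) := ⟨Nat.prime_two⟩
  obtain ⟨m, hm, he⟩ := Local.SCAbelian.controls S D.A D.isMulCommutative (D.stronglyClosed S hS)
    (D := zpowers s) (zpowers_le.2 hs) (g := g⁻¹) (fun y hy => by
      rw [Fusion.mem_conjR] at hy
      obtain ⟨k, hk⟩ := mem_zpowers_iff.1 hy
      have : y = (g * s * g⁻¹) ^ k := by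
        rw [conj_zpow, hk]; group
      rw [this]
      exact zpow_mem hg k)
  refine ⟨m⁻¹, inv_mem hm, ?_⟩
  have := he s (mem_zpowers s)
  rwa [inv_inv] at this ⊢

/-- The action of the normalizer on the class. -/
noncomputable def act : normalizer (D.A : Set G) →* Equiv.Perm D.A where
  toFun g :=
    { toFun := fun a => ⟨g * a * (g : G)⁻¹, (mem_normalizer_iff.1 g.2 a).1 a.2⟩
      invFun := fun a => ⟨(g : G)⁻¹ * a * g, by
        have := (mem_normalizer_iff.1 (inv_mem g.2) a).1 a.2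
        rwa [inv_inv] at this⟩
      left_inv := fun a => Subtype.ext (by show (g : G)⁻¹ * (g * a * (g : G)⁻¹) * g = a; group)
      right_inv := fun a => Subtype.ext (by show (g : G) * ((g : G)⁻¹ * a * g) * (g : G)⁻¹ = a; group) }
  map_one' := Equiv.ext fun a => Subtype.ext (by simp)
  map_mul' x y := Equiv.ext fun a => Subtype.ext (by
    show ((x : G) * y) * a * ((x : G) * y)⁻¹ = x * (y * a * (y : G)⁻¹) * (x : G)⁻¹
    group)

omit hS in
/-- The stabilizer of `a` moves a member by at most `a`. -/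
theorem moved {a b g : G} (ha : a ∈ D.A) (ha1 : a ≠ 1) (hb : b ∈ D.A)
    (hg : g * a = a * g) : g * b * g⁻¹ = b ∨ g * b * g⁻¹ = b * a := by
  by_cases hb1 : b = 1
  · left; rw [hb1, mul_one, mul_inv_cancel]
  by_cases e : a = b
  · left; rw [← e, hg, mul_inv_cancel_right]
  have hr := D.rel_of ha ha1 hb hb1 e
  obtain ⟨x, hx⟩ := D.isSq ha ha1
  have hbx : Commute b x := hr.2.2.2.2 x hx
  have hxb : IsRoot (x * b) a :=
    IsRoot.mk' (by rw [hbx.mul_mul_mul_comm, hx.2, D.sq hb, mul_one]) hx.sq_ne hx.sq_sq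
  have hbi : b⁻¹ = b := inv_eq_of_mul_eq_one_right (D.sq hb)
  have hprod : g * (x * b) * g⁻¹ = (g * x * g⁻¹) * (g * b * g⁻¹) := by group
  have hxx : x⁻¹ * x⁻¹ = a := by
    rw [← mul_inv_rev, hx.2]; exact inv_eq_of_mul_eq_one_right hx.sq_sq
  rcases conj_root D.ti hx hg with e1 | e1 <;> rcases conj_root D.ti hxb hg with e2 | e2 <;>
    rw [hprod, e1] at e2
  · exact Or.inl (mul_left_cancel e2)
  · rw [mul_inv_rev, hbi, hbx.inv_right.eq] at e2
    right
    have h3 : g * b * g⁻¹ = x⁻¹ * x⁻¹ * b := by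
      calc g * b * g⁻¹ = x⁻¹ * (x * (g * b * g⁻¹)) := by group
        _ = x⁻¹ * x⁻¹ * b := by rw [e2, ← mul_assoc]
    rw [h3, hxx, D.comm ha hb]
  · right
    have h3 : g * b * g⁻¹ = x * x * b := by
      calc g * b * g⁻¹ = x * (x⁻¹ * (g * b * g⁻¹)) := by group
        _ = x * x * b := by rw [e2, ← mul_assoc]
    rw [h3, hx.2, D.comm ha hb]
  · rw [mul_inv_rev, hbi, hbx.inv_right.eq] at e2
    exact Or.inl (mul_left_cancel e2)

/-- A Sylow two-subgroup centralizes the class. -/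
theorem sylow_cent [IsSimpleGroup G] (hG : ¬ IsMulCommutative G) {s a : G}
    (hs : s ∈ (S : Subgroup G)) (ha : a ∈ D.A) : s * a = a * s := by
  classical
  haveI : Fact (Nat.Prime 2) := ⟨Nat.prime_two⟩
  haveI := Fintype.ofFinite D.A
  have hN := D.sylow_le_normalizer S hS
  let ψ : normalizer (D.A : Set G) →* ℤˣ := Equiv.Perm.sign.comp (D.act)
  let K : Subgroup G := ψ.ker.map (normalizer (D.A : Set G)).subtype
  have hK : (S : Subgroup G) ≤ K := by
    refine sylow_le_of_fusion hG S K fun r hr g hg => ?_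
    obtain ⟨m, hm, e⟩ := D.exists_conj S hS r hr g hg
    refine ⟨⟨r, hN hr⟩⁻¹ * (⟨m, hm⟩ * ⟨r, hN hr⟩ * ⟨m, hm⟩⁻¹), MonoidHom.mem_ker.2 ?_, ?_⟩
    · rw [map_mul, map_mul, map_mul, map_inv, map_inv, mul_comm (ψ ⟨m, hm⟩), mul_inv_cancel_right,
        inv_mul_cancel]
    · simp [e]
  obtain ⟨⟨s', hsN⟩, hker, rfl⟩ := hK hs
  replace hker : ψ ⟨s', hsN⟩ = 1 := hker
  replace hs : s' ∈ (S : Subgroup G) := hs
  show s' * a = a * s'
  set σ := D.act ⟨s', hsN⟩ with hσ
  have hσa : ∀ b : D.A, (σ b : G) = s' * b * s'⁻¹ := fun _ => rfl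
  -- a fixed point
  obtain ⟨c, hc, hc1, hcs⟩ : ∃ c ∈ D.A, c ≠ 1 ∧ s' * c = c * s' := by
    let Q : Subgroup G := zpowers s'
    have hQ : IsPGroup 2 Q := S.2.to_le (zpowers_le.2 hs)
    have hQn : Q ≤ normalizer (D.A : Set G) := zpowers_le.2 hsN
    letI : MulAction Q D.A := MulAction.compHom _ ((D.act).comp (Subgroup.inclusion hQn))
    have h2 : 2 ∣ Nat.card D.A :=
      dvd_trans (by rw [D.rel.1.orderOf]) (Subgroup.orderOf_dvd_natCard _ D.z_mem)
    have h1 : (1 : D.A) ∈ MulAction.fixedPoints Q D.A := fun q => Subtype.ext (by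
      show (q : G) * (1 : G) * (q : G)⁻¹ = 1
      group)
    obtain ⟨c, hc, hne⟩ := hQ.exists_fixed_point_of_prime_dvd_card_of_fixed_point _ h2 h1
    refine ⟨c, c.2, fun h => hne (Subtype.ext h.symm), ?_⟩
    exact mul_inv_eq_iff_eq_mul.1 (congrArg Subtype.val (hc ⟨s', mem_zpowers s'⟩))
  by_contra hcon
  have hmov : s' * a * s'⁻¹ = a * c :=
    (D.moved hc hc1 ha hcs).resolve_left fun h => hcon (mul_inv_eq_iff_eq_mul.1 h)
  have ha1 : a ≠ 1 := fun h => hcon (by rw [h, mul_one, one_mul])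
  have hac : a ≠ c := fun h => hcon (h ▸ hcs)
  have hsc : s' * c * s'⁻¹ = c := mul_inv_eq_iff_eq_mul.2 hcs
  -- no further members
  have hall : ∀ b ∈ D.A, s' * b * s'⁻¹ ≠ b → b = a ∨ b = a * c := by
    intro b hb hbm
    have hbm' := (D.moved hc hc1 hb hcs).resolve_left hbm
    by_contra hno
    push Not at hno
    have hu : a * b ∈ D.A := mul_mem ha hb
    have hu1 : a * b ≠ 1 := fun h => hno.1 (by
      calc b = a * (a * b) := by rw [← mul_assoc, D.sq ha, one_mul]
        _ = a := by rw [h, mul_one])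
    have huf : s' * (a * b) = a * b * s' := by
      refine mul_inv_eq_iff_eq_mul.1 ?_
      rw [show s' * (a * b) * s'⁻¹ = (s' * a * s'⁻¹) * (s' * b * s'⁻¹) by group, hmov, hbm',
        mul_assoc, ← mul_assoc c, D.comm hc hb, mul_assoc b, D.sq hc, mul_one]
    rcases D.moved hu hu1 ha huf with h | h
    · exact hcon (mul_inv_eq_iff_eq_mul.1 h)
    · rw [hmov] at h
      refine hno.2 ?_
      calc b = a * (a * b) := by rw [← mul_assoc, D.sq ha, one_mul]
        _ = a * c := by rw [mul_left_cancel h]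
  have hswap : σ = Equiv.swap ⟨a, ha⟩ ⟨a * c, mul_mem ha hc⟩ := by
    refine Equiv.ext fun b => ?_
    refine Subtype.ext ?_
    rw [hσa]
    rcases eq_or_ne (b : G) a with e | e
    · rw [show b = ⟨a, ha⟩ from Subtype.ext e, Equiv.swap_apply_left]
      exact hmov
    rcases eq_or_ne (b : G) (a * c) with e' | e'
    · rw [show b = ⟨a * c, mul_mem ha hc⟩ from Subtype.ext e', Equiv.swap_apply_right]
      show s' * (a * c) * s'⁻¹ = a
      rw [show s' * (a * c) * s'⁻¹ = (s' * a * s'⁻¹) * (s' * c * s'⁻¹) by group, hmov, hsc,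
        mul_assoc, D.sq hc, mul_one]
    · rw [Equiv.swap_apply_of_ne_of_ne (fun h => e (congrArg Subtype.val h))
        (fun h => e' (congrArg Subtype.val h))]
      by_contra hb
      rcases hall b b.2 hb with h | h
      exacts [e h, e' h]
  have hne2 : (⟨a, ha⟩ : D.A) ≠ ⟨a * c, mul_mem ha hc⟩ := fun h =>
    hc1 (left_eq_mul.1 (congrArg Subtype.val h))
  have : Equiv.Perm.sign σ = 1 := hker
  rw [hswap, Equiv.Perm.sign_swap hne2] at this
  exact absurd this (by decide)

/-- A Sylow two-subgroup centralizes the roots. -/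
theorem sylow_cent_root [IsSimpleGroup G] (hG : ¬ IsMulCommutative G) {s a y : G}
    (hs : s ∈ (S : Subgroup G)) (ha : a ∈ D.A) (ha1 : a ≠ 1) (hy : IsRoot y a) :
    s * y = y * s := by
  haveI : Fact (Nat.Prime 2) := ⟨Nat.prime_two⟩
  -- centralizing one root means centralizing all
  have key : ∀ r : G, (∀ c ∈ D.A, r * c = c * r) → ∀ {c c' w w' : G}, c ∈ D.A → c ≠ 1 → c' ∈ D.A →
      c' ≠ 1 → IsRoot w c → IsRoot w' c' → r * w = w * r → r * w' = w' * r := by
    intro r hr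
    have step : ∀ {c c' w w' : G}, c ∈ D.A → c ≠ 1 → c' ∈ D.A → c' ≠ 1 → c ≠ c' → IsRoot w c →
        IsRoot w' c' → r * w = w * r → r * w' = w' * r := by
      intro c c' w w' hc hc1 hc' hc'1 hne hw hw' hrw
      have hrel := D.rel_of hc hc1 hc' hc'1 hne
      have hww := hrel.roots_comm D.ti hw hw'
      have hrt : IsRoot (w * w') (c * c') := IsRoot.mk'
        (by rw [(show Commute w w' from hww).symm.mul_mul_mul_comm, hw.2, hw'.2])
        (hrel.mul D.ti).2.1.ne_one (hrel.mul D.ti).2.1.mul_self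
      rcases conj_root D.ti hw' (hr c' hc') with e | e
      · exact mul_inv_eq_iff_eq_mul.1 e
      exfalso
      have hprod : r * (w * w') * r⁻¹ = w * (r * w' * r⁻¹) := by
        rw [show r * (w * w') * r⁻¹ = (r * w * r⁻¹) * (r * w' * r⁻¹) by group,
          mul_inv_eq_iff_eq_mul.2 hrw]
      rcases conj_root D.ti hrt (hr _ (mul_mem hc hc')) with e2 | e2 <;> rw [hprod, e] at e2
      · exact hw'.inv_ne (mul_left_cancel e2)
      · rw [mul_inv_rev, (show Commute w w'⁻¹ from (show Commute w w' from hww).inv_right).eq] at e2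
        exact hw.inv_ne (mul_left_cancel e2).symm
    intro c c' w w' hc hc1 hc' hc'1 hw hw' hrw
    by_cases e : c = c'
    · subst e
      obtain ⟨d, hd, hrel⟩ := D.exists_rel hc hc1
      obtain ⟨w'', hw''⟩ := hrel.2.1
      exact step hd hrel.2.1.ne_one hc hc1 hrel.2.2.1.symm hw'' hw'
        (step hc hc1 hd hrel.2.1.ne_one hrel.2.2.1 hw hw'' hrw)
    · exact step hc hc1 hc' hc'1 e hw hw' hrw
  let W : Set G := {w | ∃ c ∈ D.A, IsRoot w c}
  let L : Subgroup G := (S : Subgroup G) ⊓ centralizer W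
  have hL : ∀ r ∈ (S : Subgroup G), ∀ {c w : G}, c ∈ D.A → IsRoot w c → r * w = w * r → r ∈ L := by
    intro r hr c w hc hw hrw
    refine ⟨hr, mem_centralizer_iff.2 ?_⟩
    rintro w' ⟨c', hc', hw'⟩
    exact (key r (fun d hd => D.sylow_cent S hS hG hr hd) hc hw.sq_ne hc' hw'.sq_ne hw hw' hrw).symm
  have hfus : (S : Subgroup G) ≤ L := by
    refine sylow_le_of_fusion hG S L fun r hr g hg => ?_
    obtain ⟨m, hm, e⟩ := D.exists_conj S hS r hr g hg
    have hcr : ∀ d ∈ D.A, r * d = d * r := fun d hd => D.sylow_cent S hS hG hr hd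
    refine hL _ (mul_mem (inv_mem hr) hg) ha hy ?_
    set r' := g * r * g⁻¹ with hr'
    have hma : m⁻¹ * a * m ∈ D.A := by
      have := (mem_normalizer_iff.1 (inv_mem hm) a).1 ha
      rwa [inv_inv] at this
    have hmy : IsRoot (m⁻¹ * y * m) (m⁻¹ * a * m) := by
      have := hy.conj m⁻¹; rwa [inv_inv] at this
    have hm1 : r' * y * r'⁻¹ = m * (r * (m⁻¹ * y * m) * r⁻¹) * m⁻¹ := by rw [e]; group
    refine mul_inv_eq_iff_eq_mul.1 ?_
    rw [show r⁻¹ * r' * y * (r⁻¹ * r')⁻¹ = r⁻¹ * (r' * y * r'⁻¹) * r by group]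
    rcases conj_root D.ti hy (hcr a ha) with e1 | e1
    · have h2 := key r hcr ha ha1 hma hmy.sq_ne hy hmy (mul_inv_eq_iff_eq_mul.1 e1)
      rw [hm1, h2, mul_inv_cancel_right, show m * (m⁻¹ * y * m) * m⁻¹ = y by group, mul_assoc,
        ← mul_inv_eq_iff_eq_mul.1 e1]
      group
    · have h2 : r * (m⁻¹ * y * m) * r⁻¹ = (m⁻¹ * y * m)⁻¹ :=
        (conj_root D.ti hmy (hcr _ hma)).resolve_left fun h2 => hy.inv_ne
          (e1.symm.trans (mul_inv_eq_iff_eq_mul.2
            (key r hcr hma hmy.sq_ne ha ha1 hmy hy (mul_inv_eq_iff_eq_mul.1 h2))))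
      rw [hm1, h2, show m * (m⁻¹ * y * m)⁻¹ * m⁻¹ = y⁻¹ by group, ← e1]
      group
  exact ((mem_centralizer_iff.1 (hfus hs).2) y ⟨a, ha, hy⟩).symm

/-- A Sylow two-subgroup is abelian. -/
theorem sylow_abelian [IsSimpleGroup G] (hG : ¬ IsMulCommutative G) :
    IsMulCommutative (S : Subgroup G) := by
  haveI : Fact (Nat.Prime 2) := ⟨Nat.prime_two⟩
  have hord : ∀ y ∈ (S : Subgroup G), ∃ k, orderOf y = 2 ^ k := fun y hy => by
    obtain ⟨k, hk⟩ := IsPGroup.iff_orderOf.1 S.2 ⟨y, hy⟩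
    exact ⟨k, by rw [← hk, orderOf_mk]⟩
  -- roots of members are central
  have hroot : ∀ y ∈ (S : Subgroup G), ∀ b, IsRoot y b → ∀ s ∈ (S : Subgroup G), s * y = y * s := by
    intro y hy b hb s hs
    refine D.sylow_cent_root S hS hG hs ?_ hb.sq_ne hb
    exact D.mem_of_comm D.z_mem D.rel.1.ne_one ⟨y, hb⟩
      (D.sylow_cent S hS hG (hb.2 ▸ mul_mem hy hy) D.z_mem).symm
  have hsmall : ∀ y ∈ (S : Subgroup G), y ^ 4 = 1 → ∀ s ∈ (S : Subgroup G), s * y = y * s := by
    intro y hy h4 s hs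
    by_cases h2 : y * y = 1
    · obtain ⟨x, hx⟩ := D.rel.1
      have hyx : y * x = x * y := D.sylow_cent_root S hS hG hy D.z_mem D.rel.1.ne_one hx
      have hrt : IsRoot (x * y) D.z :=
        IsRoot.mk' (by rw [(show Commute y x from hyx).mul_mul_mul_comm, hx.2, h2, mul_one]) hx.sq_ne hx.sq_sq
      have h1 := D.sylow_cent_root S hS hG hs D.z_mem D.rel.1.ne_one hrt
      have h3 := D.sylow_cent_root S hS hG hs D.z_mem D.rel.1.ne_one hx
      refine mul_left_cancel (a := x) ?_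
      rw [← mul_assoc, ← h3, mul_assoc, h1, mul_assoc]
    · refine hroot y hy _ (IsRoot.mk' rfl h2 ?_) s hs
      rw [← h4]; simp [pow_succ, mul_assoc]
  -- induction on the order
  suffices key : ∀ n, ∀ g ∈ (S : Subgroup G), orderOf g = 2 ^ n →
      ∀ y ∈ (S : Subgroup G), g * y = y * g by
    exact ⟨⟨fun a b => Subtype.ext (by
      obtain ⟨k, hk⟩ := hord a a.2
      exact key k a a.2 hk b b.2)⟩⟩
  intro n
  induction n using Nat.strong_induction_on with
  | _ n ih =>
  intro g hg hgn y hy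
  obtain ⟨m, hym⟩ := hord y hy
  by_contra hne
  have hmn : n ≤ m := by
    by_contra hlt
    exact hne (ih m (by omega) y hy hym g hg).symm
  have hn : 3 ≤ n := by
    by_contra hlt
    refine hne ?_
    have h4 : g ^ 4 = 1 := by
      rw [← orderOf_dvd_iff_pow_eq_one, hgn]
      exact (pow_dvd_pow 2 (show n ≤ 2 by omega)).trans (by norm_num)
    exact (hsmall g hg h4 y hy).symm
  -- the two involutions
  have hsq : ∀ {w : G} {k : ℕ}, orderOf w = 2 ^ k → 2 ≤ k → IsSq (w ^ 2 ^ (k - 1)) := by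
    intro w k hw hk
    refine ⟨w ^ 2 ^ (k - 2), IsRoot.mk' ?_ ?_ ?_⟩
    · rw [← pow_add, ← two_mul, ← pow_succ', show k - 2 + 1 = k - 1 by omega]
    · refine pow_ne_one_of_lt_orderOf (pow_ne_zero _ two_ne_zero) ?_
      rw [hw]; exact Nat.pow_lt_pow_right (by norm_num) (by omega)
    · rw [← pow_add, ← two_mul, ← pow_succ', show k - 1 + 1 = k by omega, ← hw, pow_orderOf_eq_one]
  have hA : ∀ {w : G} {k : ℕ}, w ∈ (S : Subgroup G) → orderOf w = 2 ^ k → 2 ≤ k →
      w ^ 2 ^ (k - 1) ∈ D.A := fun {w k} hwS hw hk =>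
    D.mem_of_comm D.z_mem D.rel.1.ne_one (hsq hw hk) (D.sylow_cent S hS hG (pow_mem hwS _) D.z_mem).symm
  have hnorm : ∀ {w r : G} {k : ℕ}, w ∈ (S : Subgroup G) → r ∈ (S : Subgroup G) → orderOf w = 2 ^ k →
      2 ≤ k → r * w * r⁻¹ ∈ zpowers w := fun {w r k} hwS hrS hw hk =>
    D.ti.conj_mem Nat.prime_two hw (hsq hw hk).ne_one (D.sylow_cent S hS hG hrS (hA hwS hw hk))
  set c := g * y * g⁻¹ * y⁻¹ with hc
  have hcy : c ∈ zpowers y := mul_mem (hnorm hy hg hym (by omega)) (inv_mem (mem_zpowers y))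
  have hcg : c ∈ zpowers g := by
    rw [hc, show g * y * g⁻¹ * y⁻¹ = g * (y * g⁻¹ * y⁻¹) by group]
    refine mul_mem (mem_zpowers g) ?_
    rw [show y * g⁻¹ * y⁻¹ = (y * g * y⁻¹)⁻¹ by group]
    exact inv_mem (hnorm hg hy hgn (by omega))
  have hc1 : c ≠ 1 := fun h => hne (mul_inv_eq_iff_eq_mul.1 (mul_inv_eq_one.1 h))
  have hyc : Commute y c := by
    obtain ⟨i, hi⟩ := mem_zpowers_iff.1 hcy
    exact hi ▸ (Commute.refl y).zpow_right i
  have hgc : Commute g c := by
    obtain ⟨i, hi⟩ := mem_zpowers_iff.1 hcg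
    exact hi ▸ (Commute.refl g).zpow_right i
  have hgy : g * y = c * (y * g) := by rw [hc]; group
  have hpow : ∀ i : ℕ, g * y ^ i = c ^ i * (y ^ i * g) := by
    intro i
    induction i with
    | zero => simp
    | succ i ihh =>
      rw [pow_succ y i, ← mul_assoc, ihh, pow_succ c i]
      simp only [mul_assoc]
      rw [hgy]
      simp only [← mul_assoc]
      rw [mul_assoc (c ^ i) (y ^ i) c, (hyc.pow_left i).eq, ← mul_assoc]
  -- the commutator is an involution
  have hc2 : c * c = 1 := by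
    have h2 : g ^ 2 * y = y * g ^ 2 := by
      refine ih (n - 1) (by omega) (g ^ 2) (pow_mem hg 2) ?_ y hy
      rw [orderOf_pow, hgn, show 2 ^ n = 2 ^ (n - 1) * 2 by rw [← pow_succ]; congr 1; omega,
        Nat.gcd_eq_right ⟨2 ^ (n - 1), mul_comm _ _⟩, Nat.mul_div_cancel _ two_pos]
    have : g ^ 2 * y = c * c * (y * g ^ 2) := by
      rw [pow_two, mul_assoc, hgy, ← mul_assoc, hgc.eq, mul_assoc c g, ← mul_assoc g y g, hgy]
      simp only [mul_assoc]
    rw [h2] at this
    exact (mul_eq_right.1 this.symm)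
  have hinv : ∀ {w : G} {k : ℕ}, orderOf w = 2 ^ k → c ∈ zpowers w → 2 ≤ k → c = w ^ 2 ^ (k - 1) := by
    intro w k hw hcw hk
    exact Invol.eq_of_pow_two_group_cyclic (C := zpowers w) inferInstance hcw (pow_mem (mem_zpowers w) _)
      (Invol.orderOf_eq_two_of hc1 hc2) (hsq hw hk).orderOf
  have hcg' := hinv hgn hcg (by omega)
  have hcy' := hinv hym hcy (by omega)
  -- lower the order
  set e := y ^ 2 ^ (m - n) with he
  set g' := g * e with hg'
  have hge : g * e = c ^ 2 ^ (m - n) * (e * g) := hpow _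
  have hce : Commute e c := hyc.pow_left _
  have hsqr : g' ^ 2 = c ^ 2 ^ (m - n) * (e ^ 2 * g ^ 2) ∨ g' ^ 2 = c ^ 2 ^ (m - n) * (g ^ 2 * e ^ 2) := by
    right
    have heg : e * g = (c ^ 2 ^ (m - n))⁻¹ * (g * e) := by rw [hge]; group
    have hci : (c ^ 2 ^ (m - n))⁻¹ = c ^ 2 ^ (m - n) :=
      inv_eq_of_mul_eq_one_right (by rw [← mul_pow' hc2])
    rw [hg', pow_two, mul_assoc, ← mul_assoc e g e, heg, hci, pow_two, pow_two]
    simp only [← mul_assoc]
    rw [(hgc.pow_right _).eq]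
  have hg2 : Commute (g ^ 2) (e ^ 2) := by
    refine (Commute.pow_right ?_ 2)
    exact ih (n - 1) (by omega) (g ^ 2) (pow_mem hg 2) (by
      rw [orderOf_pow, hgn, show 2 ^ n = 2 ^ (n - 1) * 2 by rw [← pow_succ]; congr 1; omega,
        Nat.gcd_eq_right ⟨2 ^ (n - 1), mul_comm _ _⟩, Nat.mul_div_cancel _ two_pos]) e (pow_mem hy _)
  have hsq' : g' ^ 2 = c ^ 2 ^ (m - n) * (g ^ 2 * e ^ 2) := hsqr.elim (fun h => by rw [h, hg2.eq]) id
  have hcg2 : Commute (c ^ 2 ^ (m - n)) (g ^ 2 * e ^ 2) :=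
    ((hgc.symm.pow_right 2).mul_right (hce.symm.pow_right 2)).pow_left _
  have hg'n : g' ^ 2 ^ (n - 1) = 1 := by
    rw [show 2 ^ (n - 1) = 2 * 2 ^ (n - 2) by rw [← pow_succ']; congr 1; omega, pow_mul, hsq',
      hcg2.mul_pow, hg2.mul_pow, ← pow_mul, ← pow_mul, ← pow_mul,
      show 2 ^ (m - n) * 2 ^ (n - 2) = 2 * 2 ^ (m - 3) by rw [← pow_add, ← pow_succ']; congr 1; omega,
      pow_mul, pow_two c, hc2, one_pow, one_mul, show 2 * 2 ^ (n - 2) = 2 ^ (n - 1) by
        rw [← pow_succ']; congr 1; omega, ← hcg', he, ← pow_mul,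
      show 2 ^ (m - n) * 2 ^ (n - 1) = 2 ^ (m - 1) by rw [← pow_add]; congr 1; omega, ← hcy', hc2]
  obtain ⟨j, hj, hjo⟩ := (Nat.dvd_prime_pow Nat.prime_two).1 (orderOf_dvd_of_pow_eq_one hg'n)
  have h1 : g' * y = y * g' := ih j (by omega) g' (mul_mem hg (pow_mem hy _)) hjo y hy
  refine hne ?_
  have hey : e * y = y * e := ((Commute.refl y).pow_left _).eq
  refine mul_right_cancel (b := e) ?_
  rw [mul_assoc, ← hey, ← mul_assoc, ← hg', h1, hg', mul_assoc]
where
  mul_pow' {c : G} (hc2 : c * c = 1) {k : ℕ} : 1 = c ^ k * c ^ k := by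
    rw [← (Commute.refl c).mul_pow, hc2, one_pow]

end Data

end Cfsg.Lib.TICyclic
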