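import Cfsg.Agent.Lib.TICyclic.Outer
import Cfsg.Agent.Lib.Kondo.Transfer
import Cfsg.Agent.Lib.MinNonCA.TwoBase
import Cfsg.Agent.Lib.GW.Basic
import Cfsg.Agent.Lib.Invol.Basic

/-!
# Without centralizing pairs a Sylow two-subgroup is dihedral

By transfer each coset of the involutions of `T` outside `T` contains a square, and modulo the subgroup
`L` generated by the squares and the second powers of `T` fusion is trivial; so `L` is the Sylow
subgroup, which bounds the involutions of `T`.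
-/

set_option autoImplicit false
set_option linter.unusedSectionVars false
set_option linter.style.haveILetI false

namespace Cfsg.Lib.TICyclic

open Subgroup Cfsg.Lib

variable {G : Type*} [Group G] [Finite G] [IsSimpleGroup G]

/-- A two-group centralizing with the Sylow subgroup goes into it inside the centralizer. -/
theorem exists_conj_into (S : Sylow 2 G) (C : Subgroup G) (hSC : (S : Subgroup G) ≤ C) {Q : Subgroup G}
    (hQ : IsPGroup 2 Q) (hQC : Q ≤ C) : ∃ c ∈ C, ∀ y ∈ Q, c * y * c⁻¹ ∈ (S : Subgroup G) := by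
  haveI : Fact (Nat.Prime 2) := ⟨Nat.prime_two⟩
  obtain ⟨P, hP⟩ := (hQ.comap_subtype (K := C)).exists_le_sylow
  obtain ⟨c, hc⟩ := MulAction.exists_smul_eq C P (S.subtype hSC)
  refine ⟨c, c.2, fun y hy => ?_⟩
  have h : c * ⟨y, hQC hy⟩ * c⁻¹ ∈ ((S.subtype hSC : Sylow 2 C) : Subgroup C) := by
    rw [← hc, Sylow.coe_subgroup_smul]
    exact ⟨_, hP hy, rfl⟩
  exact h

namespace Outer

variable (D : Outer G)

/-- The involutions of `T`, with one. -/
def U : Subgroup G where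
  carrier := {u | u ∈ D.T ∧ u * u = 1}
  one_mem' := ⟨one_mem _, one_mul 1⟩
  mul_mem' := fun {a b} ha hb => ⟨mul_mem ha.1 hb.1, by
    rw [(show Commute b a from D.T_comm hb.1 ha.1).mul_mul_mul_comm, ha.2, hb.2, one_mul]⟩
  inv_mem' := fun {a} ha => ⟨inv_mem ha.1, by rw [← mul_inv_rev, ha.2, inv_one]⟩

theorem mem_U {u : G} : u ∈ D.U ↔ u ∈ D.T ∧ u * u = 1 := Iff.rfl

theorem U_le_S : D.U ≤ (D.S : Subgroup G) := fun _ hu => (D.mem_T.1 hu.1).1

theorem U_central {u s : G} (hu : u ∈ D.U) (hs : s ∈ (D.S : Subgroup G)) : s * u = u * s :=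
  D.central_of_sq hu.1 hu.2 hs

theorem z_mem_U : D.z ∈ D.U := ⟨D.z_mem_T, D.root.sq_sq⟩

theorem outer_ne_one {t : G} (htT : t ∉ D.T) : t ≠ 1 := fun h => htT (h ▸ one_mem _)

/-- The centralizer of an outer element. -/
theorem cent_outer {t y : G} (ht : t ∈ (D.S : Subgroup G)) (htT : t ∉ D.T)
    (hy : y ∈ (D.S : Subgroup G)) (hc : t * y = y * t) : y ∈ D.U ∨ t * y ∈ D.U := by
  have key : ∀ {g : G}, g ∈ D.T → t * g = g * t → g ∈ D.U := fun {g} hg hcg => ⟨hg, by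
    have h := D.inverts_T ht htT hg
    rw [mul_inv_eq_iff_eq_mul.2 hcg] at h
    nth_rewrite 1 [h]
    exact inv_mul_cancel g⟩
  by_cases hyT : y ∈ D.T
  · exact Or.inl (key hyT hc)
  · refine Or.inr (key (D.mul_outer ht hy htT hyT) ?_)
    rw [mul_assoc t y t, ← hc]

/-- The centralizer of an outer involution in the Sylow subgroup. -/
def F (t : G) : Subgroup G := (D.S : Subgroup G) ⊓ centralizer ({t} : Set G)

theorem mem_F {t y : G} : y ∈ D.F t ↔ y ∈ (D.S : Subgroup G) ∧ y * t = t * y := by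
  rw [F, Subgroup.mem_inf, mem_centralizer_singleton_iff]

theorem U_le_F {t : G} (ht : t ∈ (D.S : Subgroup G)) : D.U ≤ D.F t := fun _ hu =>
  D.mem_F.2 ⟨D.U_le_S hu, (D.U_central hu ht).symm⟩

theorem F_isPGroup (t : G) : IsPGroup 2 (D.F t) := D.S.2.to_le inf_le_left

theorem mem_F_iff {t y : G} (ht : t ∈ (D.S : Subgroup G)) (htT : t ∉ D.T) :
    y ∈ D.F t ↔ y ∈ D.U ∨ t * y ∈ D.U := by
  constructor
  · intro h
    exact D.cent_outer ht htT (D.mem_F.1 h).1 (D.mem_F.1 h).2.symm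
  · rintro (h | h)
    · exact D.U_le_F ht h
    · have h1 : y = t * (t * y) := by rw [← mul_assoc, D.outer_sq ht htT, one_mul]
      rw [h1]
      exact mul_mem (D.mem_F.2 ⟨ht, rfl⟩) (D.U_le_F ht h)

theorem F_comm {t a b : G} (ht : t ∈ (D.S : Subgroup G)) (htT : t ∉ D.T) (ha : a ∈ D.F t)
    (hb : b ∈ D.F t) : a * b = b * a := by
  have haS := (D.mem_F.1 ha).1
  have hbS := (D.mem_F.1 hb).1
  rcases (D.mem_F_iff ht htT).1 ha with h | h
  · exact (D.U_central h hbS).symm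
  rcases (D.mem_F_iff ht htT).1 hb with h' | h'
  · exact D.U_central h' haS
  have key : ∀ {c : G}, c = t * (t * c) := fun {c} => by rw [← mul_assoc, D.outer_sq ht htT, one_mul]
  have hta : Commute t (t * a) := D.U_central h ht
  have htb : Commute t (t * b) := D.U_central h' ht
  have hab : Commute (t * a) (t * b) := D.U_central h' (D.U_le_S h)
  rw [key (c := a), key (c := b)]
  exact (((Commute.refl t).mul_right htb).mul_left (hta.symm.mul_right hab)).eq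

theorem card_F {t : G} (ht : t ∈ (D.S : Subgroup G)) (htT : t ∉ D.T) :
    Nat.card (D.F t) = 2 * Nat.card D.U := by
  classical
  let f : Bool × D.U → D.F t := fun p => ⟨(if p.1 then t else 1) * p.2, by
    refine mul_mem ?_ (D.U_le_F ht p.2.2)
    split
    · exact D.mem_F.2 ⟨ht, rfl⟩
    · exact one_mem _⟩
  have hf : Function.Bijective f := by
    refine ⟨?_, fun y => ?_⟩
    · rintro ⟨b, u⟩ ⟨b', u'⟩ h
      have h' : (if b then t else 1) * (u : G) = (if b' then t else 1) * u' := congrArg Subtype.val h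
      cases b <;> cases b' <;> simp only [Bool.false_eq_true, if_false, if_true, one_mul] at h'
      · rw [Subtype.ext h']
      · exact absurd (by rw [eq_mul_inv_of_mul_eq h'.symm]; exact mul_mem u.2.1 (inv_mem u'.2.1)) htT
      · exact absurd (by rw [eq_mul_inv_of_mul_eq h']; exact mul_mem u'.2.1 (inv_mem u.2.1)) htT
      · rw [Subtype.ext (mul_left_cancel h')]
    · rcases (D.mem_F_iff ht htT).1 y.2 with h | h
      · exact ⟨(false, ⟨y, h⟩), Subtype.ext (by simp [f])⟩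
      · refine ⟨(true, ⟨t * y, h⟩), Subtype.ext ?_⟩
        show (if true = true then t else 1) * (t * (y : G)) = y
        rw [if_pos rfl, ← mul_assoc, D.outer_sq ht htT, one_mul]
  rw [← Nat.card_congr (Equiv.ofBijective f hf), Nat.card_prod, Nat.card_eq_fintype_card (α := Bool),
    Fintype.card_bool]

/-- A conjugate of `F t` in the Sylow subgroup with an outer element is the centralizer of it. -/
theorem F_image {t w g : G} (ht : t ∈ (D.S : Subgroup G)) (htT : t ∉ D.T)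
    (hg : ∀ y ∈ D.F t, g * y * g⁻¹ ∈ (D.S : Subgroup G)) (hw : w ∈ D.F t) (hwT : g * w * g⁻¹ ∉ D.T)
    {c : G} (hc : c ∈ D.F (g * w * g⁻¹)) : ∃ y ∈ D.F t, g * y * g⁻¹ = c := by
  have hwS := hg w hw
  have hle : (D.F t).map (MulAut.conj g).toMonoidHom ≤ D.F (g * w * g⁻¹) := by
    rintro _ ⟨y, hy, rfl⟩
    refine D.mem_F.2 ⟨hg y hy, ?_⟩
    exact ((Commute.conj_iff g).2 (D.F_comm ht htT hy hw)).eq
  have he := eq_of_le_of_card_ge hle (by
    rw [card_map_of_injective (MulAut.conj g).injective, D.card_F ht htT, D.card_F hwS hwT])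
  rw [← he] at hc
  obtain ⟨y, hy, rfl⟩ := hc
  exact ⟨y, hy, rfl⟩

include D in
theorem not_index_two (H : Subgroup G) [H.Normal] : H.index ≠ 2 := by
  intro h
  rcases (inferInstance : H.Normal).eq_bot_or_eq_top with rfl | rfl
  · rw [index_bot] at h
    haveI : Fact (Nat.Prime 2) := ⟨Nat.prime_two⟩
    haveI := isCyclic_of_prime_card h
    exact D.na IsCyclic.isMulCommutative
  · rw [index_top] at h
    omega

/-- The character of the Sylow subgroup with kernel `T`. -/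
noncomputable def phi : (D.S : Subgroup G) →* ℤˣ := by
  classical
  exact
  { toFun := fun s => if (s : G) ∈ D.T then 1 else -1
    map_one' := by simp [one_mem]
    map_mul' := fun a b => by
      by_cases ha : (a : G) ∈ D.T <;> by_cases hb : (b : G) ∈ D.T
      · simp [ha, hb, mul_mem ha hb]
      · have : (a : G) * b ∉ D.T := fun h => hb (by simpa using mul_mem (inv_mem ha) h)
        simp [ha, hb, this]
      · have : (a : G) * b ∉ D.T := fun h => ha (by simpa using mul_mem h (inv_mem hb))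
        simp [ha, hb, this]
      · simp [ha, hb, D.mul_outer a.2 b.2 ha hb] }

theorem phi_eq_one {s : (D.S : Subgroup G)} (h : D.phi s = 1) : (s : G) ∈ D.T := by
  by_contra hs
  simp [phi, hs] at h

/-- All squares are conjugate. -/
theorem exists_conj_z {b : G} (hb : IsSq b) : ∃ m : G, m * b * m⁻¹ = D.z := by
  haveI : Fact (Nat.Prime 2) := ⟨Nat.prime_two⟩
  obtain ⟨y, hy⟩ := hb
  obtain ⟨S', hyS, hcen⟩ : ∃ S' : Sylow 2 G, y ∈ (S' : Subgroup G) ∧
      ∀ s ∈ (S' : Subgroup G), s * b = b * s := exists_outer_data D.ti D.no hy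
  obtain ⟨m, hm⟩ := MulAction.exists_smul_eq G S' D.S
  have hmem : ∀ a ∈ (S' : Subgroup G), m * a * m⁻¹ ∈ (D.S : Subgroup G) := fun a ha => by
    rw [← hm, Sylow.coe_subgroup_smul]
    exact ⟨a, ha, rfl⟩
  refine ⟨m, D.eq_z_of_central (IsSq.conj ⟨y, hy⟩ m) (hmem b (hy.2 ▸ mul_mem hyS hyS)) ?_⟩
  have hx : m⁻¹ * D.x * m ∈ (S' : Subgroup G) := by
    have h := D.x_mem
    rw [← hm, Sylow.coe_subgroup_smul] at h
    obtain ⟨a, ha, he⟩ := h
    have he' : m * a * m⁻¹ = D.x := he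
    rwa [← he', show m⁻¹ * (m * a * m⁻¹) * m = a by group]
  have := ((Commute.conj_iff m).2 (hcen _ hx).symm).eq
  rwa [show m * (m⁻¹ * D.x * m) * m⁻¹ = D.x by group] at this

/-- Transfer: each outer coset of `U` contains a square. -/
theorem exists_sq_coset {t : G} (ht : t ∈ (D.S : Subgroup G)) (htT : t ∉ D.T) :
    ∃ u ∈ D.U, IsSq (t * u) := by
  haveI : Fact (Nat.Prime 2) := ⟨Nat.prime_two⟩
  have ht2 := D.outer_sq ht htT
  obtain ⟨g₀, hg₀, hφ, -⟩ := Cfsg.Agent.Kondo.exists_extremal_conj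
    (fun H hH => @Outer.not_index_two G _ _ _ D H hH) D.S D.phi t ht2
  set u := g₀⁻¹ * t * g₀ with hu
  have huU : u ∈ D.U := ⟨D.phi_eq_one hφ, by
    rw [hu, show g₀⁻¹ * t * g₀ * (g₀⁻¹ * t * g₀) = g₀⁻¹ * (t * t) * g₀ by group, ht2, mul_one,
      inv_mul_cancel]⟩
  have hSu : (D.S : Subgroup G) ≤ centralizer ({u} : Set G) := fun s hs =>
    mem_centralizer_singleton_iff.2 (D.U_central huU hs)
  obtain ⟨c, hc, hcF⟩ := exists_conj_into D.S _ hSu
    ((D.F_isPGroup t).map (MulAut.conj g₀⁻¹).toMonoidHom) (by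
      rintro _ ⟨y, hy, rfl⟩
      refine mem_centralizer_singleton_iff.2 ?_
      show (g₀⁻¹ * y * g₀⁻¹⁻¹) * u = u * (g₀⁻¹ * y * g₀⁻¹⁻¹)
      have := ((Commute.conj_iff g₀⁻¹).2 (D.mem_F.1 hy).2).eq
      rwa [hu, show g₀⁻¹ * t * g₀ = g₀⁻¹ * t * g₀⁻¹⁻¹ by group])
  set g := c * g₀⁻¹ with hg
  have hgF : ∀ y ∈ D.F t, g * y * g⁻¹ ∈ (D.S : Subgroup G) := fun y hy => by
    have := hcF (g₀⁻¹ * y * g₀⁻¹⁻¹) ⟨y, hy, rfl⟩
    rwa [hg, show c * g₀⁻¹ * y * (c * g₀⁻¹)⁻¹ = c * (g₀⁻¹ * y * g₀⁻¹⁻¹) * c⁻¹ by group]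
  have hgt : g * t * g⁻¹ = u := by
    rw [hg, show c * g₀⁻¹ * t * (c * g₀⁻¹)⁻¹ = c * u * c⁻¹ by rw [hu]; group,
      mem_centralizer_singleton_iff.1 hc, mul_inv_cancel_right]
  have hzF : D.z ∈ D.F t := D.U_le_F ht D.z_mem_U
  set w := g * D.z * g⁻¹ with hw
  have hwS : w ∈ (D.S : Subgroup G) := hgF _ hzF
  have hwz : w ≠ D.z := by
    intro e
    refine htT (D.mem_T.2 ⟨ht, ?_⟩)
    have hcz : g * D.z = D.z * g := mul_inv_eq_iff_eq_mul.1 e
    have hxu : u * D.x = D.x * u := (D.mem_T.1 huU.1).2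
    have hgi : g⁻¹ * D.z = D.z * g⁻¹ := (Commute.inv_left hcz).eq
    have h2 := ((Commute.conj_iff g⁻¹).2 hxu).eq
    rw [← hgt, show g⁻¹ * (g * t * g⁻¹) * g⁻¹⁻¹ = t by group] at h2
    rcases conj_root D.ti D.root hgi with h | h <;> rw [h] at h2
    · exact h2
    · exact (Commute.inv_right_iff.1 h2).eq
  have hwT := D.notMem_T (D.isSq.conj g) hwS hwz
  obtain ⟨f, hf, hfe⟩ := D.F_image ht htT hgF hzF hwT (D.U_le_F hwS D.z_mem_U)
  have hfsq : IsSq f := by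
    have := D.isSq.conj g⁻¹
    rwa [← hfe, show g⁻¹ * (g * f * g⁻¹) * g⁻¹⁻¹ = f by group] at this
  have hfz : f ≠ D.z := fun e => hwz (by rw [hw]; rw [e] at hfe; exact hfe)
  rcases (D.mem_F_iff ht htT).1 hf with h | h
  · exact absurd h.1 (D.notMem_T hfsq (D.mem_F.1 hf).1 hfz)
  · exact ⟨t * f, h, by rwa [← mul_assoc, ht2, one_mul]⟩

/-- The subgroup absorbing fusion. -/
def L : Subgroup G :=
  closure ({b | b ∈ (D.S : Subgroup G) ∧ IsSq b} ∪ {s | ∃ g ∈ D.T, g * g = s})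

theorem sq_mem_L {b : G} (hb : b ∈ (D.S : Subgroup G)) (h : IsSq b) : b ∈ D.L :=
  subset_closure (Or.inl ⟨hb, h⟩)

theorem square_mem_L {g : G} (hg : g ∈ D.T) : g * g ∈ D.L := subset_closure (Or.inr ⟨g, hg, rfl⟩)

theorem L_le_S : D.L ≤ (D.S : Subgroup G) := by
  rw [L, closure_le]
  rintro s (⟨hs, -⟩ | ⟨g, hg, rfl⟩)
  · exact hs
  · exact mul_mem (D.mem_T.1 hg).1 (D.mem_T.1 hg).1

theorem z_mem_L : D.z ∈ D.L := D.sq_mem_L D.z_mem_S D.isSq

/-- Conjugates inside `U` differ by a power of `z`. -/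
theorem conj_U {u g : G} (hu : u ∈ D.U) (hg : g * u * g⁻¹ ∈ D.U) :
    u⁻¹ * (g * u * g⁻¹) ∈ D.L := by
  haveI : Fact (Nat.Prime 2) := ⟨Nat.prime_two⟩
  have hui : u⁻¹ = u := inv_eq_of_mul_eq_one_right hu.2
  have hcen : ∀ {a : G}, a ∈ D.U → a ∈ centralizer ((D.S : Subgroup G) : Set G) := fun ha =>
    mem_centralizer_iff.2 fun s hs => D.U_central ha hs
  obtain ⟨n, hn, he⟩ := D.S.conj_eq_normalizer_conj_of_mem_centralizer u g⁻¹ (hcen hu)
    (by rw [inv_inv]; exact hcen hg)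
  rw [inv_inv] at he
  set m := n⁻¹ with hm
  have hmN : m ∈ normalizer ((D.S : Subgroup G) : Set G) := inv_mem hn
  have he' : g * u * g⁻¹ = m * u * m⁻¹ := by rw [he, hm, inv_inv]
  have hz : m * D.z * m⁻¹ = D.z := by
    refine D.eq_z_of_central (D.isSq.conj m) ((mem_normalizer_iff.1 hmN _).1 D.z_mem_S) ?_
    have hx : m⁻¹ * D.x * m⁻¹⁻¹ ∈ (D.S : Subgroup G) :=
      (mem_normalizer_iff.1 (inv_mem hmN) _).1 D.x_mem
    have := ((Commute.conj_iff m).2 (D.central _ hx).symm).eq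
    rwa [show m * (m⁻¹ * D.x * m⁻¹⁻¹) * m⁻¹ = D.x by group] at this
  have hmz : m * D.z = D.z * m := mul_inv_eq_iff_eq_mul.1 hz
  have hxu : Commute u D.x := (D.mem_T.1 hu.1).2
  have hr : IsRoot (D.x * u) D.z :=
    IsRoot.mk' (by rw [hxu.mul_mul_mul_comm, D.root.2, hu.2, mul_one]) D.root.sq_ne D.root.sq_sq
  have hprod : m * (D.x * u) * m⁻¹ = (m * D.x * m⁻¹) * (m * u * m⁻¹) := by group
  have hxx : D.x⁻¹ * D.x⁻¹ = D.z := by
    rw [← mul_inv_rev, D.root.2]; exact inv_eq_of_mul_eq_one_right D.root.sq_sq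
  have hcz : u⁻¹ * (m * u * m⁻¹) = 1 ∨ u⁻¹ * (m * u * m⁻¹) = D.z := by
    have hzu : u * D.z = D.z * u := D.T_comm hu.1 D.z_mem_T
    rcases conj_root D.ti D.root hmz with e1 | e1 <;> rcases conj_root D.ti hr hmz with e2 | e2 <;>
      rw [hprod, e1] at e2
    · left; rw [mul_left_cancel e2, inv_mul_cancel]
    · rw [mul_inv_rev, hui, hxu.inv_right.eq] at e2
      right
      have h3 : m * u * m⁻¹ = D.x⁻¹ * D.x⁻¹ * u := by
        calc m * u * m⁻¹ = D.x⁻¹ * (D.x * (m * u * m⁻¹)) := by group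
          _ = _ := by rw [e2, ← mul_assoc]
      rw [h3, hxx, ← hzu, ← mul_assoc, inv_mul_cancel, one_mul]
    · right
      have h3 : m * u * m⁻¹ = D.x * D.x * u := by
        calc m * u * m⁻¹ = D.x * (D.x⁻¹ * (m * u * m⁻¹)) := by group
          _ = _ := by rw [e2, ← mul_assoc]
      rw [h3, D.root.2, ← hzu, ← mul_assoc, inv_mul_cancel, one_mul]
    · rw [mul_inv_rev, hui, hxu.inv_right.eq] at e2
      left; rw [mul_left_cancel e2, inv_mul_cancel]
  rw [he']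
  rcases hcz with h | h <;> rw [h]
  exacts [one_mem _, D.z_mem_L]

/-- Every involution of the Sylow subgroup has a congruent conjugate in `U`. -/
theorem exists_rep {s : G} (hs : s ∈ (D.S : Subgroup G)) (h2 : s * s = 1) :
    ∃ g : G, g * s * g⁻¹ ∈ D.U ∧ s⁻¹ * (g * s * g⁻¹) ∈ D.L := by
  by_cases hsT : s ∈ D.T
  · exact ⟨1, by simpa using ⟨hsT, h2⟩, by simp [one_mem]⟩
  obtain ⟨u, hu, hsq⟩ := D.exists_sq_coset hs hsT
  set b := s * u with hb
  have hbS : b ∈ (D.S : Subgroup G) := mul_mem hs (D.U_le_S hu)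
  have hbT : b ∉ D.T := fun h => hsT (by
    have := mul_mem h (inv_mem hu.1)
    rwa [hb, mul_inv_cancel_right] at this)
  obtain ⟨m, hm⟩ := D.exists_conj_z hsq
  obtain ⟨c, hc, hcF⟩ := exists_conj_into D.S (centralizer ({D.z} : Set G))
    (fun y hy => mem_centralizer_singleton_iff.2 (D.central y hy))
    ((D.F_isPGroup b).map (MulAut.conj m).toMonoidHom) (by
      rintro _ ⟨y, hy, rfl⟩
      refine mem_centralizer_singleton_iff.2 ?_
      have := ((Commute.conj_iff m).2 (D.mem_F.1 hy).2).eq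
      rwa [hm] at this)
  set h := c * m with hh
  have hhF : ∀ y ∈ D.F b, h * y * h⁻¹ ∈ (D.S : Subgroup G) := fun y hy => by
    have := hcF (m * y * m⁻¹) ⟨y, hy, rfl⟩
    rwa [hh, show c * m * y * (c * m)⁻¹ = c * (m * y * m⁻¹) * c⁻¹ by group]
  have hhb : h * b * h⁻¹ = D.z := by
    rw [hh, show c * m * b * (c * m)⁻¹ = c * (m * b * m⁻¹) * c⁻¹ by group, hm,
      mem_centralizer_singleton_iff.1 hc, mul_inv_cancel_right]
  have hwS : h * D.z * h⁻¹ ∈ (D.S : Subgroup G) := hhF _ (D.U_le_F hbS D.z_mem_U)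
  have hwne : h * D.z * h⁻¹ ≠ D.z := fun e => hbT (by
    rw [show b = D.z from mul_left_cancel (mul_right_cancel (hhb.trans e.symm))]
    exact D.z_mem_T)
  have hwT := D.notMem_T (D.isSq.conj h) hwS hwne
  -- the outer part of `F b` goes to `h z h⁻¹ U`
  have himg : ∀ y ∈ D.U, h * y * h⁻¹ ∈ D.U ∨ h * (y * D.z) * h⁻¹ ∈ D.U := by
    intro y hy
    by_cases hyT : h * y * h⁻¹ ∈ D.T
    · refine Or.inl ⟨hyT, ?_⟩
      rw [show h * y * h⁻¹ * (h * y * h⁻¹) = h * (y * y) * h⁻¹ by group, hy.2, mul_one, mul_inv_cancel]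
    · refine Or.inr ⟨?_, ?_⟩
      · rw [show h * (y * D.z) * h⁻¹ = (h * y * h⁻¹) * (h * D.z * h⁻¹) by group]
        exact D.mul_outer (hhF _ (D.U_le_F hbS hy)) hwS hyT hwT
      · have := (mul_mem hy D.z_mem_U).2
        rw [show h * (y * D.z) * h⁻¹ * (h * (y * D.z) * h⁻¹) =
          h * (y * D.z * (y * D.z)) * h⁻¹ by group, this, mul_one, mul_inv_cancel]
  have hsb : s = b * u := by rw [hb, mul_assoc, hu.2, mul_one]
  rcases himg u hu with hU | hU
  · refine ⟨h, ?_, ?_⟩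
    · rw [hsb, show h * (b * u) * h⁻¹ = (h * b * h⁻¹) * (h * u * h⁻¹) by group, hhb]
      exact mul_mem D.z_mem_U hU
    · rw [hsb, show h * (b * u) * h⁻¹ = (h * b * h⁻¹) * (h * u * h⁻¹) by group, hhb, mul_inv_rev]
      have hc1 : Commute u⁻¹ (b⁻¹ * D.z) :=
        (show Commute (b⁻¹ * D.z) u⁻¹ from (Commute.inv_right
          (D.U_central hu (mul_mem (inv_mem hbS) D.z_mem_S)))).symm
      rw [show u⁻¹ * b⁻¹ * (D.z * (h * u * h⁻¹)) = (u⁻¹ * (b⁻¹ * D.z)) * (h * u * h⁻¹) by group,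
        hc1.eq, mul_assoc]
      exact mul_mem (mul_mem (inv_mem (D.sq_mem_L hbS hsq)) D.z_mem_L) (D.conj_U hu hU)
  · -- use the other square of the coset
    have hxb : D.x⁻¹ * (b * D.z) * D.x⁻¹⁻¹ = b := by
      rw [inv_inv]
      have h1 := D.inverts_x hbS hbT
      have h2' : b * D.x = D.x⁻¹ * b := mul_inv_eq_iff_eq_mul.1 h1
      calc D.x⁻¹ * (b * D.z) * D.x = D.x⁻¹ * (D.z * b) * D.x := by rw [D.central b hbS]
        _ = D.x⁻¹ * D.z * (b * D.x) := by group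
        _ = D.x⁻¹ * D.z * (D.x⁻¹ * b) := by rw [h2']
        _ = (D.x⁻¹ * (D.z * D.x⁻¹)) * b := by group
        _ = b := by
          rw [← D.root.2, mul_assoc D.x D.x, mul_inv_cancel, mul_one, inv_mul_cancel, one_mul]
    have hxu : D.x⁻¹ * (u * D.z) * D.x⁻¹⁻¹ = u * D.z := by
      rw [inv_inv, mul_assoc, ← D.U_central (mul_mem hu D.z_mem_U) D.x_mem, inv_mul_cancel_left]
    have hs' : s = (b * D.z) * (u * D.z) := by
      rw [(show Commute D.z u from (D.U_central hu D.z_mem_S)).mul_mul_mul_comm, ← hsb,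
        D.root.sq_sq, mul_one]
    refine ⟨h * D.x⁻¹, ?_, ?_⟩
    · rw [hs', show h * D.x⁻¹ * (b * D.z * (u * D.z)) * (h * D.x⁻¹)⁻¹ =
        h * ((D.x⁻¹ * (b * D.z) * D.x⁻¹⁻¹) * (D.x⁻¹ * (u * D.z) * D.x⁻¹⁻¹)) * h⁻¹ by group, hxb, hxu,
        show h * (b * (u * D.z)) * h⁻¹ = (h * b * h⁻¹) * (h * (u * D.z) * h⁻¹) by group, hhb]
      exact mul_mem D.z_mem_U hU
    · rw [hs', show h * D.x⁻¹ * (b * D.z * (u * D.z)) * (h * D.x⁻¹)⁻¹ =
        h * ((D.x⁻¹ * (b * D.z) * D.x⁻¹⁻¹) * (D.x⁻¹ * (u * D.z) * D.x⁻¹⁻¹)) * h⁻¹ by group, hxb, hxu,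
        show h * (b * (u * D.z)) * h⁻¹ = (h * b * h⁻¹) * (h * (u * D.z) * h⁻¹) by group, hhb, mul_inv_rev]
      have huz : u * D.z ∈ D.U := mul_mem hu D.z_mem_U
      have hc1 : Commute (u * D.z)⁻¹ ((b * D.z)⁻¹ * D.z) :=
        (show Commute ((b * D.z)⁻¹ * D.z) (u * D.z)⁻¹ from Commute.inv_right
          (D.U_central huz (mul_mem (inv_mem (mul_mem hbS D.z_mem_S)) D.z_mem_S))).symm
      rw [show (u * D.z)⁻¹ * (b * D.z)⁻¹ * (D.z * (h * (u * D.z) * h⁻¹)) =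
        ((u * D.z)⁻¹ * ((b * D.z)⁻¹ * D.z)) * (h * (u * D.z) * h⁻¹) by group, hc1.eq, mul_assoc]
      exact mul_mem (mul_mem (inv_mem (mul_mem (D.sq_mem_L hbS hsq) D.z_mem_L)) D.z_mem_L)
        (D.conj_U huz hU)

/-- The squares absorb fusion. -/
theorem S_le_L : (D.S : Subgroup G) ≤ D.L := by
  haveI : Fact (Nat.Prime 2) := ⟨Nat.prime_two⟩
  refine sylow_le_of_fusion D.na D.S D.L fun s hs g hg => ?_
  obtain ⟨k, hk⟩ := D.orderOf_pow_two hs
  rcases lt_or_ge k 2 with hk2 | hk2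
  · have h2 : s * s = 1 := by
      rw [← pow_two]
      exact orderOf_dvd_iff_pow_eq_one.1 (hk ▸ (pow_dvd_pow 2 (show k ≤ 1 by omega)).trans (by norm_num))
    have h2' : g * s * g⁻¹ * (g * s * g⁻¹) = 1 := by
      rw [show g * s * g⁻¹ * (g * s * g⁻¹) = g * (s * s) * g⁻¹ by group, h2, mul_one, mul_inv_cancel]
    obtain ⟨a, ha, ha'⟩ := D.exists_rep hs h2
    obtain ⟨c, hc, hc'⟩ := D.exists_rep hg h2'
    have e : (c * g * a⁻¹) * (a * s * a⁻¹) * (c * g * a⁻¹)⁻¹ = c * (g * s * g⁻¹) * c⁻¹ := by group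
    have h3 := D.conj_U ha (g := c * g * a⁻¹) (e ▸ hc)
    rw [e] at h3
    rw [show s⁻¹ * (g * s * g⁻¹) = (s⁻¹ * (a * s * a⁻¹)) *
      ((a * s * a⁻¹)⁻¹ * (c * (g * s * g⁻¹) * c⁻¹)) * ((g * s * g⁻¹)⁻¹ * (c * (g * s * g⁻¹) * c⁻¹))⁻¹
      by group]
    exact mul_mem (mul_mem ha' h3) (inv_mem hc')
  · have hr := D.pow_eq_z hs hk2 hk
    have hsz : s ^ 2 ^ (k - 1) = D.z := by
      rw [← hr.2, ← pow_add, ← two_mul, ← pow_succ', show k - 2 + 1 = k - 1 by omega]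
    have hr' := D.pow_eq_z hg hk2 (by rw [Invol.orderOf_conj_eq, hk])
    have hgz : g * D.z * g⁻¹ = D.z := by
      have h1 : (g * s * g⁻¹) ^ 2 ^ (k - 1) = D.z := by
        rw [← hr'.2, ← pow_add, ← two_mul, ← pow_succ', show k - 2 + 1 = k - 1 by omega]
      rwa [conj_pow, hsz] at h1
    have hmem := D.ti.conj_mem Nat.prime_two hk (hsz ▸ D.root.sq_ne)
      (hsz.symm ▸ mul_inv_eq_iff_eq_mul.1 hgz)
    obtain ⟨i, hi⟩ := mem_zpowers_iff.1 hmem
    rcases Int.even_or_odd i with ⟨r, rfl⟩ | ⟨r, rfl⟩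
    · exfalso
      have h1 : (g * s * g⁻¹) ^ 2 ^ (k - 1) = 1 := by
        rw [← hi, ← zpow_natCast, ← zpow_mul,
          show (r + r) * ((2 ^ (k - 1) : ℕ) : ℤ) = ((2 ^ k : ℕ) : ℤ) * r by
            conv_rhs => rw [show k = k - 1 + 1 by omega, pow_succ]
            push_cast; ring,
          zpow_mul, zpow_natCast, ← hk, pow_orderOf_eq_one, one_zpow]
      rw [conj_pow, hsz, hgz] at h1
      exact D.root.sq_ne h1
    · rw [← hi, show s⁻¹ * s ^ (2 * r + 1) = (s * s) ^ r by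
        rw [← zpow_two, ← zpow_mul, ← zpow_neg_one, ← zpow_add]; congr 1; ring]
      refine zpow_mem ?_ r
      by_cases hsT : s ∈ D.T
      · exact D.square_mem_L hsT
      · rw [D.outer_sq hs hsT]; exact one_mem _

end Outer

end Cfsg.Lib.TICyclic
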