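import Cfsg.Agent.Lib.TICyclic.Dihedral

/-!
# The bound on the involutions of `T`, and the dihedral Sylow subgroup
-/

set_option autoImplicit false
set_option linter.unusedSectionVars false
set_option linter.style.haveILetI false

namespace Cfsg.Lib.TICyclic

open Subgroup Cfsg.Lib

variable {G : Type*} [Group G] [Finite G] [IsSimpleGroup G]

namespace Outer

variable (D : Outer G)

/-- The squares in `T`. -/
def sqT : Subgroup G where
  carrier := {s | ∃ g ∈ D.T, g * g = s}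
  one_mem' := ⟨1, one_mem _, one_mul 1⟩
  mul_mem' := fun {a b} ⟨g, hg, ha⟩ ⟨h, hh, hb⟩ => ⟨g * h, mul_mem hg hh, by
    rw [(show Commute h g from D.T_comm hh hg).mul_mul_mul_comm, ha, hb]⟩
  inv_mem' := fun {_} ⟨g, hg, ha⟩ => ⟨g⁻¹, inv_mem hg, by rw [← mul_inv_rev, ha]⟩

theorem sqT_le : D.sqT ≤ D.T := fun s ⟨g, hg, hs⟩ => hs ▸ mul_mem hg hg

theorem z_mem_sqT : D.z ∈ D.sqT := ⟨D.x, D.x_mem_T, D.root.2⟩

/-- Two squares in a coset differ by a second power. -/
theorem coset_unique {b y q u : G} (hb : b ∈ (D.S : Subgroup G)) (hbT : b ∉ D.T) (hy : y ∈ D.T)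
    (hq : q ∈ D.T) (hu : u ∈ D.U) (h1 : IsSq (b * y)) (h2 : IsSq (b * (y * (q * q) * u))) :
    u ∈ D.sqT := by
  set c := b * y with hc
  have hcS : c ∈ (D.S : Subgroup G) := mul_mem hb (D.mem_T.1 hy).1
  have hcT : c ∉ D.T := fun h => hbT (by simpa [hc] using mul_mem h (inv_mem hy))
  have hqq : q⁻¹ * c * q⁻¹⁻¹ = c * (q * q) := by
    have h := D.inverts_T hcS hcT hq
    have h' : c * q = q⁻¹ * c := mul_inv_eq_iff_eq_mul.1 h
    rw [inv_inv, ← h', mul_assoc]
  have hd : IsSq (c * (q * q)) := hqq ▸ h1.conj q⁻¹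
  set d := c * (q * q) with hdd
  have hdS : d ∈ (D.S : Subgroup G) := mul_mem hcS (D.mem_T.1 (mul_mem hq hq)).1
  have hdT : d ∉ D.T := fun h => hcT (by
    have := mul_mem h (inv_mem (mul_mem hq hq))
    rwa [hdd, mul_inv_cancel_right] at this)
  have he : b * (y * (q * q) * u) = d * u := by rw [hdd, hc]; group
  rw [he] at h2
  by_cases hu1 : u = 1
  · exact hu1 ▸ one_mem _
  by_cases huz : u = D.z
  · exact huz ▸ D.z_mem_sqT
  exfalso
  set e := d * u with hee
  have heS : e ∈ (D.S : Subgroup G) := mul_mem hdS (D.U_le_S hu)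
  have heT : e ∉ D.T := fun h => hdT (by simpa [hee] using mul_mem h (inv_mem hu.1))
  have hde : Commute d e := (Commute.refl d).mul_right (D.U_central hu hdS)
  have hdz : d ≠ D.z := fun h => hdT (h ▸ D.z_mem_T)
  have hde' : d ≠ e := fun h => hu1 (left_eq_mul.1 h)
  obtain ⟨r, hr⟩ := hd
  have hze : IsSq (e * D.z) := by
    have hx := D.inverts_x heS heT
    have : D.x⁻¹ * e * D.x⁻¹⁻¹ = e * D.z := by
      rw [inv_inv, ← mul_inv_eq_iff_eq_mul.1 hx, mul_assoc, D.root.2]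
    exact this ▸ h2.conj D.x⁻¹
  have hcz : Commute d D.z := D.central d hdS
  have hne : d ≠ e * D.z := by
    intro h
    apply huz
    rw [hee, mul_assoc, left_eq_mul, mul_eq_one_iff_eq_inv, inv_eq_of_mul_eq_one_right D.root.sq_sq] at h
    exact h
  refine D.no d (e * D.z) (rel_of_one D.ti hr hze hne (hde.mul_right hcz).eq ?_)
  have i1 := inverts_of_not_rel D.ti h2 hde' hde.eq (D.no _ _) hr
  have i2 := inverts_of_not_rel D.ti D.isSq hdz hcz.eq (D.no _ _) hr
  refine mul_inv_eq_iff_eq_mul.1 ?_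
  rw [show e * D.z * r * (e * D.z)⁻¹ = e * (D.z * r * D.z⁻¹) * e⁻¹ by group, i2,
    show e * r⁻¹ * e⁻¹ = (e * r * e⁻¹)⁻¹ by group, i1, inv_inv]

theorem sqT_cyclic : IsCyclic D.sqT := by
  refine MinNonCA.isCyclic_of_unique (D.S.2.to_le fun s hs => (D.mem_T.1 (D.sqT_le hs)).1) ?_ ?_
  · exact fun a ha b hb => D.T_comm (D.sqT_le ha) (D.sqT_le hb)
  · intro a ⟨g, hg, hga⟩ b ⟨g', hg', hgb⟩ ha ha1 hb hb1
    have key : ∀ {g a : G}, g ∈ D.T → g * g = a → a * a = 1 → a ≠ 1 → a = D.z := by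
      intro g a hg hga ha ha1
      by_contra hne
      exact D.notMem_T ⟨g, IsRoot.mk' hga ha1 ha⟩ (hga ▸ mul_mem (D.mem_T.1 hg).1 (D.mem_T.1 hg).1) hne
        (hga ▸ mul_mem hg hg)
    rw [key hg hga ha ha1, key hg' hgb hb hb1]

/-- `T` is generated by one element and the involutions. -/
theorem exists_gen : ∃ w ∈ D.T, ∀ y ∈ D.T, ∃ i : ℤ, ∃ u ∈ D.U, y = w ^ i * u := by
  haveI := D.sqT_cyclic
  obtain ⟨⟨a, w, hw, hwa⟩, hgen⟩ := IsCyclic.exists_generator (α := D.sqT)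
  refine ⟨w, hw, fun y hy => ?_⟩
  obtain ⟨i, hi⟩ := mem_zpowers_iff.1 (hgen ⟨y * y, y, hy, rfl⟩)
  have hi' : a ^ i = y * y := congrArg Subtype.val hi
  refine ⟨i, w ^ (-i) * y, ⟨mul_mem (zpow_mem hw _) hy, ?_⟩, by group⟩
  rw [(show Commute y (w ^ (-i)) from D.T_comm hy (zpow_mem hw _)).mul_mul_mul_comm, ← hi', ← hwa,
    (Commute.refl w).mul_zpow, ← zpow_add, ← zpow_add, ← zpow_add]
  convert zpow_zero w using 2
  ring

/-- The nontrivial classes of squares outside `T` give one coset of the second powers. -/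
theorem coset_diff {b y₁ y₂ : G} (hb : b ∈ (D.S : Subgroup G)) (hbT : b ∉ D.T) (hbs : IsSq b)
    (hy₁ : y₁ ∈ D.T) (hy₂ : y₂ ∈ D.T) (h1 : IsSq (b * y₁)) (h2 : IsSq (b * y₂))
    (hn1 : y₁ ∉ D.sqT) (hn2 : y₂ ∉ D.sqT) : y₁⁻¹ * y₂ ∈ D.sqT := by
  obtain ⟨w, hw, hgen⟩ := D.exists_gen
  have key : ∀ y ∈ D.T, IsSq (b * y) → y ∉ D.sqT → ∃ j : ℤ, ∃ u ∈ D.U, y = w ^ (2 * j + 1) * u := by
    intro y hy hys hn
    obtain ⟨i, u, hu, rfl⟩ := hgen y hy
    rcases Int.even_or_odd i with ⟨j, rfl⟩ | ⟨j, rfl⟩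
    · exfalso
      have huT : u ∈ D.sqT := D.coset_unique hb hbT (one_mem _) (zpow_mem hw j) hu (by rwa [mul_one])
        (by rwa [one_mul, ← zpow_add])
      exact hn (mul_mem ⟨w ^ j, zpow_mem hw j, (zpow_add w j j).symm⟩ huT)
    · exact ⟨j, u, hu, rfl⟩
  obtain ⟨i, u, hu, rfl⟩ := key _ hy₁ h1 hn1
  obtain ⟨j, v, hv, rfl⟩ := key _ hy₂ h2 hn2
  have hq : w ^ (j - i) ∈ D.T := zpow_mem hw _
  have huv : u⁻¹ * v ∈ D.U := mul_mem (inv_mem hu) hv
  have e : w ^ (2 * j + 1) * v = w ^ (2 * i + 1) * u * (w ^ (j - i) * w ^ (j - i)) * (u⁻¹ * v) := by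
    rw [mul_assoc (w ^ (2 * i + 1)) u, (show Commute u (w ^ (j - i) * w ^ (j - i)) from
      D.T_comm hu.1 (mul_mem hq hq)).eq]
    group
  have hT := D.coset_unique hb hbT hy₁ hq huv h1 (e ▸ h2)
  rw [e]
  rw [mul_assoc (w ^ (2 * i + 1) * u), inv_mul_cancel_left]
  exact mul_mem ⟨_, hq, rfl⟩ hT

/-- `T` has at most one involution. -/
theorem U_eq {u : G} (hu : u ∈ D.U) (hu1 : u ≠ 1) : u = D.z := by
  classical
  obtain ⟨b, hb, hbS, hne⟩ := D.exists_other
  have hbT := D.notMem_T hb hbS hne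
  -- a generator of the classes
  obtain ⟨y₁, hy₁, hK⟩ : ∃ y₁ ∈ D.T, ∀ y ∈ D.T, IsSq (b * y) → y ∈ D.sqT ∨ y₁⁻¹ * y ∈ D.sqT := by
    by_cases h : ∃ y₁ ∈ D.T, IsSq (b * y₁) ∧ y₁ ∉ D.sqT
    · obtain ⟨y₁, hy₁, hs₁, hn₁⟩ := h
      exact ⟨y₁, hy₁, fun y hy hys => or_iff_not_imp_left.2 fun hn =>
        D.coset_diff hbS hbT hb hy₁ hy hs₁ hys hn₁ hn⟩
    · push Not at h
      exact ⟨1, one_mem _, fun y hy hys => Or.inl (h y hy hys)⟩
  set K : Subgroup G := D.sqT ⊔ zpowers y₁ with hK'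
  have hKT : K ≤ D.T := sup_le D.sqT_le (zpowers_le.2 hy₁)
  have hy2 : y₁ * y₁ ∈ D.sqT := ⟨y₁, hy₁, rfl⟩
  -- `K` has at most two cosets of the squares
  have hK2 : ∀ k ∈ K, k ∈ D.sqT ∨ y₁⁻¹ * k ∈ D.sqT := by
    have hn : D.sqT ≤ normalizer (zpowers y₁ : Set G) := fun s hs =>
      mem_normalizer_iff.2 fun a => by
        constructor
        · intro ha
          rwa [(show Commute s a from D.T_comm (D.sqT_le hs) (hKT (mem_sup_right ha))).eq, mul_inv_cancel_right]
        · intro ha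
          have h' : s * a * s⁻¹ ∈ D.T := hKT (mem_sup_right ha)
          have haT : a ∈ D.T := by
            have := mul_mem (mul_mem (inv_mem (D.sqT_le hs)) h') (D.sqT_le hs)
            rwa [show s⁻¹ * (s * a * s⁻¹) * s = a by group] at this
          rwa [(show Commute s a from D.T_comm (D.sqT_le hs) haT).eq, mul_inv_cancel_right] at ha
    intro k hk
    rw [← SetLike.mem_coe, hK', Subgroup.coe_mul_of_left_le_normalizer_right _ _ hn] at hk
    obtain ⟨s, hs, a, ha, rfl⟩ := Set.mem_mul.1 hk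
    obtain ⟨i, rfl⟩ := mem_zpowers_iff.1 ha
    rcases Int.even_or_odd i with ⟨j, rfl⟩ | ⟨j, rfl⟩
    · left
      rw [zpow_add, ← (Commute.refl y₁).mul_zpow]
      exact mul_mem hs (zpow_mem hy2 j)
    · right
      have hc : Commute s y₁⁻¹ := Commute.inv_right (D.T_comm (D.sqT_le hs) hy₁)
      rw [← mul_assoc, ← hc.eq, mul_assoc,
        show y₁⁻¹ * y₁ ^ (2 * j + 1) = (y₁ * y₁) ^ j by
          rw [← zpow_two, ← zpow_mul, ← zpow_neg_one, ← zpow_add]; congr 1; ring]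
      exact mul_mem hs (zpow_mem hy2 j)
  -- `L` lies in `K` and one further coset
  have hL : ∀ s ∈ D.L, (s ∈ D.T → s ∈ K) ∧ (s ∉ D.T → b * s ∈ K) := by
    have hbb := D.outer_sq hbS hbT
    let M : Subgroup G :=
      { carrier := {s | s ∈ (D.S : Subgroup G) ∧ (s ∈ D.T → s ∈ K) ∧ (s ∉ D.T → b * s ∈ K)}
        one_mem' := ⟨one_mem _, fun _ => one_mem _, fun h => absurd (one_mem _) h⟩
        inv_mem' := by
          rintro s ⟨hs, h1, h2⟩
          refine ⟨inv_mem hs, fun h => inv_mem (h1 (inv_mem_iff.1 h)), fun h => ?_⟩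
          have hsT : s ∉ D.T := fun h' => h (inv_mem h')
          rw [inv_eq_of_mul_eq_one_right (D.outer_sq hs hsT)]
          exact h2 hsT
        mul_mem' := by
          rintro s r ⟨hs, h1, h2⟩ ⟨hr, h1', h2'⟩
          refine ⟨mul_mem hs hr, fun h => ?_, fun h => ?_⟩
          · by_cases hsT : s ∈ D.T
            · have hrT : r ∈ D.T := by simpa using mul_mem (inv_mem hsT) h
              exact mul_mem (h1 hsT) (h1' hrT)
            · have hrT : r ∉ D.T := fun hrT => hsT (by simpa using mul_mem h (inv_mem hrT))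
              have hk := h2 hsT
              rw [show s * r = (b * (b * s) * b⁻¹) * (b * r) by
                rw [← mul_assoc b b s, hbb, one_mul, inv_eq_of_mul_eq_one_right hbb, mul_assoc s b (b * r),
                  ← mul_assoc b b r, hbb, one_mul], D.inverts_T hbS hbT (hKT hk)]
              exact mul_mem (inv_mem hk) (h2' hrT)
          · by_cases hsT : s ∈ D.T
            · have hrT : r ∉ D.T := fun hrT => h (mul_mem hsT hrT)
              rw [show b * (s * r) = (b * s * b⁻¹) * (b * r) by group, D.inverts_T hbS hbT hsT]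
              exact mul_mem (inv_mem (h1 hsT)) (h2' hrT)
            · by_cases hrT : r ∈ D.T
              · rw [← mul_assoc]; exact mul_mem (h2 hsT) (h1' hrT)
              · exact absurd (D.mul_outer hs hr hsT hrT) h }
    have hLM : D.L ≤ M := by
      rw [L, closure_le]
      rintro s (⟨hs, hsq⟩ | ⟨g, hg, rfl⟩)
      · refine ⟨hs, fun h => ?_, fun h => ?_⟩
        · have hsz : s = D.z := by_contra fun hn => D.notMem_T hsq hs hn h
          exact hsz ▸ mem_sup_left D.z_mem_sqT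
        · have hbsT : b * s ∈ D.T := D.mul_outer hbS hs hbT h
          rcases hK (b * s) hbsT (by rwa [← mul_assoc, hbb, one_mul]) with h' | h'
          · exact mem_sup_left h'
          · rw [show b * s = y₁ * (y₁⁻¹ * (b * s)) by group]
            exact mul_mem (mem_sup_right (mem_zpowers y₁)) (mem_sup_left h')
      · exact ⟨mul_mem (D.mem_T.1 hg).1 (D.mem_T.1 hg).1, fun _ => mem_sup_left ⟨g, hg, rfl⟩,
          fun h => absurd (mul_mem hg hg) h⟩
    exact fun s hs => (hLM hs).2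
  have hT : ∀ t ∈ D.T, t ∈ D.sqT ∨ y₁⁻¹ * t ∈ D.sqT := fun t ht =>
    hK2 t ((hL t (D.S_le_L (D.mem_T.1 ht).1)).1 ht)
  -- so the squaring map has a kernel of at most two elements
  by_contra huz
  let f : Bool × D.sqT → D.T := fun p =>
    ⟨(if p.1 then y₁ else 1) * p.2, mul_mem (by split; exacts [hy₁, one_mem _]) (D.sqT_le p.2.2)⟩
  have hf : Function.Surjective f := fun t => by
    rcases hT t t.2 with h | h
    · exact ⟨(false, ⟨t, h⟩), Subtype.ext (by simp [f])⟩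
    · exact ⟨(true, ⟨y₁⁻¹ * t, h⟩), Subtype.ext (by simp [f])⟩
  have hle : Nat.card D.T ≤ 2 * Nat.card D.sqT := by
    refine (Nat.card_le_card_of_surjective f hf).trans ?_
    rw [Nat.card_prod, Nat.card_eq_fintype_card (α := Bool), Fintype.card_bool]
  let sq : D.T →* D.T :=
    { toFun := fun g => g * g
      map_one' := one_mul 1
      map_mul' := fun g h => Subtype.ext (by
        show (g : G) * h * (g * h) = g * g * (h * h)
        exact (show Commute (h : G) g from D.T_comm h.2 g.2).mul_mul_mul_comm _ _) }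
  have hrange : Nat.card sq.range = Nat.card D.sqT := Nat.card_congr
    { toFun := fun s => ⟨(s : D.T), by obtain ⟨g, hg⟩ := s.2; exact ⟨g, g.2, congrArg Subtype.val hg⟩⟩
      invFun := fun s => ⟨⟨s, D.sqT_le s.2⟩, by
        obtain ⟨g, hg, he⟩ := s.2; exact ⟨⟨g, hg⟩, Subtype.ext he⟩⟩
      left_inv := fun _ => rfl
      right_inv := fun _ => rfl }
  have h3 : 3 ≤ Nat.card sq.ker := by
    haveI := Fintype.ofFinite sq.ker
    rw [Nat.card_eq_fintype_card]
    have hz : (⟨D.z, D.z_mem_T⟩ : D.T) ∈ sq.ker := MonoidHom.mem_ker.2 (Subtype.ext D.root.sq_sq)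
    have huk : (⟨u, hu.1⟩ : D.T) ∈ sq.ker := MonoidHom.mem_ker.2 (Subtype.ext hu.2)
    refine Fintype.two_lt_card_iff.2 ⟨1, ⟨_, hz⟩, ⟨_, huk⟩, ?_, ?_, ?_⟩
    · exact fun h => D.root.sq_ne (congrArg (fun a : sq.ker => ((a : D.T) : G)) h).symm
    · exact fun h => hu1 (congrArg (fun a : sq.ker => ((a : D.T) : G)) h).symm
    · exact fun h => huz (congrArg (fun a : sq.ker => ((a : D.T) : G)) h).symm
  have hmul := sq.ker.card_mul_index
  rw [Subgroup.index_ker, hrange] at hmul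
  have hpos : 0 < Nat.card D.sqT := Nat.card_pos
  have h4 := Nat.mul_le_mul_right (Nat.card D.sqT) h3
  omega

theorem T_cyclic : IsCyclic D.T := by
  refine MinNonCA.isCyclic_of_unique (D.S.2.to_le fun s hs => (D.mem_T.1 hs).1)
    (fun a ha b hb => D.T_comm ha hb) fun a ha b hb ha2 ha1 hb2 hb1 => ?_
  rw [D.U_eq ⟨ha, ha2⟩ ha1, D.U_eq ⟨hb, hb2⟩ hb1]

include D in
/-- The Sylow subgroup is dihedral. -/
theorem sylow_dihedral : GW.SylowDihedral G := by
  obtain ⟨b, hb, hbS, hne⟩ := D.exists_other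
  have hbT := D.notMem_T hb hbS hne
  haveI := D.T_cyclic
  obtain ⟨⟨w, hw⟩, hgen⟩ := IsCyclic.exists_generator (α := D.T)
  have hbb := D.outer_sq hbS hbT
  have hinv := D.inverts_T hbS hbT hw
  have hz : ∀ g ∈ D.T, g ∈ zpowers w := fun g hg => by
    obtain ⟨i, hi⟩ := mem_zpowers_iff.1 (hgen ⟨g, hg⟩)
    exact ⟨i, congrArg Subtype.val hi⟩
  have hbm : b ∉ zpowers w := fun h => hbT ((zpowers_le.2 hw) h)
  have h4 : 4 ≤ orderOf w := by
    refine Nat.le_of_dvd (orderOf_pos w) ?_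
    rw [← D.root.1]
    exact orderOf_dvd_of_mem_zpowers (hz _ D.x_mem_T)
  set f := Invol.dihedralHom (orderOf w) (pow_orderOf_eq_one w) hbb hinv with hf
  have hrange : f.range = (D.S : Subgroup G) := by
    apply le_antisymm
    · rintro _ ⟨i | i, rfl⟩
      · rw [hf, Invol.dihedralHom_r]
        exact zpow_mem (D.mem_T.1 hw).1 _
      · rw [hf, Invol.dihedralHom_sr]
        exact mul_mem hbS (zpow_mem (D.mem_T.1 hw).1 _)
    · intro s hs
      by_cases hsT : s ∈ D.T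
      · obtain ⟨i, rfl⟩ := mem_zpowers_iff.1 (hz s hsT)
        refine ⟨DihedralGroup.r (i : ZMod _), ?_⟩
        rw [hf, Invol.dihedralHom_r, zpow_eq_zpow_iff_modEq, ← ZMod.intCast_eq_intCast_iff,
          ZMod.intCast_zmod_cast]
      · obtain ⟨i, hi⟩ := mem_zpowers_iff.1 (hz _ (D.mul_outer hbS hs hbT hsT))
        refine ⟨DihedralGroup.sr (i : ZMod _), ?_⟩
        rw [hf, Invol.dihedralHom_sr, show w ^ (((i : ZMod (orderOf w))).cast : ℤ) = w ^ i by
          rw [zpow_eq_zpow_iff_modEq, ← ZMod.intCast_eq_intCast_iff, ZMod.intCast_zmod_cast], hi,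
          ← mul_assoc, hbb, one_mul]
  exact GW.sylowDihedral_of_equiv D.S (n := orderOf w) (by omega)
    ⟨((MonoidHom.ofInjective (Invol.dihedralHom_injective hbb hinv hbm)).trans
      (MulEquiv.subgroupCongr hrange)).symm⟩

end Outer

end Cfsg.Lib.TICyclic
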