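import Cfsg.Agent.Lib.ReeTwoTrans.Action
import Cfsg.Agent.Lib.TICyclic.Tools
import Mathlib.GroupTheory.GroupAction.MultipleTransitivity

/-!
# The points of a group of Ree type and Ree order

The stabilizer of a point is `H = P ⟨t, a⟩`; the Sylow subgroup `P` is regular on the other points and
the split torus acts on it without fixed points.
-/

set_option autoImplicit false
set_option linter.unusedSectionVars false
set_option linter.style.haveILetI false

namespace Cfsg.Lib.TICyclic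

open Subgroup Cfsg Cfsg.Lib Cfsg.Lib.ReeType Cfsg.Lib.ReeTwoTrans MulAction

variable {G L : Type*} [Group G] [Group L] [Finite G]

/-- The doubly transitive coset space of a group of Ree type. -/
structure Geo (G L : Type*) [Group G] [Group L] [Finite G] (n T : ℕ) where
  S : ReeType.Setup G L n T
  hord : Nat.card G = (3 ^ (2 * n + 1)) ^ 3 * ((3 ^ (2 * n + 1)) ^ 3 + 1) * (3 ^ (2 * n + 1) - 1)
  H : Subgroup G
  P : Sylow 3 G
  idx : H.index = (3 ^ (2 * n + 1)) ^ 3 + 1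
  U_le : S.threeSub ≤ P
  P_le : (P : Subgroup G) ≤ H
  H_le : H ≤ normalizer ((P : Subgroup G) : Set G)
  t_mem : S.t ∈ H
  a_mem : S.φ S.D.a ∈ H
  two : MulAction.IsMultiplyPretransitive G (G ⧸ H) 2

namespace Geo

variable {n T : ℕ} (E : Geo G L n T)

local notation "q" => 3 ^ (2 * n + 1)

/-- The point fixed by `H`. -/
def pt : G ⧸ E.H := ((1 : G) : G ⧸ E.H)

/-- The other point fixed by the torus. -/
def pt0 : G ⧸ E.H := E.S.φ E.S.D.w • E.pt

theorem stab_pt : stabilizer G E.pt = E.H := MulAction.stabilizer_quotient E.H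

theorem mem_H_iff {g : G} : g ∈ E.H ↔ g • E.pt = E.pt := by
  rw [← mem_stabilizer_iff, E.stab_pt]

theorem conj_P_mem {h y : G} (hh : h ∈ E.H) (hy : y ∈ (E.P : Subgroup G)) :
    h * y * h⁻¹ ∈ (E.P : Subgroup G) := (mem_normalizer_iff.1 (E.H_le hh) y).1 hy

include E in
theorem card_facts : Nat.card E.H = q ^ 3 * (q - 1) ∧ Nat.card (E.P : Subgroup G) = q ^ 3 ∧
    Nat.Coprime (q ^ 3) (q - 1) := by
  haveI : Fact (Nat.Prime 3) := ⟨Nat.prime_three⟩
  have h3 : 3 ∣ q := E.S.q_facts.2.2.2.2.2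
  have h27 := E.S.q_facts.2.1
  have hpos : 1 ≤ q ^ 3 := Nat.one_le_pow _ _ (by positivity)
  refine ⟨?_, ?_, ?_⟩
  · have h := E.H.card_mul_index
    rw [E.idx, E.hord] at h
    exact Nat.eq_of_mul_eq_mul_right (by omega) (h.trans (by ring))
  · have h1 : ¬ 3 ∣ (q ^ 3 + 1) * (q - 1) := by
      rw [Nat.Prime.dvd_mul Nat.prime_three]
      have hdq3 : 3 ∣ q ^ 3 := dvd_pow h3 (by norm_num)
      omega
    have h0 : (q ^ 3 + 1) * (q - 1) ≠ 0 := fun h => h1 (h ▸ dvd_zero 3)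
    rw [E.P.card_eq_multiplicity, E.hord, mul_assoc, Nat.factorization_mul (by positivity) h0,
      Finsupp.add_apply, Nat.factorization_eq_zero_of_not_dvd h1, add_zero, ← pow_mul,
      Nat.prime_three.factorization_pow, Finsupp.single_eq_same]
  · rw [← pow_mul]
    refine Nat.Coprime.pow_left _ ((Nat.Prime.coprime_iff_not_dvd Nat.prime_three).2 ?_)
    omega

/-- The stabilizer of two points meets `P` trivially. -/
theorem regular {x : G} {p : G ⧸ E.H} (hx : x ∈ (E.P : Subgroup G)) (hp : p ≠ E.pt)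
    (hfix : x • p = p) : x = 1 := by
  classical
  obtain ⟨hH, hP, hcop⟩ := E.card_facts
  haveI : Fintype (G ⧸ E.H) := Fintype.ofFinite _
  haveI := E.two
  -- the orbit of `p` under `H` is every other point
  have horb : Nat.card (orbit E.H p) = q ^ 3 := by
    have he : orbit E.H p = {r | r ≠ E.pt} := by
      ext r
      refine ⟨?_, fun hr => ?_⟩
      · rintro ⟨⟨h, hh⟩, rfl⟩ e
        refine hp ?_
        have e' : h • p = E.pt := e
        rw [← smul_left_cancel_iff h, e', E.mem_H_iff.1 hh]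
      · obtain ⟨g, hg1, hg2⟩ := (MulAction.is_two_pretransitive_iff.1 E.two) hp.symm (Ne.symm hr)
        exact ⟨⟨g, E.mem_H_iff.2 hg1⟩, hg2⟩
    rw [he, Nat.card_coe_set_eq, show {r : G ⧸ E.H | r ≠ E.pt} = (Set.univ : Set (G ⧸ E.H)) \ {E.pt} by
      ext; simp, Set.ncard_sdiff_singleton_of_mem (Set.mem_univ _), Set.ncard_univ,
      ← Subgroup.index_eq_card, E.idx]
    omega
  have hstab : Nat.card (stabilizer E.H p) = q - 1 := by
    have h := Nat.card_congr (orbitProdStabilizerEquivGroup E.H p)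
    rw [Nat.card_prod, horb, hH] at h
    exact Nat.eq_of_mul_eq_mul_left (by positivity) h
  have h1 : orderOf x ∣ q ^ 3 := hP ▸ Subgroup.orderOf_dvd_natCard _ hx
  have h2 : orderOf x ∣ q - 1 := by
    rw [← hstab]
    have h := Subgroup.orderOf_dvd_natCard (stabilizer E.H p)
      (x := ⟨x, E.P_le hx⟩) (mem_stabilizer_iff.2 hfix)
    rwa [orderOf_mk] at h
  exact orderOf_eq_one_iff.1 (Nat.eq_one_of_dvd_coprimes hcop h1 h2)

include E in
theorem exists_P_map {p : G ⧸ E.H} (hp : p ≠ E.pt) {r : G ⧸ E.H} (hr : r ≠ E.pt) :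
    ∃ x ∈ (E.P : Subgroup G), x • p = r := by
  classical
  haveI : Fintype (G ⧸ E.H) := Fintype.ofFinite _
  haveI : Fintype (E.P : Subgroup G) := Fintype.ofFinite _
  let f : ↥(E.P : Subgroup G) → {r : G ⧸ E.H // r ≠ E.pt} := fun x => ⟨(x : G) • p, fun e => hp (by
    rw [← smul_left_cancel_iff (x : G), e, E.mem_H_iff.1 (E.P_le x.2)])⟩
  have hinj : Function.Injective f := fun x y h => Subtype.ext (inv_mul_eq_one.1
    (E.regular (mul_mem (inv_mem y.2) x.2) hp (by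
      rw [mul_smul, show (x : G) • p = (y : G) • p from congrArg Subtype.val h, inv_smul_smul]))).symm
  have hcard : Fintype.card (E.P : Subgroup G) = Fintype.card {r : G ⧸ E.H // r ≠ E.pt} := by
    rw [← Nat.card_eq_fintype_card, E.card_facts.2.1, Fintype.card_subtype_compl,
      Fintype.card_subtype_eq, ← Nat.card_eq_fintype_card, ← Subgroup.index_eq_card, E.idx,
      Nat.add_sub_cancel]
  obtain ⟨x, hx⟩ := ((Fintype.bijective_iff_injective_and_card f).2 ⟨hinj, hcard⟩).2 ⟨r, hr⟩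
  exact ⟨x, x.2, congrArg Subtype.val hx⟩

/-- The involutions of `H` lie in one coset of `P`. -/
theorem H_decomp {h : G} (hh : h ∈ E.H) :
    ∃ i : ℕ, ∃ p ∈ (E.P : Subgroup G), h = (E.S.t * E.S.φ E.S.D.a) ^ i * p := by
  classical
  obtain ⟨hH, hP, hcop⟩ := E.card_facts
  obtain ⟨hoa, -, hmodd, -, h2m⟩ := torus_facts E.S
  set c := E.S.t * E.S.φ E.S.D.a with hc
  have hcH : c ∈ E.H := mul_mem E.t_mem E.a_mem
  have hord : orderOf c = q - 1 := by
    rw [hc, (show Commute E.S.t (E.S.φ E.S.D.a) from E.S.comm _).orderOf_mul_eq_mul_orderOf_of_coprime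
      (by rw [E.S.orderOf_t, hoa]; exact hmodd.coprime_two_left), E.S.orderOf_t, hoa, h2m]
  have hdisj : Disjoint (zpowers c) (E.P : Subgroup G) := Subgroup.disjoint_of_coprime_natCard (by
    rw [Nat.card_zpowers, hord, hP]; exact hcop.symm)
  let f : zpowers c × (E.P : Subgroup G) → E.H := fun y =>
    ⟨(y.1 : G) * y.2, mul_mem ((zpowers_le.2 hcH) y.1.2) (E.P_le y.2.2)⟩
  have hinj : Function.Injective f := by
    intro y y' h
    exact Subgroup.mul_injective_of_disjoint hdisj (congrArg Subtype.val h)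
  have hbij : Function.Bijective f := by
    haveI : Fintype E.H := Fintype.ofFinite _
    haveI : Fintype (zpowers c × (E.P : Subgroup G)) := Fintype.ofFinite _
    refine (Fintype.bijective_iff_injective_and_card f).2 ⟨hinj, ?_⟩
    rw [← Nat.card_eq_fintype_card, ← Nat.card_eq_fintype_card, Nat.card_prod, Nat.card_zpowers, hord, hP, hH,
      mul_comm]
  obtain ⟨⟨⟨y, hy⟩, p⟩, he⟩ := hbij.2 ⟨h, hh⟩
  obtain ⟨i, hi⟩ := Submonoid.mem_powers_iff y c |>.1 (mem_powers_iff_mem_zpowers.2 hy)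
  exact ⟨i, p, p.2, by rw [hi]; exact (congrArg Subtype.val he).symm⟩

/-- The product of two involutions of `H` lies in `P`. -/
theorem mul_invol_mem {a b : G} (ha : a ∈ E.H) (hb : b ∈ E.H) (ha2 : a * a = 1) (hb2 : b * b = 1)
    (ha1 : a ≠ 1) (hb1 : b ≠ 1) : a * b ∈ (E.P : Subgroup G) := by
  obtain ⟨hH, hP, hcop⟩ := E.card_facts
  obtain ⟨hoa, -, hmodd, -, h2m⟩ := torus_facts E.S
  set c := E.S.t * E.S.φ E.S.D.a with hc
  have hcH : c ∈ E.H := mul_mem E.t_mem E.a_mem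
  have key : ∀ {g : G}, g ∈ E.H → g * g = 1 → g ≠ 1 →
      ∃ p ∈ (E.P : Subgroup G), g = E.S.t * p := by
    intro g hg hg2 hg1
    obtain ⟨i, p, hp, rfl⟩ := E.H_decomp hg
    have hci : c ^ i ∈ E.H := pow_mem hcH i
    have hmem : c ^ (i + i) ∈ (E.P : Subgroup G) := by
      have h2 : c ^ i * p = p⁻¹ * (c ^ i)⁻¹ := by
        rw [← _root_.mul_inv_rev]; exact eq_inv_of_mul_eq_one_left hg2
      have h3 : c ^ (i + i) = (c ^ i * p⁻¹ * (c ^ i)⁻¹) * p⁻¹ := by
        calc c ^ (i + i) = c ^ i * (c ^ i * p) * p⁻¹ := by rw [pow_add]; group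
          _ = _ := by rw [h2]; group
      rw [h3]
      exact mul_mem (E.conj_P_mem hci (inv_mem hp)) (inv_mem hp)
    have hc2 : c ^ (i + i) = 1 := by
      refine mem_bot.1 ((disjoint_iff.1 (Subgroup.disjoint_of_coprime_natCard (H := zpowers c)
        (K := (E.P : Subgroup G)) ?_)) ▸ Subgroup.mem_inf.2 ⟨pow_mem (mem_zpowers c) _, hmem⟩)
      rw [Nat.card_zpowers, hP]
      refine Nat.Coprime.coprime_dvd_left ?_ hcop.symm
      rw [hc, (show Commute E.S.t (E.S.φ E.S.D.a) from E.S.comm _).orderOf_mul_eq_mul_orderOf_of_coprime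
        (by rw [E.S.orderOf_t, hoa]; exact hmodd.coprime_two_left), E.S.orderOf_t, hoa, h2m]
    have hcpow : c ^ i = E.S.t ^ i * E.S.φ E.S.D.a ^ i := (show Commute E.S.t (E.S.φ E.S.D.a) from E.S.comm _).mul_pow i
    have ha2' : E.S.φ E.S.D.a ^ (i + i) = 1 := by
      rwa [hc, (show Commute E.S.t (E.S.φ E.S.D.a) from E.S.comm _).mul_pow, pow_add E.S.t,
        ← (Commute.refl E.S.t).mul_pow, E.S.t_sq, one_pow, one_mul] at hc2
    have hai : E.S.φ E.S.D.a ^ i = 1 := by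
      rw [← orderOf_dvd_iff_pow_eq_one, hoa] at ha2' ⊢
      exact hmodd.coprime_two_right.dvd_of_dvd_mul_left (n := i) (by rw [Nat.two_mul i]; exact ha2')
    rw [hai, mul_one] at hcpow
    rcases Nat.even_or_odd i with ⟨j, rfl⟩ | ⟨j, rfl⟩
    · exfalso
      rw [pow_add E.S.t, ← (Commute.refl E.S.t).mul_pow, E.S.t_sq, one_pow] at hcpow
      rw [hcpow, one_mul] at hg2 hg1
      have h1 : orderOf p ∣ 2 := orderOf_dvd_of_pow_eq_one (by rw [pow_two, hg2])
      have h2 : orderOf p ∣ q ^ 3 := hP ▸ Subgroup.orderOf_dvd_natCard _ hp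
      exact hg1 (orderOf_eq_one_iff.1 (Nat.eq_one_of_dvd_coprimes (Nat.coprime_two_left.2
        (Odd.pow (Odd.pow (by decide)))) h1 h2))
    · rw [pow_succ E.S.t, pow_mul, pow_two, E.S.t_sq, one_pow, one_mul] at hcpow
      exact ⟨p, hp, by rw [hcpow]⟩
  obtain ⟨p, hp, rfl⟩ := key ha ha2 ha1
  obtain ⟨r, hr, rfl⟩ := key hb hb2 hb1
  rw [show E.S.t * p * (E.S.t * r) = (E.S.t * p * E.S.t⁻¹) * r by
    rw [E.S.t_inv]; group]
  exact mul_mem (E.conj_P_mem E.t_mem hp) hr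

include E in
theorem exists_ne_pt : ∃ p : G ⧸ E.H, p ≠ E.pt := by
  by_contra hcon
  push Not at hcon
  have h1 : Nat.card (G ⧸ E.H) ≤ 1 := Finite.card_le_one_iff_subsingleton.2
    ⟨fun a b => (hcon a).trans (hcon b).symm⟩
  rw [← Subgroup.index_eq_card, E.idx] at h1
  have : 1 ≤ q ^ 3 := Nat.one_le_pow _ _ (by positivity)
  omega

theorem torus_pow {i : ℕ} : E.S.φ E.S.D.a ^ i = E.S.φ (E.S.D.a ^ i) := (map_pow _ _ _).symm

/-- The swapping element is outside `H`. -/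
theorem w_notMem : E.S.φ E.S.D.w ∉ E.H := by
  intro hw
  obtain ⟨hH, hP, hcop⟩ := E.card_facts
  obtain ⟨hoa, h13, hmodd, -, h2m⟩ := torus_facts E.S
  set a := E.S.φ E.S.D.a
  set w := E.S.φ E.S.D.w
  obtain ⟨i, p, hp, he⟩ := E.H_decomp hw
  set c := E.S.t * a
  have hac : Commute a c := (show Commute E.S.t a from E.S.comm _).symm.mul_right (Commute.refl a)
  have hwa : w * a * w⁻¹ = a⁻¹ := by
    rw [← map_inv, ← map_inv, ← map_mul, ← map_mul, E.S.D.w_inv]
  -- `w a w⁻¹ a⁻¹` lies in `P`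
  have hmem : a⁻¹ * a⁻¹ ∈ (E.P : Subgroup G) := by
    have h1 : a⁻¹ * a⁻¹ = (c ^ i * p * (c ^ i)⁻¹) * (a * (c ^ i * p⁻¹ * (c ^ i)⁻¹) * a⁻¹) := by
      nth_rewrite 1 [← hwa]
      rw [he]
      calc c ^ i * p * a * (c ^ i * p)⁻¹ * a⁻¹ =
          (c ^ i * p * (c ^ i)⁻¹) * (c ^ i * a) * p⁻¹ * (c ^ i)⁻¹ * a⁻¹ := by group
        _ = _ := by rw [← (hac.pow_right i).eq]; group
    rw [h1]
    exact mul_mem (E.conj_P_mem (pow_mem (mul_mem E.t_mem E.a_mem) i) hp)
      (E.conj_P_mem E.a_mem (E.conj_P_mem (pow_mem (mul_mem E.t_mem E.a_mem) i) (inv_mem hp)))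
  have h2 : orderOf (a ^ 2) ∣ q ^ 3 := by
    rw [← hP, ← orderOf_inv, pow_two, _root_.mul_inv_rev]
    exact Subgroup.orderOf_dvd_natCard _ hmem
  have h3 : orderOf (a ^ 2) ∣ q - 1 := (orderOf_pow_dvd 2).trans (hoa ▸ h2m ▸ dvd_mul_left _ _)
  have h4 := orderOf_eq_one_iff.1 (Nat.eq_one_of_dvd_coprimes hcop h2 h3)
  rw [← orderOf_dvd_iff_pow_eq_one, hoa] at h4
  have := Nat.le_of_dvd two_pos h4
  omega

theorem pt0_ne : E.pt0 ≠ E.pt := fun h => E.w_notMem (E.mem_H_iff.2 h)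

theorem torus_fix {s : G} (hs : s ∈ zpowers (E.S.φ E.S.D.a)) :
    s • E.pt = E.pt ∧ s • E.pt0 = E.pt0 := by
  have hsH : s ∈ E.H := (zpowers_le.2 E.a_mem) hs
  refine ⟨E.mem_H_iff.1 hsH, ?_⟩
  obtain ⟨i, rfl⟩ := mem_zpowers_iff.1 hs
  have hw : (E.S.φ E.S.D.w)⁻¹ * E.S.φ E.S.D.a ^ i * E.S.φ E.S.D.w ∈ E.H := by
    have hwi : E.S.D.w⁻¹ = E.S.D.w := inv_eq_of_mul_eq_one_right E.S.D.w_sq
    have h : (E.S.φ E.S.D.w)⁻¹ * E.S.φ E.S.D.a * (E.S.φ E.S.D.w)⁻¹⁻¹ = (E.S.φ E.S.D.a)⁻¹ := by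
      rw [inv_inv, ← map_inv, ← map_inv, ← map_mul, ← map_mul, ← E.S.D.w_inv, hwi]
    have h2 : ((E.S.φ E.S.D.w)⁻¹ * E.S.φ E.S.D.a * (E.S.φ E.S.D.w)⁻¹⁻¹) ^ i =
        (E.S.φ E.S.D.w)⁻¹ * E.S.φ E.S.D.a ^ i * (E.S.φ E.S.D.w)⁻¹⁻¹ := conj_zpow
    rw [h, inv_inv] at h2
    rw [← h2]
    exact zpow_mem (inv_mem E.a_mem) i
  have := E.mem_H_iff.1 hw
  rw [mul_smul, mul_smul, inv_smul_eq_iff] at this
  exact this

theorem t_fix : E.S.t • E.pt = E.pt ∧ E.S.t • E.pt0 = E.pt0 := by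
  refine ⟨E.mem_H_iff.1 E.t_mem, ?_⟩
  rw [pt0, ← mul_smul, E.S.comm, mul_smul, E.mem_H_iff.1 E.t_mem]

/-- The torus acts without fixed points on `P`. -/
theorem fixed_free {s x : G} (hs : s ∈ zpowers (E.S.φ E.S.D.a)) (hs1 : s ≠ 1)
    (hx : x ∈ (E.P : Subgroup G)) (hc : x * s = s * x) : x = 1 := by
  classical
  by_contra hx1
  haveI : Fact (Nat.Prime 2) := ⟨Nat.prime_two⟩
  set C := centralizer ({s} : Set G) with hC
  have hts : E.S.t * s = s * E.S.t := (t_comm_torus E.S hs).symm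
  have htC : E.S.t ∈ C := mem_centralizer_singleton_iff.2 hts
  have hs' : ∃ l ∈ zpowers E.S.D.a, E.S.φ l = s := by
    rw [← MonoidHom.map_zpowers] at hs; exact hs
  obtain ⟨l, hl, rfl⟩ := hs'
  have hl1 : l ≠ 1 := fun h => hs1 (by rw [h, map_one])
  have hcent : ∀ g ∈ C, g * E.S.t = E.S.t * g →
      ∃ l' ∈ zpowers E.S.D.a, g = E.S.φ l' ∨ g = E.S.t * E.S.φ l' := by
    intro g hg hgt
    obtain ⟨l', hl'⟩ := E.S.cent g hgt
    refine ⟨l', E.S.D.cent_a l hl hl1 l' (E.S.inj ?_), hl'⟩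
    have hg' := mem_centralizer_singleton_iff.1 hg
    rw [map_mul, map_mul]
    rcases hl' with rfl | rfl
    · exact hg'
    · rw [mul_assoc, ← mul_assoc (E.S.φ l), ← E.S.comm, mul_assoc] at hg'
      exact mul_left_cancel hg'
  set tC : C := ⟨E.S.t, htC⟩
  obtain ⟨P2, hP2⟩ : ∃ P2 : Sylow 2 C, (P2 : Subgroup C) = zpowers tC := by
    obtain ⟨P2, hle⟩ := (IsPGroup.of_card (n := 1) (show Nat.card (zpowers tC) = 2 ^ 1 by
      rw [Nat.card_zpowers, orderOf_mk, E.S.orderOf_t, pow_one])).exists_le_sylow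
    refine ⟨P2, le_antisymm (fun y hy => ?_) hle⟩
    obtain ⟨hsq, hcomm, -⟩ := E.S.isPGroup_sq (P2.isPGroup'.map C.subtype)
    have hyG : (y : G) ∈ (P2 : Subgroup C).map C.subtype := ⟨y, hy, rfl⟩
    have htG : E.S.t ∈ (P2 : Subgroup C).map C.subtype := ⟨tC, hle (mem_zpowers _), rfl⟩
    obtain ⟨l', hl', he⟩ := hcent y y.2 (hcomm _ hyG _ htG)
    have h2 := hsq _ hyG
    have hll : l' * l' = 1 := by
      apply E.S.inj
      rw [map_one]
      rcases he with e | e <;> rw [e] at h2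
      · rwa [map_mul]
      · rwa [E.S.t_φ_pow_two] at h2
    have hl'1 : l' = 1 := by
      obtain ⟨hoa, -, hodd, -, -⟩ := torus_facts E.S
      rw [← orderOf_eq_one_iff]
      refine Nat.eq_one_of_dvd_coprimes (Nat.coprime_two_left.2 hodd)
        (orderOf_dvd_of_pow_eq_one (show l' ^ 2 = 1 by rw [pow_two, hll])) ?_
      rw [← hoa, orderOf_injective E.S.φ E.S.inj]
      exact orderOf_dvd_of_mem_zpowers hl'
    subst hl'1
    rcases he with e | e
    · rw [map_one] at e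
      rw [show y = 1 from Subtype.ext e]
      exact one_mem _
    · rw [map_one, mul_one] at e
      rw [show y = tC from Subtype.ext e]
      exact mem_zpowers _
  obtain ⟨M, hMn, -, hModd, hM⟩ := exists_odd_complement P2 hP2 (by rw [orderOf_mk, E.S.orderOf_t])
  set F := {p : G ⧸ E.H | E.S.φ l • p = p} with hF
  obtain ⟨hfix, hfix0⟩ := E.torus_fix hs
  -- three-elements of `C` lie in `M`
  have hMmem : ∀ g : G, ∀ hg : g ∈ C, Odd (orderOf g) → (⟨g, hg⟩ : C) ∈ M := fun g hg h =>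
    hM _ (by rwa [orderOf_mk])
  have hoddP : ∀ y ∈ (E.P : Subgroup G), Odd (orderOf y) := fun y hy => by
    refine Odd.of_dvd_nat ?_ (E.card_facts.2.1 ▸ Subgroup.orderOf_dvd_natCard _ hy)
    exact Odd.pow (Odd.pow (by decide))
  set wG := E.S.φ E.S.D.w with hwG
  have hwi : wG⁻¹ = wG := inv_eq_of_mul_eq_one_right (by rw [hwG, ← map_mul, E.S.D.w_sq, map_one])
  have hXC : ∀ y ∈ (E.P : Subgroup G), y * E.S.φ l = E.S.φ l * y → y ∈ C := fun y _ h =>
    mem_centralizer_singleton_iff.2 h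
  -- the conjugate of `x` by `w`
  have hwx : wG * x * wG⁻¹ ∈ C := by
    refine mem_centralizer_singleton_iff.2 ?_
    have hinv : wG * (E.S.φ l)⁻¹ * wG⁻¹ = E.S.φ l := by
      obtain ⟨i, rfl⟩ := mem_zpowers_iff.1 hl
      rw [hwG, ← map_inv, ← map_inv, ← map_mul, ← map_mul, ← zpow_neg, ← conj_zpow, E.S.D.w_inv,
        inv_zpow, ← zpow_neg, neg_neg]
    have := ((Commute.conj_iff wG).2 (show Commute x (E.S.φ l)⁻¹ from Commute.inv_right hc)).eq
    rwa [hinv] at this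
  -- the orbit of the point under `M` is all of the fixed points
  set e := Nat.card {p // p ∈ F} with he
  have hFeq : ∀ p ∈ F, p ≠ E.pt → ∃ y ∈ (E.P : Subgroup G), y * E.S.φ l = E.S.φ l * y ∧
      y • E.pt0 = p := by
    intro p hp hne
    obtain ⟨y, hy, hyp⟩ := E.exists_P_map E.pt0_ne hne
    refine ⟨y, hy, ?_, hyp⟩
    have hsy : E.S.φ l * y * (E.S.φ l)⁻¹ ∈ (E.P : Subgroup G) :=
      E.conj_P_mem ((zpowers_le.2 E.a_mem) hs) hy
    have h1 : y⁻¹ * (E.S.φ l * y * (E.S.φ l)⁻¹) = 1 := by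
      refine E.regular (mul_mem (inv_mem hy) hsy) E.pt0_ne ?_
      rw [mul_smul, mul_smul, mul_smul, inv_smul_eq_iff]
      rw [show (E.S.φ l)⁻¹ • E.pt0 = E.pt0 from inv_smul_eq_iff.2 hfix0.symm, hyp]
      exact hp
    rw [inv_mul_eq_one] at h1
    nth_rewrite 1 [h1]
    group
  have hFC : ∀ g ∈ C, ∀ p ∈ F, g • p ∈ F := fun g hg p hp => by
    show E.S.φ l • g • p = g • p
    rw [← mul_smul, ← mem_centralizer_singleton_iff.1 hg, mul_smul, hp]
  have hgM : ∀ y ∈ (E.P : Subgroup G), y * E.S.φ l = E.S.φ l * y →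
      ∀ p : G ⧸ E.H, p ∈ orbit M E.pt → y • p ∈ orbit M E.pt := by
    intro y hy hyc p hp
    obtain ⟨m, rfl⟩ := hp
    exact ⟨⟨⟨y, hXC y hy hyc⟩, hMmem y (hXC y hy hyc) (hoddP y hy)⟩ * m, mul_smul _ _ _⟩
  set r := (wG * x * wG⁻¹) • E.pt with hr
  have hrne : r ≠ E.pt := by
    intro h
    refine hx1 (E.regular hx E.pt0_ne ?_)
    rw [hr, mul_smul, mul_smul, ← eq_inv_smul_iff, hwi] at h
    exact h
  have hrorb : r ∈ orbit M E.pt :=
    ⟨⟨⟨_, hwx⟩, hMmem _ hwx (by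
      rw [Invol.orderOf_conj_eq]; exact hoddP x hx)⟩, rfl⟩
  have horb : orbit M E.pt = F := by
    refine Set.Subset.antisymm ?_ fun p hp => ?_
    · rintro _ ⟨m, rfl⟩
      exact hFC _ (m : C).2 _ hfix
    · by_cases hp1 : p = E.pt
      · exact hp1 ▸ mem_orbit_self _
      obtain ⟨y, hy, hyc, hyp⟩ := hFeq p hp hp1
      obtain ⟨y', hy', hyc', hyp'⟩ := hFeq r (hFC _ hwx _ hfix) hrne
      have h1 := hgM (y * y'⁻¹) (mul_mem hy (inv_mem hy'))
        ((Commute.mul_left hyc (Commute.inv_left hyc')).eq) r hrorb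
      rwa [mul_smul, show y'⁻¹ • r = E.pt0 from inv_smul_eq_iff.2 hyp'.symm, hyp] at h1
  -- the fixed points are `∞` and the regular orbit of `C_P(s)`
  let X : Subgroup G := (E.P : Subgroup G) ⊓ C
  have hcardF : F.ncard = Nat.card X + 1 := by
    have hXimg : F = insert E.pt ((fun y : X => (y : G) • E.pt0) '' Set.univ) := by
      ext p
      constructor
      · intro hp
        by_cases hp1 : p = E.pt
        · exact Or.inl hp1
        · obtain ⟨y, hy, hyc, hyp⟩ := hFeq p hp hp1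
          exact Or.inr ⟨⟨y, hy, hXC y hy hyc⟩, trivial, hyp⟩
      · rintro (rfl | ⟨y, -, rfl⟩)
        · exact hfix
        · exact hFC _ y.2.2 _ hfix0
    rw [hXimg, Set.ncard_insert_of_notMem, Set.ncard_image_of_injective, Set.ncard_univ]
    · intro y y' h
      refine Subtype.ext (inv_mul_eq_one.1 (E.regular (mul_mem (inv_mem y'.2.1) y.2.1) E.pt0_ne ?_)).symm
      rw [mul_smul, show (y : G) • E.pt0 = (y' : G) • E.pt0 from h, inv_smul_smul]
    · rintro ⟨y, -, hy⟩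
      refine E.pt0_ne ?_
      rw [← smul_left_cancel_iff (y : G), E.mem_H_iff.1 (E.P_le y.2.1)]
      exact hy
  have hXodd : Odd (Nat.card X) := by
    refine Odd.of_dvd_nat ?_ (E.card_facts.2.1 ▸ Subgroup.card_dvd_of_le (inf_le_left : X ≤ E.P))
    exact Odd.pow (Odd.pow (by decide))
  have horbodd : Odd (orbit M E.pt).ncard := by
    refine Odd.of_dvd_nat hModd ?_
    rw [← Nat.card_coe_set_eq, Nat.card_congr (orbitEquivQuotientStabilizer M E.pt),
      ← Subgroup.index_eq_card]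
    exact Subgroup.index_dvd_card _
  rw [horb, hcardF] at horbodd
  exact absurd horbodd (Nat.not_odd_iff_even.2 hXodd.add_one)

end Geo

end Cfsg.Lib.TICyclic
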