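import Cfsg.Agent.Lib.TICyclic.Basic
import Cfsg.Agent.Lib.Dickson.CentralizerCard
import Cfsg.Agent.Lib.Dickson.TransBasics
import Cfsg.Agent.Lib.J1.Spectrum
import Mathlib.GroupTheory.SpecificGroups.Alternating

/-!
# Groups with and without TI cyclic subgroups of prime power order

`PSL₂(F)` and the first Janko group have them; the alternating group of degree seven has not, and
`PSL₂` in characteristic two has no element of order four.
-/

set_option autoImplicit false
set_option linter.unusedSectionVars false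
set_option linter.style.haveILetI false

namespace Cfsg.Lib.TICyclic

open Subgroup Cfsg Cfsg.Lib

section General

variable {G K : Type*} [Group G] [Group K]

theorem IsTI.of_mulEquiv (e : G ≃* K) (h : IsTI K) : IsTI G := by
  intro H hH hpp g
  set φ := e.toMonoidHom with hφ
  have hc : Nat.card (H.map φ) = Nat.card H :=
    (Nat.card_congr (equivMapOfInjective H φ e.injective).toEquiv).symm
  have hcyc : IsCyclic (H.map φ) :=
    isCyclic_of_surjective _ (equivMapOfInjective H φ e.injective).surjective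
  have hconj : (H.map φ).map (MulAut.conj (e g)).toMonoidHom =
      (H.map (MulAut.conj g).toMonoidHom).map φ := by
    rw [Subgroup.map_map, Subgroup.map_map]
    congr 1
    ext x
    show e g * e x * (e g)⁻¹ = e (g * x * g⁻¹)
    rw [map_mul, map_mul, map_inv]
  rcases h (H.map φ) hcyc (hc ▸ hpp) (e g) with he | he <;> rw [hconj] at he
  · exact Or.inl (map_injective e.injective he)
  · refine Or.inr (map_injective (f := φ) e.injective ?_)
    rw [Subgroup.map_inf _ _ _ e.injective, he, Subgroup.map_bot]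

/-- A subgroup of prime order is TI. -/
theorem ti_of_prime [Finite G] {H : Subgroup G} (hp : (Nat.card H).Prime) (g : G) :
    H.map (MulAut.conj g).toMonoidHom = H ∨ H.map (MulAut.conj g).toMonoidHom ⊓ H = ⊥ := by
  have hc : Nat.card (H.map (MulAut.conj g).toMonoidHom) = Nat.card H :=
    (Nat.card_congr (equivMapOfInjective H _ (MulAut.conj g).injective).toEquiv).symm
  rcases (Nat.dvd_prime hp).1 (card_dvd_of_le (inf_le_right :
      H.map (MulAut.conj g).toMonoidHom ⊓ H ≤ H)) with h | h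
  · exact Or.inr (Subgroup.eq_bot_of_card_eq _ h)
  · left
    have h1 : H.map (MulAut.conj g).toMonoidHom ⊓ H = H :=
      eq_of_le_of_card_ge inf_le_right (le_of_eq h.symm)
    exact (eq_of_le_of_card_ge (inf_eq_right.1 h1) (le_of_eq hc)).symm

/-- Subgroups of the same order in a cyclic group are equal. -/
theorem eq_of_isCyclic [Finite G] [IsCyclic G] {A B : Subgroup G} (h : Nat.card A = Nat.card B) :
    A = B := by
  classical
  haveI := Fintype.ofFinite G
  set S : Finset G := Finset.univ.filter fun x => x ^ Nat.card A = 1 with hS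
  have hle : S.card ≤ Nat.card A := IsCyclic.card_pow_eq_one_le Nat.card_pos
  have key : ∀ C : Subgroup G, Nat.card C = Nat.card A →
      (Finset.univ.filter fun x => x ∈ C) = S := by
    intro C hC
    refine Finset.eq_of_subset_of_card_le (fun x hx => ?_) ?_
    · simp only [hS, Finset.mem_filter, Finset.mem_univ, true_and] at hx ⊢
      exact orderOf_dvd_iff_pow_eq_one.1 (hC ▸ orderOf_dvd_natCard C hx)
    · refine hle.trans (le_of_eq ?_)
      rw [← hC, Nat.card_eq_fintype_card, Fintype.card_subtype]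
  ext x
  have := Finset.ext_iff.1 ((key A rfl).trans (key B h.symm).symm) x
  simpa using this

/-- Cyclic subgroups of order more than two of a dihedral group are equal when their orders are. -/
theorem eq_of_dihedral [Finite G] {k : ℕ} (e : G ≃* DihedralGroup k) {a b : G}
    (ha : 2 < orderOf a) (hab : orderOf a = orderOf b) : zpowers a = zpowers b := by
  have hrot : ∀ c : G, 2 < orderOf c → c ∈ zpowers (e.symm (DihedralGroup.r 1)) := by
    intro c hc
    cases hec : e c with
    | r i =>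
      obtain ⟨j, rfl⟩ := ZMod.intCast_surjective i
      refine mem_zpowers_iff.2 ⟨j, ?_⟩
      rw [← map_zpow, DihedralGroup.r_one_zpow, ← hec, MulEquiv.symm_apply_apply]
    | sr i =>
      exfalso
      have : orderOf (e c) = 2 := by rw [hec, DihedralGroup.orderOf_sr]
      rw [MulEquiv.orderOf_eq] at this
      omega
  set R := zpowers (e.symm (DihedralGroup.r 1)) with hR
  have hA := zpowers_le.2 (hrot a ha)
  have hB := zpowers_le.2 (hrot b (hab ▸ ha))
  have h := eq_of_isCyclic (G := R) (A := (zpowers a).subgroupOf R) (B := (zpowers b).subgroupOf R) (by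
    rw [Nat.card_congr (subgroupOfEquivOfLe hA).toEquiv,
      Nat.card_congr (subgroupOfEquivOfLe hB).toEquiv, Nat.card_zpowers, Nat.card_zpowers, hab])
  have h' := congrArg (Subgroup.map R.subtype) h
  rwa [map_subgroupOf_eq_of_le hA, map_subgroupOf_eq_of_le hB] at h'

end General

section PSL

variable {F : Type} [Field F] [Fintype F]

local notation "SL2" => Matrix.SpecialLinearGroup (Fin 2) F
local notation "PSL2" => Matrix.ProjectiveSpecialLinearGroup (Fin 2) F

open Dickson in
/-- Elements of `p`-power order in characteristic `p` have exponent `p`. -/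
theorem psl_pow_char (p : ℕ) [Fact p.Prime] [CharP F p] {x : PSL2} {j : ℕ} (hx : x ^ p ^ j = 1) :
    x ^ p = 1 := by
  obtain ⟨i, -, hi⟩ := (Nat.dvd_prime_pow Fact.out).1 (orderOf_dvd_of_pow_eq_one hx)
  obtain ⟨P, hP⟩ := (IsPGroup.of_card (n := i) (by rw [Nat.card_zpowers, hi]) :
    IsPGroup p (zpowers x)).exists_le_sylow
  obtain ⟨g, rfl⟩ := MulAction.exists_smul_eq PSL2 (stdSylow (F := F) p) P
  have hxP := hP (mem_zpowers x)
  rw [Sylow.coe_subgroup_smul] at hxP
  obtain ⟨y, hy, rfl⟩ := hxP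
  rw [SetLike.mem_coe, stdSylow_coe] at hy
  obtain ⟨u, hu, rfl⟩ := hy
  obtain ⟨h00, h11, h10⟩ := Cfsg.Lib.Linear.Two.mem_UT.1 hu
  show (g * QuotientGroup.mk' _ u * g⁻¹) ^ p = 1
  rw [conj_pow, ← map_pow, unip_pow_char p h00 h11 (by rw [h10, mul_zero]), map_one, mul_one,
    mul_inv_cancel]

/-- In characteristic two there is no element of order four. -/
theorem psl_no_four {a : ℕ} (hF : Fintype.card F = 2 ^ a) (x : PSL2) :
    orderOf x ≠ 4 := by
  intro hx
  obtain ⟨p, hp⟩ := CharP.exists F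
  obtain ⟨m, hpp, hm⟩ := FiniteField.card F p
  have hp2 : p = 2 := (Nat.prime_dvd_prime_iff_eq hpp Nat.prime_two).1
    (hpp.dvd_of_dvd_pow ((hF ▸ hm) ▸ dvd_pow_self p m.pos.ne' : p ∣ 2 ^ a))
  subst hp2
  haveI := Fact.mk hpp
  have h := orderOf_dvd_of_pow_eq_one (psl_pow_char 2 (x := x) (j := 2)
    (show x ^ 4 = 1 from hx ▸ pow_orderOf_eq_one x))
  rw [hx] at h
  norm_num at h

open Dickson in
/-- Cyclic subgroups of prime power order of `PSL₂(F)` are TI. -/
theorem ti_psl : IsTI PSL2 := by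
  intro H hH hpp g
  obtain ⟨r, k, hr, hk, hc⟩ := hpp
  rw [← Nat.prime_iff] at hr
  haveI := Fact.mk hr
  obtain ⟨h, rfl⟩ := (Subgroup.isCyclic_iff_exists_zpowers_eq_top H).1 hH
  rw [Nat.card_zpowers] at hc
  rcases Nat.lt_or_ge k 2 with hk2 | hk2
  · obtain rfl : k = 1 := by omega
    exact ti_of_prime (by rwa [Nat.card_zpowers, ← hc, pow_one]) g
  obtain ⟨p, hp⟩ := CharP.exists F
  obtain ⟨m, hpp, -⟩ := FiniteField.card F p
  haveI := Fact.mk hpp
  have hrp : r ≠ p := by
    rintro rfl
    have h1 := orderOf_dvd_of_pow_eq_one (psl_pow_char r (x := h) (j := k)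
      (by rw [hc, pow_orderOf_eq_one]))
    rw [← hc] at h1
    have := (Nat.pow_dvd_pow_iff_le_right hr.one_lt).1 (h1.trans (by rw [pow_one]) : r ^ k ∣ r ^ 1)
    omega
  rw [MonoidHom.map_zpowers]
  set h' := (MulAut.conj g).toMonoidHom h with hh'
  have ho : orderOf h' = orderOf h := orderOf_injective _ (MulAut.conj g).injective h
  by_cases hbot : zpowers h' ⊓ zpowers h = ⊥
  · exact Or.inr hbot
  left
  -- a common element of order `r`
  have hdvd : r ∣ Nat.card (zpowers h' ⊓ zpowers h : Subgroup PSL2) := by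
    have h1 : Nat.card (zpowers h' ⊓ zpowers h : Subgroup PSL2) ∣ r ^ k :=
      (hc.symm ▸ Nat.card_zpowers h ▸ card_dvd_of_le inf_le_right)
    obtain ⟨i, -, hi⟩ := (Nat.dvd_prime_pow hr).1 h1
    rcases i.eq_zero_or_pos with rfl | hi0
    · exact absurd (Subgroup.eq_bot_of_card_eq _ (by rw [hi, pow_zero])) hbot
    · exact hi ▸ dvd_pow_self r hi0.ne'
  obtain ⟨⟨x, hx'⟩, hxo⟩ := exists_prime_orderOf_dvd_card' r hdvd
  rw [orderOf_mk] at hxo
  have hx1 : x ≠ 1 := fun e => by rw [e, orderOf_one] at hxo; exact hr.one_lt.ne hxo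
  have hpx : ¬ p ∣ orderOf x := by
    rw [hxo]; exact fun e => hrp ((Nat.prime_dvd_prime_iff_eq hpp hr).1 e).symm
  set C := centralizer ({x} : Set PSL2) with hC
  have hcomm : ∀ c : PSL2, x ∈ zpowers c → c ∈ C := fun c hxc => by
    obtain ⟨i, rfl⟩ := mem_zpowers_iff.1 hxc
    exact mem_centralizer_singleton_iff.2 (Commute.self_zpow c i).eq
  have hhC : h ∈ C := hcomm h hx'.2
  have hh'C : h' ∈ C := hcomm h' hx'.1
  have h4 : 2 < orderOf h := by
    rw [← hc]
    exact lt_of_lt_of_le (by norm_num) ((Nat.pow_le_pow_left hr.two_le 2).trans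
      (Nat.pow_le_pow_right hr.pos hk2))
  have hmap : ∀ c : C, (zpowers c).map C.subtype = zpowers (c : PSL2) := fun c =>
    MonoidHom.map_zpowers _ _
  suffices hz : zpowers (⟨h', hh'C⟩ : C) = zpowers (⟨h, hhC⟩ : C) by
    have := congrArg (Subgroup.map C.subtype) hz
    rwa [hmap, hmap] at this
  rcases psl_subgroup_cases p C with ⟨n, -, ⟨hcyc, -⟩ | ⟨⟨e⟩⟩⟩ | ⟨hpC, -⟩ | ⟨hnn, -⟩
  · haveI := hcyc
    exact eq_of_isCyclic (by rw [Nat.card_zpowers, Nat.card_zpowers, orderOf_mk, orderOf_mk, ho])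
  · exact eq_of_dihedral e (by rw [orderOf_mk, ho]; exact h4) (by rw [orderOf_mk, orderOf_mk, ho])
  · exact absurd hpC (not_dvd_card_centralizer p hx1 hpx)
  · exfalso
    have hxC : x ∈ C := mem_centralizer_singleton_iff.2 rfl
    have hn : (zpowers (⟨x, hxC⟩ : C)).Normal := by
      refine ⟨fun a ha b => ?_⟩
      obtain ⟨i, rfl⟩ := mem_zpowers_iff.1 ha
      have hb : Commute b (⟨x, hxC⟩ : C) := Subtype.ext (mem_centralizer_singleton_iff.1 b.2)
      rw [(hb.zpow_right i).eq, mul_inv_cancel_right]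
      exact zpow_mem (mem_zpowers _) i
    have := hnn _ hn inferInstance
    rw [zpowers_eq_bot] at this
    exact hx1 (congrArg Subtype.val this)

end PSL

section Examples

theorem ti_isoJ1 {G : Type*} [Group G] [Finite G] (h : Spor.IsoJ1 G) : IsTI G := by
  obtain ⟨φ⟩ := h
  intro H hH hpp g
  obtain ⟨r, k, hr, hk, hc⟩ := hpp
  rw [← Nat.prime_iff] at hr
  refine ti_of_prime ?_ g
  obtain ⟨x, rfl⟩ := (Subgroup.isCyclic_iff_exists_zpowers_eq_top H).1 hH
  rw [Nat.card_zpowers] at hc ⊢
  have hm := Cfsg.Lib.J1.orderOf_mem (φ x)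
  rw [MulEquiv.orderOf_eq] at hm
  simp only [Cfsg.Lib.J1.ordList, List.mem_cons, List.not_mem_nil, or_false] at hm
  rcases (show k = 1 ∨ 2 ≤ k by omega) with rfl | hk2
  · rwa [← hc, pow_one]
  exfalso
  have hd : r ^ 2 ∣ orderOf x := hc ▸ pow_dvd_pow r hk2
  have hle : orderOf x ≤ 19 := by omega
  have hr5 : r < 5 := by
    have h1 := Nat.le_of_dvd (orderOf_pos x) hd
    by_contra h
    have h2 : 25 ≤ r ^ 2 := by nlinarith [not_lt.1 h]
    omega
  have h2r := hr.two_le
  interval_cases r
  · norm_num at hd; omega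
  · norm_num at hd; omega
  · norm_num at hr

theorem not_ti_alt_seven : ¬ IsTI (alternatingGroup (Fin 7)) := by
  intro hti
  let x : alternatingGroup (Fin 7) :=
    ⟨Equiv.swap 0 1 * Equiv.swap 1 2 * Equiv.swap 2 3 * Equiv.swap 4 5, by
      rw [Equiv.Perm.mem_alternatingGroup]; decide⟩
  let g : alternatingGroup (Fin 7) := ⟨Equiv.swap 4 5 * Equiv.swap 5 6, by
      rw [Equiv.Perm.mem_alternatingGroup]; decide⟩
  have hx4 : x ^ 4 = 1 := by decide
  have hx2 : x ^ 2 ≠ 1 := by decide
  haveI := Fact.mk Nat.prime_two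
  have ho : orderOf x = 2 ^ 2 :=
    orderOf_eq_prime_pow (p := 2) (n := 1) (by rwa [pow_one]) hx4
  have hcomm : g * x ^ 2 = x ^ 2 * g := by decide
  obtain ⟨i, hi, he⟩ : ∃ i < 4, x ^ i = g * x * g⁻¹ := by
    have h := hti.conj_mem Nat.prime_two ho hx2 hcomm
    rw [mem_zpowers_iff_mem_range_orderOf, ho, Finset.mem_image] at h
    obtain ⟨i, hi, he⟩ := h
    exact ⟨i, Finset.mem_range.1 hi, he⟩
  interval_cases i <;> exact absurd he (by decide)

end Examples

end Cfsg.Lib.TICyclic
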