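import Cfsg.Agent.Lib.TICyclic.Abelian
import Cfsg.Agent.Lib.TICyclic.LTwo
import Cfsg.Agent.Lib.TICyclic.Clique
import Cfsg.Agent.Lib.TICyclic.DihedralFinish
import Cfsg.Agent.Lib.SimpleAbTwo.Cases
import Cfsg.Agent.Lib.WalterBig.Main
import Cfsg.Agent.Lib.Walter3.CentClause
import Cfsg.Agent.Lib.AllAb.False3
import Cfsg.Agent.Lib.GW.Main
import Cfsg.Agent.Lib.J1Weak.JFacts
import Cfsg.Agent.S0252
import Cfsg.Agent.S0253
import Cfsg.Agent.S1644

/-!
# Simple groups whose cyclic subgroups of prime power order are TI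
-/

set_option autoImplicit false
set_option linter.unusedSectionVars false
set_option linter.style.haveILetI false

namespace Cfsg.Lib.TICyclic

open Subgroup Cfsg Cfsg.Lib

universe u

variable {G : Type u} [Group G] [Finite G] [IsSimpleGroup G]

/-- `PSL₂(F)` with more than three elements in `F`, or the first Janko group. -/
def Concl (G : Type u) [Group G] : Prop :=
  (∃ (F : Type) (_ : Field F) (_ : Fintype F), 3 < Fintype.card F ∧
    Nonempty (G ≃* Matrix.ProjectiveSpecialLinearGroup (Fin 2) F)) ∨ Cfsg.Spor.IsoJ1 G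

/-- An abelian Sylow two-subgroup of a simple group has no element of order four. -/
theorem no_root_of_abelian (hG : ¬ IsMulCommutative G) (S : Sylow 2 G)
    (hS : IsMulCommutative (S : Subgroup G)) {x : G} (hx : orderOf x = 4) : False := by
  haveI : Fact (Nat.Prime 2) := ⟨Nat.prime_two⟩
  obtain ⟨P, hP⟩ := (IsPGroup.of_card (n := 2) (by rw [Nat.card_zpowers, hx]; norm_num) :
    IsPGroup 2 (zpowers x)).exists_le_sylow
  obtain ⟨g, hg⟩ := MulAction.exists_smul_eq G P S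
  have hy : g * x * g⁻¹ ∈ (S : Subgroup G) := by
    rw [← hg, Sylow.coe_subgroup_smul]
    exact ⟨x, hP (mem_zpowers x), rfl⟩
  have hbig : ¬ ∀ v ∈ (S : Subgroup G), v * v = 1 := fun h => by
    have h1 := orderOf_dvd_of_pow_eq_one (show (g * x * g⁻¹) ^ 2 = 1 by rw [pow_two, h _ hy])
    rw [Invol.orderOf_conj_eq, hx] at h1
    norm_num at h1
  obtain ⟨a, F, i, j, -, hF, ⟨e⟩⟩ := WalterBig.big hG S hS (Or.inl hbig)
  exact psl_no_four hF (e x) (by rw [MulEquiv.orderOf_eq, hx])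

/-- Without elements of order four. -/
theorem concl_of_no_four (hG : ¬ IsMulCommutative G) (hti : IsTI G)
    (h4 : ∀ x : G, orderOf x ≠ 4) : Concl G := by
  classical
  haveI : Fact (Nat.Prime 2) := ⟨Nat.prime_two⟩
  obtain ⟨S⟩ : Nonempty (Sylow 2 G) := inferInstance
  have hsq : ∀ x : G, ∀ j : ℕ, x ^ 2 ^ j = 1 → x * x = 1 := by
    intro x j hx
    obtain ⟨i, -, hi⟩ := (Nat.dvd_prime_pow Nat.prime_two).1 (orderOf_dvd_of_pow_eq_one hx)
    have hi1 : i ≤ 1 := by
      by_contra hlt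
      refine h4 (x ^ (orderOf x / 4)) (orderOf_pow_orderOf_div (orderOf_pos x).ne' ?_)
      rw [hi]
      exact (show 2 ^ 2 ∣ 2 ^ i from pow_dvd_pow 2 (by omega))
    rw [← pow_two, ← orderOf_dvd_iff_pow_eq_one, hi]
    exact (pow_dvd_pow 2 hi1).trans (by rw [pow_one])
  have hS : IsMulCommutative (S : Subgroup G) := ⟨⟨fun a b => by
    have h2 : ∀ c : (S : Subgroup G), c * c = 1 := fun c => by
      obtain ⟨j, hj⟩ := S.isPGroup' c
      exact Subtype.ext (hsq c j (congrArg Subtype.val hj))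
    calc a * b = (a * b)⁻¹ := (inv_eq_of_mul_eq_one_right (h2 _)).symm
      _ = b * a := by
        rw [_root_.mul_inv_rev, inv_eq_of_mul_eq_one_right (h2 a), inv_eq_of_mul_eq_one_right (h2 b)]⟩⟩
  rcases SimpleAbTwo.cases hG S hS (Walter3.centClause G hG) with
    ⟨F, i, j, hq, he⟩ | ⟨t, F, i, j, ht, h3, -, he, -⟩
  · refine Or.inl ⟨F, i, j, ?_, he⟩
    rcases hq with ⟨a, ha, hF⟩ | ⟨-, h5⟩
    · rw [hF]
      calc 3 < 2 ^ 2 := by norm_num
        _ ≤ 2 ^ a := Nat.pow_le_pow_right two_pos ha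
    · omega
  obtain ⟨e⟩ := he
  obtain ⟨P, hP⟩ := (IsPGroup.of_card (n := 1) (by rw [Nat.card_zpowers, ht, pow_one]) :
    IsPGroup 2 (zpowers t)).exists_le_sylow
  haveI hPc := CentMax.sylow_comm S hS P
  have hab : ∀ Q : Sylow 2 G, ∀ a b : Q, a * b = b * a := fun Q a b =>
    (CentMax.sylow_comm S hS Q).is_comm.comm a b
  rcases Walter8.main_rows hab h3 t ht e with ⟨m, hm, hF, hord, ⟨χ, hχ⟩, ψ, hψ⟩ | ⟨h45, hJ⟩
  · exfalso
    have hidx : Odd (centralizer ({t} : Set G)).index := by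
      have hle : (P : Subgroup G) ≤ centralizer ({t} : Set G) := fun x hx =>
        mem_centralizer_singleton_iff.2 (congrArg Subtype.val
          (hPc.is_comm.comm (⟨x, hx⟩ : (P : Subgroup G)) ⟨t, hP (mem_zpowers t)⟩))
      rw [Nat.odd_iff]
      by_contra h
      exact P.not_dvd_index ((Nat.dvd_of_mod_eq_zero (by omega)).trans (index_dvd_of_le hle))
    obtain ⟨T, ⟨R⟩⟩ := AllAb.exists_setup hm hF ht hidx e
    obtain ⟨H, Q, h1, h2, h5, h6, h7, h8, h9⟩ := ReeTwoTrans.exists_point R hG hord ψ hψ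
    let E : Geo G (Matrix.ProjectiveSpecialLinearGroup (Fin 2) F) m T :=
      ⟨R, hord, H, Q, h1, h2, h5, h6, h7, h8, h9⟩
    exact E.false_of_comm (E.P_comm hG hti) χ hχ
  · obtain ⟨φ⟩ : Nonempty (Matrix.ProjectiveSpecialLinearGroup (Fin 2) F ≃* alternatingGroup (Fin 5)) :=
      h45.elim Cfsg.Agent.S0252.result Cfsg.Agent.S0253.result
    have h8 : Nat.card P = 8 := by
      rw [P.card_eq_multiplicity, hJ.2]
      rw [show (175560 : ℕ) = 2 ^ 3 * 21945 by norm_num,
        Nat.factorization_mul (by norm_num) (by norm_num), Finsupp.add_apply,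
        Nat.prime_two.factorization_pow, Finsupp.single_eq_same,
        Nat.factorization_eq_zero_of_not_dvd (by norm_num : ¬ 2 ∣ 21945)]
      rfl
    exact Or.inr (Cfsg.Agent.S1644.result P hPc h8 t ht (e.trans ((MulEquiv.refl _).prodCongr φ)))

/-- The classification of simple groups with TI cyclic subgroups of prime power order. -/
theorem concl_of_ti (hG : ¬ IsMulCommutative G) (hti : IsTI G) : Concl G := by
  haveI : Fact (Nat.Prime 2) := ⟨Nat.prime_two⟩
  by_cases hrel : ∃ z v : G, Rel z v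
  · obtain ⟨z, v, hr⟩ := hrel
    let D : Data G := ⟨hti, z, v, hr⟩
    obtain ⟨S, hS⟩ := D.isPGroup.exists_le_sylow
    obtain ⟨x, hx⟩ := hr.1
    exact (no_root_of_abelian hG S (D.sylow_abelian S hS hG) hx.1).elim
  push Not at hrel
  by_cases h4 : ∀ x : G, orderOf x ≠ 4
  · exact concl_of_no_four hG hti h4
  push Not at h4
  obtain ⟨x, hx⟩ := h4
  obtain ⟨D⟩ := exists_outer hti hrel hG (x := x) (z := x * x) ⟨hx, rfl⟩
  rcases GW.simpleGW G hG D.sylow_dihedral with ⟨F, i, j, -, h3, he⟩ | ⟨⟨e⟩⟩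
  · exact Or.inl ⟨F, i, j, h3, he⟩
  · exact absurd (hti.of_mulEquiv e.symm) not_ti_alt_seven

theorem ti_of_concl (h : Concl G) : IsTI G := by
  rcases h with ⟨F, i, j, -, ⟨e⟩⟩ | h
  · exact IsTI.of_mulEquiv e ti_psl
  · exact ti_isoJ1 h

end Cfsg.Lib.TICyclic
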