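import Cfsg.Agent.Lib.TICyclic.Geo

/-!
# A point stabilizer of a group of Ree type has a product of two involutions of order nine

Otherwise three involutions fixing the sides of a triangle generate a quotient of the triangle
group `(3, 3, 3)`; its translation part is either a three-group, with a common fixed point, or has a
prime `r ≠ 3` in its order, and the Sylow subgroups for these primes are cyclic or elementary
abelian.
-/

set_option autoImplicit false
set_option linter.unusedSectionVars false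
set_option linter.style.haveILetI false

namespace Cfsg.Lib.TICyclic

open Subgroup Cfsg Cfsg.Lib Cfsg.Lib.ReeType Cfsg.Lib.ReeTwoTrans MulAction

/-! ## The algebra of the triangle -/

section Algebra

variable {G : Type*} [Group G]

/-- The translations in a quotient of the triangle group `(3, 3, 3)`. -/
structure Trans (a x u v : G) : Prop where
  uv : Commute u v
  xu : x * u * x⁻¹ = v
  xv : x * v * x⁻¹ = (u * v)⁻¹
  au : a * u * a⁻¹ = u * v
  av : a * v * a⁻¹ = v⁻¹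

theorem trans_of_triangle {a x y : G} (hax : a * x * a⁻¹ = x⁻¹)
    (hay : a * y * a⁻¹ = x * y⁻¹ * x⁻¹) (hx : x ^ 3 = 1) (hy : y ^ 3 = 1) (hxy : (x * y) ^ 3 = 1) :
    Trans a x (x⁻¹ * y) (y * x⁻¹) := by
  have hxi : x⁻¹ = x * x := inv_eq_of_mul_eq_one_left (by rw [← hx, pow_succ, pow_two])
  have hyi : y⁻¹ = y * y := inv_eq_of_mul_eq_one_left (by rw [← hy, pow_succ, pow_two])
  have h6 : x * y * x * (y * x * y) = 1 := by
    rw [← hxy, pow_succ, pow_two]; group
  have huv : x⁻¹ * y * (y * x⁻¹) = (x * y * x)⁻¹ := by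
    calc x⁻¹ * y * (y * x⁻¹) = x⁻¹ * (y * y) * x⁻¹ := by group
      _ = _ := by rw [← hyi]; group
  have hvu : y * x⁻¹ * (x⁻¹ * y) = (x * y * x)⁻¹ := by
    calc y * x⁻¹ * (x⁻¹ * y) = y * (x * x)⁻¹ * y := by group
      _ = y * x * y := by rw [← hxi, inv_inv]
      _ = _ := (inv_eq_of_mul_eq_one_right h6).symm
  refine ⟨huv.trans hvu.symm, by group, ?_, ?_, ?_⟩
  · rw [huv, inv_inv]
    calc x * (y * x⁻¹) * x⁻¹ = x * y * (x * x)⁻¹ := by group
      _ = _ := by rw [← hxi, inv_inv]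
  · rw [huv]
    calc a * (x⁻¹ * y) * a⁻¹ = (a * x * a⁻¹)⁻¹ * (a * y * a⁻¹) := by group
      _ = x * x * y⁻¹ * x⁻¹ := by rw [hax, hay]; group
      _ = x⁻¹ * y⁻¹ * x⁻¹ := by rw [← hxi]
      _ = _ := by group
  · calc a * (y * x⁻¹) * a⁻¹ = a * y * a⁻¹ * (a * x * a⁻¹)⁻¹ := by group
      _ = _ := by rw [hax, hay]; group

theorem Trans.pow {a x u v : G} (h : Trans a x u v) (k : ℕ) : Trans a x (u ^ k) (v ^ k) := by
  refine ⟨h.uv.pow_pow k k, ?_, ?_, ?_, ?_⟩
  · rw [← conj_pow, h.xu]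
  · rw [← conj_pow, h.xv, inv_pow, h.uv.mul_pow]
  · rw [← conj_pow, h.au, h.uv.mul_pow]
  · rw [← conj_pow, h.av, inv_pow]

theorem Trans.orderOf_eq {a x u v : G} (h : Trans a x u v) : orderOf v = orderOf u := by
  rw [← h.xu, Invol.orderOf_conj_eq]

/-- In the translations of prime order `r ≠ 3`, `u²v` is nontrivial. -/
theorem Trans.fixed_ne_one {a x u v : G} (h : Trans a x u v) (h3 : u ^ 3 ≠ 1) : u ^ 2 * v ≠ 1 := by
  intro hf
  have hv : v = (u ^ 2)⁻¹ := (inv_eq_of_mul_eq_one_right hf).symm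
  have h1 := h.xv
  rw [hv] at h1
  rw [← conj_inv, ← conj_pow, h.xu, hv] at h1
  refine h3 ?_
  calc u ^ 3 = ((u ^ 2)⁻¹ ^ 2)⁻¹ * (u ^ 1)⁻¹ := by group
    _ = (u * (u ^ 2)⁻¹)⁻¹ * (u ^ 1)⁻¹ := by rw [h1]
    _ = 1 := by group

theorem Trans.fix {a x u v : G} (h : Trans a x u v) : a * (u ^ 2 * v) * a⁻¹ = u ^ 2 * v := by
  rw [conj_mul', ← conj_pow, h.au, h.av, h.uv.mul_pow]
  group

/-- A conjugation mapping a subgroup of a finite group into itself normalizes it. -/
theorem mem_normalizer_of_map_le [Finite G] {N : Subgroup G} {g : G}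
    (h : N.map (MulAut.conj g).toMonoidHom ≤ N) : g ∈ normalizer (N : Set G) := by
  have he : N.map (MulAut.conj g).toMonoidHom = N := eq_of_le_of_card_ge h (le_of_eq
    (Nat.card_congr (equivMapOfInjective N _ (MulAut.conj g).injective).toEquiv))
  refine mem_normalizer_iff.2 fun n => ⟨fun hn => h ⟨n, hn, rfl⟩, fun hn => ?_⟩
  rw [← he] at hn
  obtain ⟨m, hm, hme⟩ := hn
  have hmn : m = n := (MulAut.conj g).injective hme
  exact hmn ▸ hm

/-- `⟨u, v⟩` is normalized by `a` and `x`. -/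
theorem Trans.normalizes [Finite G] {a x u v : G} (h : Trans a x u v) :
    a ∈ normalizer ((zpowers u ⊔ zpowers v : Subgroup G) : Set G) ∧
      x ∈ normalizer ((zpowers u ⊔ zpowers v : Subgroup G) : Set G) := by
  have hu : u ∈ zpowers u ⊔ zpowers v := mem_sup_left (mem_zpowers u)
  have hv : v ∈ zpowers u ⊔ zpowers v := mem_sup_right (mem_zpowers v)
  constructor <;> refine mem_normalizer_of_map_le ?_ <;>
    rw [Subgroup.map_sup, MonoidHom.map_zpowers, MonoidHom.map_zpowers, sup_le_iff, zpowers_le,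
      zpowers_le]
  · exact ⟨by show a * u * a⁻¹ ∈ _; rw [h.au]; exact mul_mem hu hv,
      by show a * v * a⁻¹ ∈ _; rw [h.av]; exact inv_mem hv⟩
  · exact ⟨by show x * u * x⁻¹ ∈ _; rw [h.xu]; exact hv,
      by show x * v * x⁻¹ ∈ _; rw [h.xv]; exact inv_mem (mul_mem hu hv)⟩

theorem isPGroup_zpowers_of_pow {p : ℕ} [Fact p.Prime] {u : G} {j : ℕ} (h : u ^ p ^ j = 1) :
    IsPGroup p (zpowers u) := by
  obtain ⟨i, -, hi⟩ := (Nat.dvd_prime_pow Fact.out).1 (orderOf_dvd_of_pow_eq_one h)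
  exact IsPGroup.of_card (n := i) (by rw [Nat.card_zpowers, hi])

theorem isPGroup_pair {p : ℕ} [Fact p.Prime] {u v : G} (hc : Commute u v) {j : ℕ}
    (hu : u ^ p ^ j = 1) (hv : v ^ p ^ j = 1) :
    IsPGroup p (zpowers u ⊔ zpowers v : Subgroup G) := by
  refine (isPGroup_zpowers_of_pow hu).to_sup_of_normal_right' (isPGroup_zpowers_of_pow hv) ?_
  rw [zpowers_le]
  refine mem_normalizer_iff.2 fun n => ⟨fun hn => ?_, fun hn => ?_⟩
  · obtain ⟨k, rfl⟩ := mem_zpowers_iff.1 hn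
    rw [(hc.zpow_right k).eq, mul_inv_cancel_right]
    exact zpow_mem (mem_zpowers v) k
  · obtain ⟨k, hk⟩ := mem_zpowers_iff.1 hn
    have : n = v ^ k := by
      calc n = u⁻¹ * (u * n * u⁻¹) * u := by group
        _ = u⁻¹ * (v ^ k * u) := by rw [← hk]; group
        _ = _ := by rw [(hc.zpow_right k).symm.eq]; group
    exact this ▸ zpow_mem (mem_zpowers v) k

/-- Commuting elements of prime order `r` where an element carries the whole `r`-part of `|G|`. -/
theorem mem_zpowers_of_cyclic [Finite G] {r : ℕ} [Fact r.Prime] {c : G}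
    (hc : (Nat.card G).factorization r = (orderOf c).factorization r) {f v : G}
    (hfv : Commute f v) (hf : f ^ r = 1) (hf1 : f ≠ 1) (hv : v ^ r = 1) : v ∈ zpowers f := by
  classical
  have hm : orderOf c ≠ 0 := (orderOf_pos c).ne'
  set k := (orderOf c).factorization r with hk
  have hdvd : r ^ k ∣ orderOf c := Nat.ordProj_dvd _ _
  set d := c ^ (orderOf c / r ^ k) with hd
  have hod : orderOf d = r ^ k := orderOf_pow_orderOf_div hm hdvd
  let R : Sylow r G := Sylow.ofCard (zpowers d) (by rw [Nat.card_zpowers, hod, hc])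
  obtain ⟨P, hP⟩ := (isPGroup_pair hfv (j := 1) (by rwa [pow_one]) (by rwa [pow_one])).exists_le_sylow
  obtain ⟨g, hg⟩ := MulAction.exists_smul_eq G R P
  have hcyc : IsCyclic (P : Subgroup G) := by
    refine (Subgroup.isCyclic_iff_exists_zpowers_eq_top _).2 ⟨g * d * g⁻¹, ?_⟩
    rw [← hg, Sylow.coe_subgroup_smul]
    show zpowers (g * d * g⁻¹) = (zpowers d).map (MulAut.conj g).toMonoidHom
    exact (MonoidHom.map_zpowers (MulAut.conj g).toMonoidHom d).symm
  haveI : Fintype (P : Subgroup G) := Fintype.ofFinite _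
  have hle := hcyc.card_pow_eq_one_le (n := r) (Nat.Prime.pos Fact.out)
  have hfP : f ∈ (P : Subgroup G) := hP (mem_sup_left (mem_zpowers f))
  set A : Finset (P : Subgroup G) := Finset.univ.filter (fun z => z ^ r = 1) with hA
  set B : Finset (P : Subgroup G) := Finset.univ.filter (fun z => (z : G) ∈ zpowers f) with hB
  have hsub : B ⊆ A := by
    intro z hz
    simp only [hA, hB, Finset.mem_filter, Finset.mem_univ, true_and] at hz ⊢
    obtain ⟨i, hi⟩ := mem_zpowers_iff.1 hz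
    refine Subtype.ext ?_
    rw [SubmonoidClass.coe_pow, ← hi, OneMemClass.coe_one, ← zpow_natCast, ← zpow_mul, mul_comm,
      zpow_mul, zpow_natCast, hf, one_zpow]
  have hBcard : B.card = r := by
    have hle' : zpowers f ≤ (P : Subgroup G) := zpowers_le.2 hfP
    have e1 : Nat.card (zpowers f) = r := by rw [Nat.card_zpowers, orderOf_eq_prime hf hf1]
    have e2 := Nat.card_congr (subgroupOfEquivOfLe hle').toEquiv
    rw [e1, Nat.card_eq_fintype_card, Fintype.card_subtype] at e2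
    refine Eq.trans ?_ e2
    rw [hB]
    congr 1
  have heq : B = A := Finset.eq_of_subset_of_card_le hsub (by rw [hBcard]; exact hle)
  have : (⟨v, hP (mem_sup_right (mem_zpowers v))⟩ : (P : Subgroup G)) ∈ A := by
    simp only [hA, Finset.mem_filter, Finset.mem_univ, true_and]
    exact Subtype.ext hv
  rw [← heq] at this
  simpa [hB] using this

end Algebra

/-! ## The points -/

namespace Geo

variable {G L : Type*} [Group G] [Group L] [Finite G] {n T : ℕ} (E : Geo G L n T)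

local notation "q" => 3 ^ (2 * n + 1)

theorem exists_map {p r : G ⧸ E.H} (hpr : p ≠ r) : ∃ k : G, k • E.pt = p ∧ k • E.pt0 = r :=
  MulAction.is_two_pretransitive_iff.1 E.two E.pt0_ne.symm hpr

theorem two_fix {g : G} (h1 : g • E.pt = E.pt) (h2 : g • E.pt0 = E.pt0) :
    g ^ (3 ^ (2 * n + 1) - 1) = 1 := by
  obtain ⟨hoa, -, hmodd, -, h2m⟩ := torus_facts E.S
  obtain ⟨i, p, hp, rfl⟩ := E.H_decomp (E.mem_H_iff.2 h1)
  have hc : ∀ j : ℕ, (E.S.t * E.S.φ E.S.D.a) ^ j • E.pt0 = E.pt0 := by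
    intro j
    induction j with
    | zero => simp
    | succ j ih => rw [pow_succ, mul_smul, mul_smul, (E.torus_fix (mem_zpowers _)).2, E.t_fix.2, ih]
  have hp1 : p = 1 := by
    refine E.regular hp E.pt0_ne ?_
    rw [mul_smul] at h2
    exact smul_left_cancel _ (h2.trans (hc i).symm)
  rw [hp1, mul_one, ← pow_mul, Nat.mul_comm i, pow_mul, ← h2m,
    (show Commute E.S.t (E.S.φ E.S.D.a) from E.S.comm _).mul_pow (2 * (2 * T - 1)), pow_mul E.S.t,
    pow_two E.S.t, E.S.t_sq, one_pow, one_mul, Nat.mul_comm 2 (2 * T - 1), pow_mul, ← hoa,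
    pow_orderOf_eq_one, one_pow, one_pow]

/-- A three-element fixing two points is trivial. -/
theorem three_fix {g : G} {j : ℕ} (h : g ^ 3 ^ j = 1) {p r : G ⧸ E.H} (hpr : p ≠ r)
    (hp : g • p = p) (hr : g • r = r) : g = 1 := by
  obtain ⟨k, rfl, rfl⟩ := E.exists_map hpr
  have h1 := E.two_fix (g := k⁻¹ * g * k) (by rw [mul_smul, mul_smul, hp, inv_smul_smul])
    (by rw [mul_smul, mul_smul, hr, inv_smul_smul])
  have h2 : (k⁻¹ * g * k) ^ 3 ^ j = 1 := by
    have e : k⁻¹ * g * k = k⁻¹ * g * k⁻¹⁻¹ := by group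
    rw [e, conj_pow, h]; group
  have hcop : Nat.Coprime (3 ^ j) (3 ^ (2 * n + 1) - 1) := by
    refine Nat.Coprime.pow_left _ ((Nat.Prime.coprime_iff_not_dvd Nat.prime_three).2 ?_)
    have := E.S.q_facts.2.2.2.2.2
    have := E.S.q_facts.2.1
    omega
  have h3 := orderOf_eq_one_iff.1 (Nat.eq_one_of_dvd_coprimes hcop (orderOf_dvd_of_pow_eq_one h2)
    (orderOf_dvd_of_pow_eq_one h1))
  calc g = k * (k⁻¹ * g * k) * k⁻¹ := by group
    _ = 1 := by rw [h3]; group

theorem exists_invol {p r : G ⧸ E.H} (hpr : p ≠ r) :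
    ∃ a : G, a * a = 1 ∧ a ≠ 1 ∧ a • p = p ∧ a • r = r := by
  obtain ⟨k, rfl, rfl⟩ := E.exists_map hpr
  refine ⟨k * E.S.t * k⁻¹, by rw [← conj_mul', E.S.t_sq]; group,
    fun h => E.S.t_ne (conj_eq_one_iff.1 h), ?_, ?_⟩
  · rw [mul_smul, mul_smul, inv_smul_smul, E.t_fix.1]
  · rw [mul_smul, mul_smul, inv_smul_smul, E.t_fix.2]

theorem invol_unique {p r : G ⧸ E.H} (hpr : p ≠ r) {a b : G} (ha : a * a = 1) (ha1 : a ≠ 1)
    (hap : a • p = p) (har : a • r = r) (hb : b * b = 1) (hb1 : b ≠ 1) (hbp : b • p = p)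
    (hbr : b • r = r) : a = b := by
  obtain ⟨k, rfl, rfl⟩ := E.exists_map hpr
  have key : ∀ {c : G}, c * c = 1 → c ≠ 1 → c • k • E.pt = k • E.pt →
      c • k • E.pt0 = k • E.pt0 → k⁻¹ * c * k = E.S.t := by
    intro c hc hc1 hcp hcr
    have hcH : k⁻¹ * c * k ∈ E.H :=
      E.mem_H_iff.2 (by rw [mul_smul, mul_smul, hcp, inv_smul_smul])
    have h := E.mul_invol_mem hcH E.t_mem
      (by calc k⁻¹ * c * k * (k⁻¹ * c * k) = k⁻¹ * (c * c) * k := by group
            _ = 1 := by rw [hc]; group)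
      E.S.t_sq (fun h => hc1 (by
        calc c = k * (k⁻¹ * c * k) * k⁻¹ := by group
          _ = 1 := by rw [h]; group)) E.S.t_ne
    have h1 := E.regular h E.pt0_ne (by
      rw [mul_smul, E.t_fix.2, mul_smul, mul_smul, hcr, inv_smul_smul])
    rw [eq_inv_of_mul_eq_one_left h1, E.S.t_inv]
  calc a = k * (k⁻¹ * a * k) * k⁻¹ := by group
    _ = k * (k⁻¹ * b * k) * k⁻¹ := by rw [key ha ha1 hap har, key hb hb1 hbp hbr]
    _ = b := by group

/-- The points moved by a nontrivial element of a simple group. -/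
theorem exists_moved [IsSimpleGroup G] {a : G} (ha : a ≠ 1) : ∃ p : G ⧸ E.H, a • p ≠ p := by
  by_contra hcon
  push Not at hcon
  set K := (MulAction.toPermHom G (G ⧸ E.H)).ker with hK
  have haK : a ∈ K := MonoidHom.mem_ker.2 (Equiv.ext fun p => hcon p)
  rcases (inferInstance : K.Normal).eq_bot_or_eq_top with h | h
  · exact ha (mem_bot.1 (h ▸ haK))
  · refine E.w_notMem (E.mem_H_iff.2 ?_)
    have hw : E.S.φ E.S.D.w ∈ K := h ▸ mem_top _
    simpa using Equiv.ext_iff.1 (MonoidHom.mem_ker.1 hw) E.pt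

/-- An involution of a point stabilizer inverts an element of three-power order with cube `≠ 1`,
as soon as the point stabilizer does. -/
theorem cube_transport (hcube : ∀ a ∈ E.H, ∀ b ∈ E.H, a * a = 1 → b * b = 1 → a ≠ 1 → b ≠ 1 →
    (a * b) ^ 3 = 1) {a b : G} {r : G ⧸ E.H} (ha : a • r = r) (hb : b • r = r) (ha2 : a * a = 1)
    (hb2 : b * b = 1) (ha1 : a ≠ 1) (hb1 : b ≠ 1) : (a * b) ^ 3 = 1 := by
  haveI := E.two
  obtain ⟨k, rfl⟩ := MulAction.exists_smul_eq G E.pt r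
  have h := hcube (k⁻¹ * a * k) (E.mem_H_iff.2 (by rw [mul_smul, mul_smul, ha, inv_smul_smul]))
    (k⁻¹ * b * k) (E.mem_H_iff.2 (by rw [mul_smul, mul_smul, hb, inv_smul_smul]))
    (by calc k⁻¹ * a * k * (k⁻¹ * a * k) = k⁻¹ * (a * a) * k := by group
          _ = 1 := by rw [ha2]; group)
    (by calc k⁻¹ * b * k * (k⁻¹ * b * k) = k⁻¹ * (b * b) * k := by group
          _ = 1 := by rw [hb2]; group)
    (fun h => ha1 (by
      calc a = k * (k⁻¹ * a * k) * k⁻¹ := by group
        _ = 1 := by rw [h]; group))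
    (fun h => hb1 (by
      calc b = k * (k⁻¹ * b * k) * k⁻¹ := by group
        _ = 1 := by rw [h]; group))
  calc (a * b) ^ 3 = k * (k⁻¹ * a * k * (k⁻¹ * b * k)) ^ 3 * k⁻¹ := by
        rw [← conj_pow]; group
    _ = 1 := by rw [h]; group

include E in
/-- The largest power of an odd prime `r ≠ 3` dividing a torus is the largest dividing `|G|`. -/
theorem exists_full_power {r : ℕ} (hr : r.Prime) (hr2 : r ≠ 2) (hr3 : r ≠ 3)
    (hd : r ∣ Nat.card L) : ∃ c : G, (Nat.card G).factorization r = (orderOf c).factorization r := by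
  obtain ⟨hoa, h13, hodd, h3, h2m⟩ := torus_facts E.S
  have hd2 : r ∣ q * (q * q - 1) := E.S.D.card_L ▸ hd.mul_left 2
  have hrq : ¬ r ∣ q := fun h =>
    hr3 ((Nat.prime_dvd_prime_iff_eq hr Nat.prime_three).1 (hr.dvd_of_dvd_pow h))
  have h27 := E.S.q_facts.2.1
  obtain ⟨m, hm⟩ : ∃ m, q = m + 1 := ⟨q - 1, by omega⟩
  have he : q * q - 1 = (q - 1) * (q + 1) := by
    rw [hm, Nat.add_sub_cancel]
    exact Nat.sub_eq_of_eq_add (by ring)
  rw [hr.dvd_mul, he, hr.dvd_mul] at hd2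
  rcases hd2.resolve_left hrq with h | h
  · rw [← h2m] at h
    refine ⟨E.S.φ E.S.D.a, ?_⟩
    rw [hoa]
    exact torus_sylow E.S E.hord hr ((hr.dvd_mul.1 h).resolve_left fun h' =>
      hr2 ((Nat.prime_dvd_prime_iff_eq hr Nat.prime_two).1 h'))
  · refine ⟨E.S.φ E.S.D.y, ?_⟩
    rw [E.S.orderOf_φy]
    have hT := E.S.hT
    have hrm : ¬ r ∣ q - 1 := fun h' => hr2 ((Nat.prime_dvd_prime_iff_eq hr Nat.prime_two).1 (by
      have := Nat.dvd_sub h h'
      rwa [show q + 1 - (q - 1) = 2 by omega] at this))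
    have hre : ¬ r ∣ q * m + 1 := fun h' => by
      refine hr3 ((Nat.prime_dvd_prime_iff_eq hr Nat.prime_three).1 ?_)
      have h1 : q * m + 1 + 2 * (q + 1) = q * (q + 1) + 3 := by rw [hm]; ring
      have h2 : r ∣ q * (q + 1) + 3 := h1 ▸ dvd_add h' (h.mul_left 2)
      exact (Nat.dvd_add_right (h.mul_left q)).1 h2
    have hcube : q ^ 3 + 1 = 4 * T * (q * m + 1) := by rw [hT, hm]; ring
    have hT0 : T ≠ 0 := by omega
    have e1 : 4 * T * (q * m + 1) ≠ 0 := mul_ne_zero (mul_ne_zero (by norm_num) hT0) (by omega)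
    rw [E.hord, hcube, Nat.factorization_mul (mul_ne_zero (pow_ne_zero _ (by omega)) e1) (by omega),
      Nat.factorization_mul (pow_ne_zero _ (by omega)) e1,
      Nat.factorization_mul (mul_ne_zero (by norm_num) hT0) (by omega),
      Nat.factorization_mul (by norm_num) hT0]
    simp [Nat.factorization_eq_zero_of_not_dvd hrm, Nat.factorization_eq_zero_of_not_dvd hre,
      Nat.factorization_eq_zero_of_not_dvd (fun h' : r ∣ 3 => hr3
        ((Nat.prime_dvd_prime_iff_eq hr Nat.prime_three).1 h')),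
      Nat.factorization_eq_zero_of_not_dvd (fun h' : r ∣ 4 => hr2
        ((Nat.prime_dvd_prime_iff_eq hr Nat.prime_two).1 (hr.dvd_of_dvd_pow (show r ∣ 2 ^ 2 from h'))))]

include E in
/-- No translations of prime order other than three. -/
theorem no_trans [IsSimpleGroup G] (hna : ¬ IsMulCommutative G) {a x u v : G} (ha : a * a = 1)
    (ha1 : a ≠ 1) (h : Trans a x u v) {r : ℕ} (hr : r.Prime) (hr3 : r ≠ 3) (hu : u ^ r = 1)
    (hu1 : u ≠ 1) : False := by
  haveI := Fact.mk hr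
  haveI : Finite L := E.S.finite_L
  have hou : orderOf u = r := orderOf_eq_prime hu hu1
  have hv : v ^ r = 1 := by rw [← hou, ← h.orderOf_eq, pow_orderOf_eq_one]
  have hv1 : v ≠ 1 := by
    intro e
    rw [← h.orderOf_eq, e, orderOf_one] at hou
    exact hr.one_lt.ne hou
  by_cases hr2 : r = 2
  · subst hr2
    have hN : IsPGroup 2 (zpowers a ⊔ (zpowers u ⊔ zpowers v) : Subgroup G) :=
      (isPGroup_zpowers_of_pow (j := 1) (by rw [pow_one, pow_two, ha])).to_sup_of_normal_right'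
        (isPGroup_pair h.uv (j := 1) (by rwa [pow_one]) (by rwa [pow_one]))
        (zpowers_le.2 h.normalizes.1)
    have hc := (E.S.isPGroup_sq hN).2.1 a (mem_sup_left (mem_zpowers a)) u
      (mem_sup_right (mem_sup_left (mem_zpowers u)))
    have h1 := h.au
    rw [hc, mul_inv_cancel_right] at h1
    exact hv1 (mul_left_cancel (a := u) (by rw [mul_one]; exact h1.symm))
  have hodd : Odd r := hr.odd_of_ne_two hr2
  set f := u ^ 2 * v with hf
  have hu3 : u ^ 3 ≠ 1 := fun h3 => hr3 (((Nat.prime_dvd_prime_iff_eq hr Nat.prime_three).1)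
    (hou ▸ orderOf_dvd_of_pow_eq_one h3))
  have hf1 : f ≠ 1 := h.fixed_ne_one hu3
  have hfr : f ^ r = 1 := by
    rw [hf, (h.uv.pow_left 2).mul_pow, hv, mul_one, ← pow_mul, mul_comm, pow_mul, hu, one_pow]
  obtain ⟨g, hg⟩ := E.S.exists_conj_t hna ha ha1
  have hfa : f * (E.S.conj g).t = (E.S.conj g).t * f := by
    rw [Setup.conj_t, hg]
    calc f * a = a * f * a⁻¹ * a := by rw [h.fix]
      _ = a * f := by group
  obtain ⟨l, hl⟩ := (E.S.conj g).cent f hfa
  have hfl : f = (E.S.conj g).φ l := by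
    rcases hl with hl | hl
    · exact hl
    exfalso
    have h1 := hfr
    obtain ⟨k, hk⟩ := hodd
    rw [hl, (show Commute (E.S.conj g).t ((E.S.conj g).φ l) from (E.S.conj g).comm l).mul_pow,
      ← map_pow, hk, pow_succ (E.S.conj g).t, pow_mul, pow_two, (E.S.conj g).t_sq, one_pow,
      one_mul] at h1
    exact (E.S.conj g).not_mem _ ((inv_eq_of_mul_eq_one_right h1).symm.trans (E.S.conj g).t_inv)
  have hdl : r ∣ Nat.card L := by
    rw [← orderOf_eq_prime hfr hf1, hfl, orderOf_injective _ (E.S.conj g).inj]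
    exact orderOf_dvd_natCard l
  obtain ⟨c, hc⟩ := E.exists_full_power hr hr2 hr3 hdl
  have hmem := mem_zpowers_of_cyclic hc
    (show Commute f v from (h.uv.pow_left 2).mul_left (Commute.refl v)) hfr hf1 hv
  obtain ⟨i, hi⟩ := mem_zpowers_iff.1 hmem
  have h1 : a * v * a⁻¹ = v := by
    rw [← hi, ← conj_zpow, h.fix]
  rw [h.av] at h1
  have h2 : v ^ 2 = 1 := by
    rw [pow_two]
    calc v * v = v * v⁻¹ := by rw [h1]
      _ = 1 := mul_inv_cancel v
  have h3 := orderOf_dvd_of_pow_eq_one h2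
  rw [h.orderOf_eq, hou] at h3
  exact hr2 ((Nat.prime_dvd_prime_iff_eq hr Nat.prime_two).1 h3)

/-- The fixed point of a three-subgroup. -/
theorem exists_common_point {K : Subgroup G} (hK : IsPGroup 3 K) :
    ∃ p : G ⧸ E.H, ∀ k ∈ K, k • p = p := by
  haveI : Fact (Nat.Prime 3) := ⟨Nat.prime_three⟩
  obtain ⟨R, hR⟩ := hK.exists_le_sylow
  obtain ⟨g, rfl⟩ := MulAction.exists_smul_eq G E.P R
  refine ⟨g • E.pt, fun k hk => ?_⟩
  have hk' := hR hk
  rw [Sylow.coe_subgroup_smul] at hk'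
  obtain ⟨y, hy, rfl⟩ := hk'
  show (g * y * g⁻¹) • g • E.pt = g • E.pt
  rw [mul_smul, mul_smul, inv_smul_smul, E.mem_H_iff.1 (E.P_le hy)]

/-- The triangle. -/
theorem no_cube [IsSimpleGroup G] (hna : ¬ IsMulCommutative G) :
    ∃ a ∈ E.H, ∃ b ∈ E.H, a * a = 1 ∧ b * b = 1 ∧ a ≠ 1 ∧ b ≠ 1 ∧ (a * b) ^ 3 ≠ 1 := by
  by_contra hcon
  have hcube : ∀ a ∈ E.H, ∀ b ∈ E.H, a * a = 1 → b * b = 1 → a ≠ 1 → b ≠ 1 →
      (a * b) ^ 3 = 1 := fun a ha b hb h1 h2 h3 h4 => by
    by_contra h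
    exact hcon ⟨a, ha, b, hb, h1, h2, h3, h4, h⟩
  haveI : Fact (Nat.Prime 3) := ⟨Nat.prime_three⟩
  set o := E.pt with ho
  set z := E.pt0 with hz
  have hoz : o ≠ z := E.pt0_ne.symm
  obtain ⟨p, hp⟩ := E.exists_moved E.S.t_ne
  have hpz : p ≠ z := fun e => hp (e ▸ E.t_fix.2)
  have hpo : p ≠ o := fun e => hp (e ▸ E.t_fix.1)
  set a := E.S.t with hadef
  obtain ⟨b, hb2, hb1, hbz, hbp⟩ := E.exists_invol hpz.symm
  obtain ⟨c, hc2, hc1, hcp, hco⟩ := E.exists_invol hpo
  have hx := E.cube_transport hcube E.t_fix.2 hbz E.S.t_sq hb2 E.S.t_ne hb1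
  have hy := E.cube_transport hcube hbp hcp hb2 hc2 hb1 hc1
  have hz3 := E.cube_transport hcube E.t_fix.1 hco E.S.t_sq hc2 E.S.t_ne hc1
  have hai : a⁻¹ = a := E.S.t_inv
  have hbi : b⁻¹ = b := inv_eq_of_mul_eq_one_right hb2
  have hci : c⁻¹ = c := inv_eq_of_mul_eq_one_right hc2
  set x := a * b with hxd
  set y := b * c with hyd
  have hxy : x * y = a * c := by
    rw [hxd, hyd, mul_assoc, ← mul_assoc b b c, hb2, one_mul]
  have hax : a * x * a⁻¹ = x⁻¹ := by
    rw [hxd, ← mul_assoc, E.S.t_sq, one_mul, hai, mul_inv_rev, hai, hbi]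
  have hay : a * y * a⁻¹ = x * y⁻¹ * x⁻¹ := by
    calc a * y * a⁻¹ = a * b * c * a := by rw [hyd, hai]; group
      _ = a * b * (c * b) * (b * a) := by
          rw [show a * b * (c * b) * (b * a) = a * b * c * (b * b) * a by group, hb2, mul_one]
      _ = _ := by rw [hxd, hyd, mul_inv_rev, mul_inv_rev, hai, hbi, hci]
  have htr := trans_of_triangle hax hay hx hy (hxy ▸ hz3)
  set u := x⁻¹ * y with hu
  set v := y * x⁻¹ with hv
  by_cases h3 : ∃ j : ℕ, u ^ 3 ^ j = 1
  · obtain ⟨j, hj⟩ := h3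
    have hvj : v ^ 3 ^ j = 1 := orderOf_dvd_iff_pow_eq_one.1
      (htr.orderOf_eq ▸ orderOf_dvd_of_pow_eq_one hj)
    have hK : IsPGroup 3 (zpowers x ⊔ (zpowers u ⊔ zpowers v) : Subgroup G) :=
      (isPGroup_zpowers_of_pow (j := 1) (by rwa [pow_one])).to_sup_of_normal_right'
        (isPGroup_pair htr.uv hj hvj) (zpowers_le.2 htr.normalizes.2)
    obtain ⟨e, he⟩ := E.exists_common_point hK
    have hxK : x ∈ zpowers x ⊔ (zpowers u ⊔ zpowers v) := mem_sup_left (mem_zpowers x)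
    have hyK : y ∈ zpowers x ⊔ (zpowers u ⊔ zpowers v) := by
      rw [show y = x * u by rw [hu, mul_inv_cancel_left]]
      exact mul_mem hxK (mem_sup_right (mem_sup_left (mem_zpowers u)))
    have hxz : x • z = z := by rw [hxd, mul_smul, hbz]; exact E.t_fix.2
    have hyp : y • p = p := by rw [hyd, mul_smul, hcp, hbp]
    by_cases hez : e = z
    · subst hez
      have hy1 := E.three_fix (j := 1) (by rwa [pow_one]) hpz hyp (he y hyK)
      have hbc : b = c := by rw [eq_inv_of_mul_eq_one_left hy1, hci]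
      have hbo : b • o = o := hbc ▸ hco
      have := E.invol_unique hoz E.S.t_sq E.S.t_ne E.t_fix.1 E.t_fix.2 hb2 hb1 hbo hbz
      exact hp (by rw [hadef, this]; exact hbp)
    · have hx1 := E.three_fix (j := 1) (by rwa [pow_one]) (Ne.symm hez) hxz (he x hxK)
      have hab : a = b := by rw [eq_inv_of_mul_eq_one_left hx1, hbi]
      exact hp (by rw [hab]; exact hbp)
  · obtain ⟨r, hr, hrd, hr3⟩ : ∃ r : ℕ, r.Prime ∧ r ∣ orderOf u ∧ r ≠ 3 := by
      by_contra hn
      push Not at hn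
      obtain ⟨k, hk⟩ : ∃ k, orderOf u = 3 ^ k :=
        ⟨_, Nat.eq_prime_pow_of_unique_prime_dvd (orderOf_pos u).ne' (fun {d} hd hdd => hn d hd hdd)⟩
      exact h3 ⟨k, hk ▸ pow_orderOf_eq_one u⟩
    have hou : orderOf (u ^ (orderOf u / r)) = r := orderOf_pow_orderOf_div (orderOf_pos u).ne' hrd
    refine E.no_trans hna E.S.t_sq E.S.t_ne (htr.pow (orderOf u / r)) hr hr3
      (orderOf_dvd_iff_pow_eq_one.1 (dvd_of_eq hou)) fun e => ?_
    rw [e, orderOf_one] at hou
    exact hr.one_lt.ne hou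

end Geo

end Cfsg.Lib.TICyclic
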