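import Cfsg.Agent.Lib.TICyclic.Basic
import Cfsg.Agent.Lib.TICyclic.Triangle
import Mathlib.GroupTheory.Nilpotent
import Mathlib.Data.Nat.GCD.Basic
import Mathlib.GroupTheory.GroupAction.Quotient

/-!
# Elements of order nine and trivial intersection

In a group of Ree type with cyclic TI subgroups of prime power order the Sylow three-subgroup,
which contains elements of order nine, is abelian.
-/

set_option autoImplicit false
set_option linter.unusedSectionVars false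
set_option linter.style.haveILetI false

namespace Cfsg.Lib.TICyclic

open Subgroup Cfsg Cfsg.Lib Cfsg.Lib.ReeType Cfsg.Lib.ReeTwoTrans MulAction
open scoped commutatorElement

section General

variable {G : Type*} [Group G]

/-- Two elements of order three generating different subgroups are independent. -/
theorem indep_three {A B : G} (hA : A ^ 3 = 1) (hA1 : A ≠ 1) (hB : B ^ 3 = 1)
    (hne : B ∉ zpowers A) {i j : ℤ} (h : A ^ i * B ^ j = 1) : (3 : ℤ) ∣ i ∧ (3 : ℤ) ∣ j := by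
  haveI := Fact.mk Nat.prime_three
  have hB1 : B ≠ 1 := fun e => hne (e ▸ one_mem _)
  have key : ∀ {C : G}, C ^ 3 = 1 → C ≠ 1 → ∀ {k : ℤ}, C ^ k = 1 → (3 : ℤ) ∣ k := by
    intro C hC hC1 k hk
    have := orderOf_dvd_iff_zpow_eq_one.2 hk
    rwa [orderOf_eq_prime hC hC1] at this
  have hj : (3 : ℤ) ∣ j := by
    by_contra hj
    have hcop : Int.gcd 3 j = 1 := by
      have h1 : (Int.gcd 3 j) ∣ 3 := by
        have := Int.gcd_dvd_natAbs_left 3 j
        simpa using this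
      rcases (Nat.dvd_prime Nat.prime_three).1 h1 with e | e
      · exact e
      · refine absurd ?_ hj
        have h2 := Int.gcd_dvd_right 3 j
        rw [e] at h2
        exact_mod_cast h2
    obtain ⟨u, v, huv⟩ := Int.isCoprime_iff_gcd_eq_one.2 hcop
    refine hne ?_
    have : B = (A ^ (-i)) ^ v := by
      calc B = B ^ (u * 3 + v * j) := by rw [huv, zpow_one]
        _ = (B ^ j) ^ v := by
          rw [zpow_add, mul_comm u, zpow_mul, zpow_ofNat, hB, one_zpow, one_mul, mul_comm v, zpow_mul]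
        _ = _ := by rw [zpow_neg, eq_inv_of_mul_eq_one_right h]
    rw [this]
    exact zpow_mem (zpow_mem (mem_zpowers A) _) _
  refine ⟨key hA hA1 ?_, hj⟩
  obtain ⟨k, rfl⟩ := hj
  rwa [zpow_mul B, zpow_ofNat, hB, one_zpow, mul_one] at h

/-- An element fixing the cube of an element of order nine moves it by a power of the cube. -/
theorem conj_nine (hti : IsTI G) {y h : G} (h9 : y ^ 9 = 1) (h3 : y ^ 3 ≠ 1)
    (hc : h * y ^ 3 = y ^ 3 * h) : ∃ k : ℤ, h * y * h⁻¹ = y * (y ^ 3) ^ k := by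
  haveI := Fact.mk Nat.prime_three
  have ho : orderOf y = 3 ^ 2 :=
    orderOf_eq_prime_pow (p := 3) (n := 1) (by rwa [pow_one]) (by exact h9)
  obtain ⟨j, hj⟩ := mem_zpowers_iff.1 (hti.conj_mem Nat.prime_three ho h3 hc)
  have h1 : (y ^ j) ^ 3 = y ^ 3 := by rw [hj, conj_pow, hc, mul_inv_cancel_right]
  have h2 : y ^ ((j - 1) * 3) = 1 := by
    rw [zpow_mul, zpow_ofNat, zpow_sub, zpow_one,
      ((Commute.zpow_self y j).inv_right).mul_pow, h1, inv_pow, mul_inv_cancel]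
  have h4 := orderOf_dvd_iff_zpow_eq_one.2 h2
  rw [ho] at h4
  obtain ⟨k, hk⟩ : (3 : ℤ) ∣ j - 1 := by
    obtain ⟨c, hc⟩ := h4
    exact ⟨c, by push_cast at hc; omega⟩
  refine ⟨k, ?_⟩
  rw [← hj, show j = 1 + 3 * k by omega, zpow_add, zpow_one, zpow_mul, zpow_ofNat]

/-- An element commuting with the cubes moves two independent elements of order nine alike. -/
theorem conj_alike (hti : IsTI G) {y y' h : G} (h9 : y ^ 9 = 1) (h3 : y ^ 3 ≠ 1)
    (h9' : y' ^ 9 = 1) (h3' : y' ^ 3 ≠ 1) (hne : y' ^ 3 ∉ zpowers (y ^ 3)) (hcom : Commute y y')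
    (hc : h * y ^ 3 = y ^ 3 * h) (hc' : h * y' ^ 3 = y' ^ 3 * h) :
    ∃ k : ℤ, h * y * h⁻¹ = y * (y ^ 3) ^ k ∧ h * y' * h⁻¹ = y' * (y' ^ 3) ^ k := by
  obtain ⟨k, hk⟩ := conj_nine hti h9 h3 hc
  obtain ⟨k', hk'⟩ := conj_nine hti h9' h3' hc'
  have hA : (y ^ 3) ^ 3 = 1 := by rw [← pow_mul]; exact h9
  have hB : (y' ^ 3) ^ 3 = 1 := by rw [← pow_mul]; exact h9'
  have hp : (y * y') ^ 3 = y ^ 3 * y' ^ 3 := hcom.mul_pow 3
  have h3p : (y * y') ^ 3 ≠ 1 := fun e => hne (by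
    rw [hp] at e
    rw [eq_inv_of_mul_eq_one_right e]
    exact inv_mem (mem_zpowers _))
  have h9p : (y * y') ^ 9 = 1 := by rw [hcom.mul_pow, h9, h9', one_mul]
  obtain ⟨l, hl⟩ := conj_nine hti (h := h) h9p h3p (by
    rw [hp, ← mul_assoc, hc, mul_assoc, hc', ← mul_assoc])
  have e : h * (y * y') * h⁻¹ = h * y * h⁻¹ * (h * y' * h⁻¹) := by group
  rw [e, hk, hk', hp, (hcom.pow_pow 3 3).mul_zpow] at hl
  have hl' : (y ^ 3) ^ k * (y' ^ 3) ^ k' = (y ^ 3) ^ l * (y' ^ 3) ^ l := by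
    refine mul_left_cancel (a := y * y') ?_
    rw [← hl]
    have hyy : Commute y' ((y ^ 3) ^ k) := (hcom.symm.pow_right 3).zpow_right k
    rw [mul_assoc y, ← mul_assoc y', hyy.eq, mul_assoc, mul_assoc]
  have hz : (y ^ 3) ^ (k - l) * (y' ^ 3) ^ (k' - l) = 1 := by
    have hcl : Commute ((y ^ 3) ^ (-l)) ((y' ^ 3) ^ k') :=
      ((hcom.pow_pow 3 3).zpow_left _).zpow_right _
    calc (y ^ 3) ^ (k - l) * (y' ^ 3) ^ (k' - l)
        = (y ^ 3) ^ k * ((y ^ 3) ^ (-l) * (y' ^ 3) ^ k') * (y' ^ 3) ^ (-l) := by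
          rw [sub_eq_add_neg, sub_eq_add_neg, zpow_add, zpow_add]; group
      _ = (y ^ 3) ^ k * (y' ^ 3) ^ k' * ((y ^ 3) ^ (-l) * (y' ^ 3) ^ (-l)) := by
          rw [hcl.eq]; group
      _ = 1 := by
          rw [hl', ← (hcom.pow_pow 3 3).mul_zpow, ← (hcom.pow_pow 3 3).mul_zpow, ← zpow_add,
            add_neg_cancel, zpow_zero]
  obtain ⟨⟨i, hi⟩, ⟨i', hi'⟩⟩ := indep_three hA h3 hB hne hz
  refine ⟨k, hk, ?_⟩
  rw [hk', show k' = k + 3 * (i' - i) by omega, zpow_add, zpow_mul _ (3 : ℤ), zpow_ofNat, hB,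
    one_zpow, mul_one]

theorem exists_nine [Finite G] {g : G} {j : ℕ} (hg : g ^ 3 ^ j = 1) (h3 : g ^ 3 ≠ 1) :
    ∃ i : ℕ, (g ^ i) ^ 3 ≠ 1 ∧ (g ^ i) ^ 9 = 1 := by
  obtain ⟨e, -, he⟩ := (Nat.dvd_prime_pow Nat.prime_three).1 (orderOf_dvd_of_pow_eq_one hg)
  have he2 : 2 ≤ e := by
    by_contra hlt
    push Not at hlt
    refine h3 (orderOf_dvd_iff_pow_eq_one.1 (he ▸ ?_))
    exact dvd_trans (pow_dvd_pow 3 (show e ≤ 1 by omega)) (by rw [pow_one])
  refine ⟨3 ^ (e - 2), ?_, ?_⟩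
  · rw [← pow_mul, ne_eq, ← orderOf_dvd_iff_pow_eq_one, he, ← pow_succ, Nat.pow_dvd_pow_iff_le_right (by norm_num)]
    omega
  · rw [← pow_mul, ← orderOf_dvd_iff_pow_eq_one, he, show 9 = 3 ^ 2 from rfl, ← pow_add]
    exact pow_dvd_pow 3 (by omega)

/-- The upper central series stops only at the top. -/
theorem ucs_succ_ne {P : Type*} [Group P] [Group.IsNilpotent P] {i : ℕ}
    (h : Subgroup.upperCentralSeries P i ≠ ⊤) : Subgroup.upperCentralSeries P (i + 1) ≠ Subgroup.upperCentralSeries P i := by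
  intro he
  have hk : ∀ k, Subgroup.upperCentralSeries P (i + k) = Subgroup.upperCentralSeries P i := by
    intro k
    induction k with
    | zero => rfl
    | succ k ih =>
      ext x
      rw [show i + (k + 1) = (i + k) + 1 by omega, Subgroup.mem_upperCentralSeries_succ_iff, ih,
        ← Subgroup.mem_upperCentralSeries_succ_iff, he]
  obtain ⟨N, hN⟩ := Group.IsNilpotent.nilpotent P
  refine h (top_le_iff.1 (hN ▸ ?_))
  rw [← hk N]
  have hmono : ∀ k m, Subgroup.upperCentralSeries P m ≤ Subgroup.upperCentralSeries P (m + k) := by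
    intro k m
    induction k with
    | zero => exact le_rfl
    | succ k ih =>
      refine ih.trans fun x hx => ?_
      rw [show m + (k + 1) = (m + k) + 1 by omega, Subgroup.mem_upperCentralSeries_succ_iff]
      intro y
      rw [commutatorElement_def, mul_assoc x, mul_assoc x]
      exact mul_mem hx (Subgroup.Normal.conj_mem inferInstance _ (inv_mem hx) y)
  rw [Nat.add_comm]
  exact hmono i N

end General

namespace Geo

variable {G L : Type*} [Group G] [Group L] [Finite G] {n T : ℕ} (E : Geo G L n T)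

local notation "q" => 3 ^ (2 * n + 1)

/-- A subgroup of `P` normalized by the torus. -/
def Inv (X : Subgroup G) : Prop :=
  X ≤ (E.P : Subgroup G) ∧ ∀ x ∈ X, E.S.φ E.S.D.a * x * (E.S.φ E.S.D.a)⁻¹ ∈ X

/-- The order of an invariant subgroup is a power of `q`. -/
theorem inv_card {X : Subgroup G} (hX : E.Inv X) : ∃ k : ℕ, k ≤ 3 ∧ Nat.card X = q ^ k := by
  classical
  obtain ⟨hXP, hXa⟩ := hX
  obtain ⟨hoa, h13, -, -, h2m⟩ := torus_facts E.S
  obtain ⟨-, hP, -⟩ := E.card_facts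
  set s := E.S.φ E.S.D.a with hs
  have hn : zpowers s ≤ normalizer (X : Set G) := by
    rw [zpowers_le]
    exact mem_normalizer_of_map_le (by rintro _ ⟨x, hx, rfl⟩; exact hXa x hx)
  let act : MulAction (zpowers s) {x : G // x ∈ X ∧ x ≠ 1} :=
    { smul := fun g x => ⟨(g : G) * x * (g : G)⁻¹, (mem_normalizer_iff.1 (hn g.2) _).1 x.2.1,
        fun e => x.2.2 (conj_eq_one_iff.1 e)⟩
      one_smul := fun x => Subtype.ext (show (1 : G) * x * (1 : G)⁻¹ = x by group)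
      mul_smul := fun g g' x => Subtype.ext (show (g : G) * g' * x * ((g : G) * g')⁻¹ =
        (g : G) * ((g' : G) * x * (g' : G)⁻¹) * (g : G)⁻¹ by group) }
  letI := act
  have hfree : ∀ x : {x : G // x ∈ X ∧ x ≠ 1}, stabilizer (zpowers s) x = ⊥ := by
    intro x
    rw [eq_bot_iff]
    intro g hg
    by_contra hg1
    have h1 : (g : G) * x * (g : G)⁻¹ = x := congrArg Subtype.val (mem_stabilizer_iff.1 hg)
    exact x.2.2 (E.fixed_free g.2 (fun e => hg1 (mem_bot.2 (Subtype.ext e))) (hXP x.2.1)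
      (mul_inv_eq_iff_eq_mul.1 h1).symm)
  have hdvd : 2 * T - 1 ∣ Nat.card {x : G // x ∈ X ∧ x ≠ 1} := by
    rw [Nat.card_congr (selfEquivOrbitsQuotientProd hfree), Nat.card_prod, Nat.card_zpowers, hoa]
    exact dvd_mul_left _ _
  have hcard : Nat.card {x : G // x ∈ X ∧ x ≠ 1} = Nat.card X - 1 := by
    show Nat.card ↥({x : G | x ∈ X ∧ x ≠ 1}) = _
    rw [Nat.card_coe_set_eq, show {x : G | x ∈ X ∧ x ≠ 1} = (X : Set G) \ {1} by ext; simp,
      Set.ncard_sdiff_singleton_of_mem X.one_mem, ← Nat.card_coe_set_eq]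
    rfl
  rw [hcard] at hdvd
  obtain ⟨j, hj, hje⟩ := (Nat.dvd_prime_pow Nat.prime_three).1
    (show Nat.card X ∣ 3 ^ ((2 * n + 1) * 3) by rw [pow_mul, ← hP]; exact card_dvd_of_le hXP)
  rw [hje] at hdvd ⊢
  suffices hdj : 2 * n + 1 ∣ j by
    obtain ⟨k, hk⟩ := hdj
    refine ⟨k, ?_, by rw [hk, pow_mul]⟩
    exact Nat.le_of_mul_le_mul_left (hk ▸ hj) (by omega)
  have hq : 2 * T - 1 ∣ 3 ^ (2 * n + 1) - 1 := h2m ▸ dvd_mul_left _ _
  have hg := Nat.dvd_gcd hdvd hq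
  rw [Nat.pow_sub_one_gcd_pow_sub_one] at hg
  set g := Nat.gcd j (2 * n + 1) with hgdef
  obtain ⟨c, hc⟩ : g ∣ 2 * n + 1 := Nat.gcd_dvd_right _ _
  have hgpos : 0 < g := Nat.gcd_pos_of_pos_right _ (by omega)
  by_cases hc1 : c = 1
  · rw [hc1, mul_one] at hc
    exact hc ▸ Nat.gcd_dvd_left _ _
  exfalso
  have hc0 : c ≠ 0 := by rintro rfl; simp at hc
  have hc2 : c ≠ 2 := by rintro rfl; omega
  have hc3 : g * 3 ≤ g * c := Nat.mul_le_mul_left _ (by omega)
  have h1 : 3 ^ g - 1 ≠ 0 := by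
    have := Nat.one_lt_pow hgpos.ne' (show 1 < 3 by norm_num)
    omega
  have h2 := Nat.le_of_dvd (Nat.pos_of_ne_zero h1) hg
  have h4 : 3 ^ g * 3 ^ 2 ≤ 3 ^ (2 * n + 1) := by
    rw [← pow_add]; exact Nat.pow_le_pow_right (by norm_num) (by omega)
  omega

theorem inv_card_le {X Y : Subgroup G} (hX : E.Inv X) (hY : E.Inv Y) (hlt : X < Y) :
    Nat.card X * q ≤ Nat.card Y := by
  obtain ⟨i, -, hi⟩ := E.inv_card hX
  obtain ⟨j, -, hj⟩ := E.inv_card hY
  have h1 : Nat.card X < Nat.card Y := by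
    refine lt_of_le_of_ne (card_le_of_le hlt.le) fun e => hlt.ne ?_
    exact eq_of_le_of_card_ge hlt.le (le_of_eq e.symm)
  rw [hi, hj] at h1 ⊢
  have h27 := E.S.q_facts.2.1
  have hij : i < j := (Nat.pow_lt_pow_iff_right (by omega)).1 h1
  rw [← pow_succ]
  exact Nat.pow_le_pow_right (by omega) hij

/-- Conjugation by the torus on `P`. -/
def torusAut : (E.P : Subgroup G) ≃* (E.P : Subgroup G) where
  toFun x := ⟨E.S.φ E.S.D.a * x * (E.S.φ E.S.D.a)⁻¹, E.conj_P_mem E.a_mem x.2⟩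
  invFun x := ⟨(E.S.φ E.S.D.a)⁻¹ * x * (E.S.φ E.S.D.a)⁻¹⁻¹, E.conj_P_mem (inv_mem E.a_mem) x.2⟩
  left_inv x := Subtype.ext (show (E.S.φ E.S.D.a)⁻¹ *
    (E.S.φ E.S.D.a * x * (E.S.φ E.S.D.a)⁻¹) * (E.S.φ E.S.D.a)⁻¹⁻¹ = x by group)
  right_inv x := Subtype.ext (show E.S.φ E.S.D.a *
    ((E.S.φ E.S.D.a)⁻¹ * x * (E.S.φ E.S.D.a)⁻¹⁻¹) * (E.S.φ E.S.D.a)⁻¹ = x by group)
  map_mul' x y := Subtype.ext (show E.S.φ E.S.D.a * (x * y) * (E.S.φ E.S.D.a)⁻¹ =
    E.S.φ E.S.D.a * x * (E.S.φ E.S.D.a)⁻¹ * (E.S.φ E.S.D.a * y * (E.S.φ E.S.D.a)⁻¹) by group)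

/-- The terms of the upper central series of `P`. -/
def Zs (i : ℕ) : Subgroup G :=
  (Subgroup.upperCentralSeries (E.P : Subgroup G) i).map (E.P : Subgroup G).subtype

theorem Zs_inv (i : ℕ) : E.Inv (E.Zs i) := by
  refine ⟨map_subtype_le _, ?_⟩
  rintro _ ⟨x, hx, rfl⟩
  refine ⟨E.torusAut x, ?_, rfl⟩
  rw [← Subgroup.comap_upperCentralSeries E.torusAut i] at hx
  exact hx

include E in
theorem ucs_three : Subgroup.upperCentralSeries (E.P : Subgroup G) 3 = ⊤ := by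
  haveI : Fact (Nat.Prime 3) := ⟨Nat.prime_three⟩
  haveI : Group.IsNilpotent (E.P : Subgroup G) := E.P.isPGroup'.isNilpotent
  obtain ⟨-, hP, -⟩ := E.card_facts
  set U := fun i => Subgroup.upperCentralSeries (E.P : Subgroup G) i with hU
  have hcard : ∀ i, Nat.card (E.Zs i) = Nat.card (U i) := fun i =>
    (Nat.card_congr (equivMapOfInjective _ _ (subtype_injective _)).toEquiv).symm
  have hmono : ∀ i, U i ≤ U (i + 1) := fun i x hx => by
    rw [Subgroup.mem_upperCentralSeries_succ_iff]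
    intro y
    rw [commutatorElement_def, mul_assoc x, mul_assoc x]
    exact mul_mem hx (Subgroup.Normal.conj_mem inferInstance _ (inv_mem hx) y)
  by_contra h3
  have hne : ∀ i ≤ 3, U i ≠ ⊤ := by
    intro i hi e
    refine h3 (top_le_iff.1 (e ▸ ?_))
    interval_cases i
    · exact (hmono 0).trans ((hmono 1).trans (hmono 2))
    · exact (hmono 1).trans (hmono 2)
    · exact hmono 2
    · exact le_rfl
  have hstep : ∀ i ≤ 2, Nat.card (E.Zs i) * q ≤ Nat.card (E.Zs (i + 1)) := by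
    intro i hi
    refine E.inv_card_le (E.Zs_inv i) (E.Zs_inv _) ?_
    exact (map_lt_map_iff_of_injective (subtype_injective _)).2
      (lt_of_le_of_ne (hmono i) (ucs_succ_ne (hne i (by omega))).symm)
  have h0 : 1 ≤ Nat.card (E.Zs 0) := Nat.card_pos
  have e1 : 1 * q ≤ Nat.card (E.Zs 1) := le_trans (Nat.mul_le_mul_right _ h0) (hstep 0 (by omega))
  have e2 : 1 * q * q ≤ Nat.card (E.Zs 2) := le_trans (Nat.mul_le_mul_right _ e1) (hstep 1 (by omega))
  have e3 : 1 * q * q * q ≤ Nat.card (E.Zs 3) := le_trans (Nat.mul_le_mul_right _ e2) (hstep 2 (by omega))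
  refine h3 (eq_top_of_le_card _ ?_)
  rw [hP, ← hcard 3]
  refine le_trans (le_of_eq ?_) e3
  ring

/-- Centrality in `P`. -/
def Central (y : G) : Prop := ∀ h ∈ (E.P : Subgroup G), h * y = y * h

/-- Elements of order nine with central cube are central. -/
theorem nine_central (hti : IsTI G) {y : G} (hy : y ∈ (E.P : Subgroup G)) (h9 : y ^ 9 = 1)
    (h3 : y ^ 3 ≠ 1) (hc : E.Central (y ^ 3)) : E.Central y := by
  classical
  set s := E.S.φ E.S.D.a with hs
  obtain ⟨hoa, h13, hodd, -, -⟩ := torus_facts E.S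
  set y' := s * y * s⁻¹ with hy'
  have hy'P : y' ∈ (E.P : Subgroup G) := E.conj_P_mem E.a_mem hy
  have h9' : y' ^ 9 = 1 := by rw [hy', conj_pow, h9]; group
  have h3' : y' ^ 3 ≠ 1 := by
    rw [hy', conj_pow]; exact fun e => h3 (conj_eq_one_iff.1 e)
  have hs2 : s ^ 2 ≠ 1 := fun e => by
    have := Nat.le_of_dvd two_pos (hoa ▸ orderOf_dvd_of_pow_eq_one e : 2 * T - 1 ∣ 2)
    omega
  have hA : (y ^ 3) ^ 3 = 1 := by rw [← pow_mul]; exact h9
  have hne : y' ^ 3 ∉ zpowers (y ^ 3) := by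
    intro hmem
    obtain ⟨i, hi⟩ := mem_zpowers_iff.1 hmem
    have hyi : (y ^ 3) ^ (i * i) = y ^ 3 := by
      have h0 := Int.emod_nonneg i (show (3 : ℤ) ≠ 0 by norm_num)
      have h1 := Int.emod_lt_of_pos i (show (0 : ℤ) < 3 by norm_num)
      have hmod : ∀ k : ℤ, (y ^ 3) ^ k = (y ^ 3) ^ (k % 3) := fun k => by
        conv_lhs => rw [← Int.emod_add_mul_ediv k 3, zpow_add, zpow_mul, zpow_ofNat, hA, one_zpow, mul_one]
      have hi3 : i % 3 ≠ 0 := fun e => h3' (by rw [← hi, hmod, e, zpow_zero])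
      rw [hmod, Int.mul_emod]
      interval_cases hh : i % 3
      · exact absurd rfl hi3
      · norm_num
      · norm_num
    have h4 : s ^ 2 * y ^ 3 * (s ^ 2)⁻¹ = y ^ 3 := by
      calc s ^ 2 * y ^ 3 * (s ^ 2)⁻¹ = s * (s * y ^ 3 * s⁻¹) * s⁻¹ := by rw [pow_two]; group
        _ = s * (y ^ 3) ^ i * s⁻¹ := by rw [← conj_pow (a := s) (b := y), ← hy', hi]
        _ = (s * y ^ 3 * s⁻¹) ^ i := conj_zpow.symm
        _ = ((y ^ 3) ^ i) ^ i := by rw [← conj_pow (a := s) (b := y), ← hy', hi]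
        _ = _ := by rw [← zpow_mul, hyi]
    exact h3 (E.fixed_free (pow_mem (mem_zpowers s) 2) hs2 (pow_mem hy 3)
      (mul_inv_eq_iff_eq_mul.1 h4).symm)
  have hc' : E.Central (y' ^ 3) := by
    intro h hh
    have h1 := hc _ (E.conj_P_mem (inv_mem E.a_mem) hh)
    rw [inv_inv, ← hs] at h1
    rw [hy', conj_pow]
    calc h * (s * y ^ 3 * s⁻¹) = s * (s⁻¹ * h * s * y ^ 3) * s⁻¹ := by group
      _ = _ := by rw [h1]; group
  have hcom : Commute y y' := by
    obtain ⟨k, hk⟩ := conj_nine hti h9 h3 (hc y' hy'P)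
    obtain ⟨k', hk'⟩ := conj_nine hti h9' h3' (hc' y hy)
    have e1 : y' * y * y'⁻¹ * y⁻¹ = (y ^ 3) ^ k := by
      rw [hk, (((Commute.refl y).pow_right 3).zpow_right k).eq, mul_inv_cancel_right]
    have e2 : y' * y * y'⁻¹ * y⁻¹ = ((y' ^ 3) ^ k')⁻¹ := by
      calc y' * y * y'⁻¹ * y⁻¹ = y' * (y * y' * y⁻¹)⁻¹ := by group
        _ = _ := by
          rw [hk', mul_inv_rev,
            (((Commute.refl y').pow_right 3).zpow_right k').inv_inv.symm.eq, mul_inv_cancel_left]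
    have hB : (y' ^ 3) ^ 3 = 1 := by rw [← pow_mul]; exact h9'
    obtain ⟨⟨i, hi⟩, -⟩ := indep_three hA h3 hB hne (i := k) (j := k')
      (by rw [← e1, e2, inv_mul_cancel])
    rw [hi, zpow_mul, zpow_ofNat, hA, one_zpow, mul_inv_eq_one] at e1
    exact (mul_inv_eq_iff_eq_mul.1 e1).symm
  -- conjugation by `h` and by its image under the torus agree on `y'`
  have key : ∀ h ∈ (E.P : Subgroup G), h⁻¹ * (s * h * s⁻¹) * y' = y' * (h⁻¹ * (s * h * s⁻¹)) := by
    intro h hh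
    obtain ⟨k, hk, hk'⟩ := conj_alike hti h9 h3 h9' h3' hne hcom (hc h hh) (hc' h hh)
    have h1 : s * h * s⁻¹ * y' * (s * h * s⁻¹)⁻¹ = h * y' * h⁻¹ := by
      calc s * h * s⁻¹ * y' * (s * h * s⁻¹)⁻¹ = s * (h * y * h⁻¹) * s⁻¹ := by rw [hy']; group
        _ = s * y * s⁻¹ * (s * (y ^ 3) ^ k * s⁻¹) := by rw [hk]; group
        _ = _ := by rw [← conj_zpow, ← conj_pow, ← hy', hk']
    calc h⁻¹ * (s * h * s⁻¹) * y' = h⁻¹ * (s * h * s⁻¹ * y' * (s * h * s⁻¹)⁻¹) * (s * h * s⁻¹) := by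
          group
      _ = _ := by rw [h1]; group
  let F : ↥(E.P : Subgroup G) → ↥(E.P : Subgroup G) := fun h =>
    ⟨(h : G)⁻¹ * (s * h * s⁻¹), mul_mem (inv_mem h.2) (E.conj_P_mem E.a_mem h.2)⟩
  have hF : Function.Injective F := by
    intro h h' e
    have e' : (h : G)⁻¹ * (s * h * s⁻¹) = (h' : G)⁻¹ * (s * h' * s⁻¹) := congrArg Subtype.val e
    refine Subtype.ext (mul_inv_eq_one.1 (E.fixed_free (mem_zpowers s) (fun e0 => hs2 (by
      rw [e0, one_pow])) (mul_mem h.2 (inv_mem h'.2)) ?_))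
    calc (h : G) * (h' : G)⁻¹ * s = h * ((h' : G)⁻¹ * (s * h' * s⁻¹)) * (s * (h' : G)⁻¹) := by group
      _ = h * ((h : G)⁻¹ * (s * h * s⁻¹)) * (s * (h' : G)⁻¹) := by rw [← e']
      _ = _ := by group
  have hy'c : E.Central y' := by
    intro g hg
    obtain ⟨h, hh⟩ := (Finite.surjective_of_injective hF) ⟨g, hg⟩
    rw [← show (h : G)⁻¹ * (s * h * s⁻¹) = g from congrArg Subtype.val hh]
    exact key h h.2
  intro g hg
  have h1 := hy'c _ (E.conj_P_mem E.a_mem hg)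
  rw [← hs] at h1
  calc g * y = s⁻¹ * (s * g * s⁻¹ * y') * s := by rw [hy']; group
    _ = _ := by rw [h1, hy']; group

theorem central_iff {x : (E.P : Subgroup G)} :
    x ∈ Subgroup.upperCentralSeries (E.P : Subgroup G) 1 ↔ E.Central (x : G) := by
  rw [Subgroup.upperCentralSeries_one, mem_center_iff]
  exact ⟨fun h g hg => congrArg Subtype.val (h ⟨g, hg⟩), fun h g => Subtype.ext (h g g.2)⟩

/-- Some element of order nine has a central cube. -/
theorem exists_nine_central_cube [IsSimpleGroup G] (hna : ¬ IsMulCommutative G) :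
    ∃ y ∈ (E.P : Subgroup G), y ^ 9 = 1 ∧ y ^ 3 ≠ 1 ∧ E.Central (y ^ 3) := by
  haveI : Fact (Nat.Prime 3) := ⟨Nat.prime_three⟩
  obtain ⟨-, hP, -⟩ := E.card_facts
  have hpow : ∀ g ∈ (E.P : Subgroup G), g ^ 3 ^ ((2 * n + 1) * 3) = 1 := fun g hg =>
    orderOf_dvd_iff_pow_eq_one.1 (by rw [pow_mul, ← hP]; exact orderOf_dvd_natCard _ hg)
  by_contra hcon
  push Not at hcon
  have hz1 : ∀ x ∈ (E.P : Subgroup G), E.Central x → x ^ 3 = 1 := by
    intro x hx hxc
    by_contra h3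
    obtain ⟨i, hi3, hi9⟩ := exists_nine (hpow x hx) h3
    exact hcon _ (pow_mem hx i) hi9 hi3 fun h hh =>
      ((show Commute h x from hxc h hh).pow_right i).pow_right 3
  have hz2 : ∀ c : (E.P : Subgroup G), c ∈ Subgroup.upperCentralSeries (E.P : Subgroup G) 2 →
      (c : G) ^ 3 = 1 := by
    intro c hc
    by_contra h3
    obtain ⟨i, hi3, hi9⟩ := exists_nine (hpow _ c.2) h3
    refine hcon _ (pow_mem c.2 i) hi9 hi3 fun h hh => ?_
    have hm := Subgroup.mem_upperCentralSeries_succ_iff.1 (pow_mem hc i) ⟨h, hh⟩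
    set e : G := ((⁅c ^ i, (⟨h, hh⟩ : (E.P : Subgroup G))⁆ : (E.P : Subgroup G)) : G) with he
    have hec : E.Central e := E.central_iff.1 hm
    have he3 : e ^ 3 = 1 := hz1 e (SetLike.coe_mem _) hec
    set d := (c : G) ^ i with hd
    have he' : e = d * h * d⁻¹ * h⁻¹ := by rw [he, commutatorElement_def]; rfl
    have h1 : h * d * h⁻¹ = e⁻¹ * d := by rw [he']; group
    have h2 : h * d ^ 3 * h⁻¹ = d ^ 3 := by
      rw [← conj_pow, h1, ((show Commute d e from hec d (pow_mem c.2 i)).inv_right.symm).mul_pow,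
        inv_pow, he3, inv_one, one_mul]
    exact mul_inv_eq_iff_eq_mul.1 h2
  obtain ⟨a, ha, b, hb, ha2, hb2, ha1, hb1, h3⟩ := E.no_cube hna
  have hab := E.mul_invol_mem ha hb ha2 hb2 ha1 hb1
  obtain ⟨i, hi3, hi9⟩ := exists_nine (hpow _ hab) h3
  set y := (a * b) ^ i with hy
  have hyP : y ∈ (E.P : Subgroup G) := pow_mem hab i
  refine hcon y hyP hi9 hi3 fun h hh => ?_
  set yy : (E.P : Subgroup G) := ⟨y, hyP⟩
  set hhh : (E.P : Subgroup G) := ⟨h, hh⟩
  have hc2 : ⁅hhh, yy⁆ ∈ Subgroup.upperCentralSeries (E.P : Subgroup G) 2 :=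
    Subgroup.mem_upperCentralSeries_succ_iff.1 (E.ucs_three ▸ mem_top hhh) yy
  set c : G := ((⁅hhh, yy⁆ : (E.P : Subgroup G)) : G) with hcdef
  have hc3 : c ^ 3 = 1 := hz2 _ hc2
  have hd := Subgroup.mem_upperCentralSeries_succ_iff.1 hc2 yy
  set d : G := ((⁅⁅hhh, yy⁆, yy⁆ : (E.P : Subgroup G)) : G) with hddef
  have hdc : E.Central d := E.central_iff.1 hd
  have hd3 : d ^ 3 = 1 := hz1 d (SetLike.coe_mem _) hdc
  have hc' : c = h * y * h⁻¹ * y⁻¹ := by rw [hcdef, commutatorElement_def]; rfl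
  have hd' : d = c * y * c⁻¹ * y⁻¹ := by rw [hddef, commutatorElement_def]; rfl
  have hyc : y * c * y⁻¹ = d⁻¹ * c := by rw [hd']; group
  have hdy : d⁻¹ * y = y * d⁻¹ := ((show Commute y d from hdc y hyP).inv_right).symm.eq
  have hcd : Commute c d := hdc c (SetLike.coe_mem _)
  have hy2c : y ^ 2 * c * (y ^ 2)⁻¹ = d⁻¹ * (d⁻¹ * c) := by
    calc y ^ 2 * c * (y ^ 2)⁻¹ = y * (y * c * y⁻¹) * y⁻¹ := by rw [pow_two]; group
      _ = y * d⁻¹ * c * y⁻¹ := by rw [hyc]; group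
      _ = d⁻¹ * (y * c * y⁻¹) := by rw [← hdy]; group
      _ = _ := by rw [hyc]
  have key : (c * y) ^ 3 = y ^ 3 := by
    calc (c * y) ^ 3 = c * (y * c * y⁻¹) * (y ^ 2 * c * (y ^ 2)⁻¹) * y ^ 3 := by
          rw [pow_succ, pow_two]; group
      _ = (c ^ 3 * d⁻¹ ^ 3) * y ^ 3 := by
          rw [hy2c, hyc, hcd.inv_right.symm.eq,
            show c * (c * d⁻¹) * (d⁻¹ * (c * d⁻¹)) = c * c * (d⁻¹ * d⁻¹ * c) * d⁻¹ by group,
            ((hcd.inv_right.mul_right hcd.inv_right).symm).eq,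
            show c ^ 3 = c * c * c by rw [pow_succ, pow_two]]
          group
      _ = _ := by rw [hc3, inv_pow, hd3, inv_one, one_mul, one_mul]
  have h5 : h * y * h⁻¹ = c * y := by rw [hc']; group
  exact mul_inv_eq_iff_eq_mul.1 (by rw [← conj_pow, h5, key])

/-- The Sylow three-subgroup is abelian. -/
theorem P_comm [IsSimpleGroup G] (hna : ¬ IsMulCommutative G) (hti : IsTI G) :
    ∀ x ∈ (E.P : Subgroup G), ∀ y ∈ (E.P : Subgroup G), x * y = y * x := by
  classical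
  haveI : Fact (Nat.Prime 3) := ⟨Nat.prime_three⟩
  obtain ⟨hoa, -, -, -, -⟩ := torus_facts E.S
  obtain ⟨-, hP, -⟩ := E.card_facts
  have hq1 := E.S.q_facts.2.1
  obtain ⟨z, hzP, hz9, hz3, hzc3⟩ := E.exists_nine_central_cube hna
  have hzc := E.nine_central hti hzP hz9 hz3 hzc3
  set s := E.S.φ E.S.D.a with hs
  set Z := E.Zs 1 with hZ
  have hmem : ∀ x, x ∈ Z ↔ x ∈ (E.P : Subgroup G) ∧ E.Central x := by
    intro x
    refine ⟨?_, fun h => ⟨⟨x, h.1⟩, E.central_iff.2 h.2, rfl⟩⟩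
    rintro ⟨x, hx, rfl⟩
    exact ⟨x.2, E.central_iff.1 hx⟩
  have hZc : ∀ x y : Z, x * y = y * x := fun x y =>
    Subtype.ext (((hmem _).1 y.2).2 x ((hmem _).1 x.2).1)
  let f : Z →* Z :=
    { toFun := fun x => x ^ 3
      map_one' := one_pow 3
      map_mul' := fun x y => (show Commute x y from hZc x y).mul_pow 3 }
  set K := f.ker.map Z.subtype with hK
  set R := f.range.map Z.subtype with hR
  have hKmem : ∀ x, x ∈ K ↔ x ∈ Z ∧ x ^ 3 = 1 := by
    intro x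
    constructor
    · rintro ⟨x, hx, rfl⟩
      exact ⟨x.2, congrArg Subtype.val (show x ^ 3 = 1 from hx)⟩
    · rintro ⟨hx, h3⟩
      exact ⟨⟨x, hx⟩, Subtype.ext h3, rfl⟩
  have hRmem : ∀ x, x ∈ R ↔ ∃ y ∈ Z, y ^ 3 = x := by
    intro x
    constructor
    · rintro ⟨_, ⟨y, rfl⟩, rfl⟩
      exact ⟨y, y.2, rfl⟩
    · rintro ⟨y, hy, rfl⟩
      exact ⟨_, ⟨⟨y, hy⟩, rfl⟩, rfl⟩
  have hZi := E.Zs_inv 1
  have hKi : E.Inv K := ⟨fun x hx => hZi.1 ((hKmem x).1 hx).1, fun x hx => (hKmem _).2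
    ⟨hZi.2 x ((hKmem x).1 hx).1, by rw [conj_pow, ((hKmem x).1 hx).2]; group⟩⟩
  have hRi : E.Inv R := by
    refine ⟨fun x hx => ?_, fun x hx => ?_⟩ <;> obtain ⟨y, hy, rfl⟩ := (hRmem x).1 hx
    · exact pow_mem (hZi.1 hy) 3
    · exact (hRmem _).2 ⟨_, hZi.2 y hy, conj_pow⟩
  have hprod : Nat.card Z = Nat.card K * Nat.card R := by
    rw [hK, hR, ← Nat.card_congr (equivMapOfInjective _ _ (subtype_injective _)).toEquiv,
      ← Nat.card_congr (equivMapOfInjective _ _ (subtype_injective _)).toEquiv,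
      ← Subgroup.index_ker, Subgroup.card_mul_index]
  have hbot : E.Inv ⊥ := ⟨bot_le, fun x hx => by rw [mem_bot.1 hx]; simp⟩
  have hzZ : z ∈ Z := (hmem z).2 ⟨hzP, hzc⟩
  have hz3R : z ^ 3 ∈ R := (hRmem _).2 ⟨z, hzZ, rfl⟩
  have hz3K : z ^ 3 ∈ K := (hKmem _).2 ⟨pow_mem hzZ 3, by rw [← pow_mul]; exact hz9⟩
  have hKR : E.Inv (K ⊓ R) :=
    ⟨inf_le_left.trans hKi.1, fun x hx => ⟨hKi.2 x hx.1, hRi.2 x hx.2⟩⟩
  have hKR1 : 1 * q ≤ Nat.card (K ⊓ R : Subgroup G) := by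
    have := E.inv_card_le hbot hKR (bot_lt_iff_ne_bot.2 fun e =>
      hz3 (mem_bot.1 (e ▸ (⟨hz3K, hz3R⟩ : z ^ 3 ∈ K ⊓ R))))
    rwa [card_bot] at this
  by_cases hZtop : Nat.card Z = q ^ 3
  · intro x hx y hy
    have he : Z = (E.P : Subgroup G) := eq_of_le_of_card_ge hZi.1 (by rw [hZtop, hP])
    exact ((hmem y).1 (he ▸ hy)).2 x hx
  obtain ⟨k, hk, hZk⟩ := E.inv_card hZi
  obtain ⟨i, -, hKk⟩ := E.inv_card hKi
  obtain ⟨j, -, hRk⟩ := E.inv_card hRi
  obtain ⟨l, -, hKRk⟩ := E.inv_card hKR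
  have hle : ∀ {u v : ℕ}, q ^ u ≤ q ^ v → u ≤ v := fun {u v} h =>
    (Nat.pow_le_pow_iff_right (by omega)).1 h
  have h1 : 1 ≤ l := hle (by rw [pow_one, ← hKRk]; simpa using hKR1)
  have hli : l ≤ i := hle (by rw [← hKk, ← hKRk]; exact card_le_of_le inf_le_left)
  have hlj : l ≤ j := hle (by rw [← hRk, ← hKRk]; exact card_le_of_le inf_le_right)
  have hkij : k = i + j := by
    refine Nat.pow_right_injective (show 2 ≤ q by omega) ?_
    show q ^ k = q ^ (i + j)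
    rw [pow_add (3 ^ (2 * n + 1)) i j, ← hZk, ← hKk, ← hRk, hprod]
  have hk3 : k ≠ 3 := fun e => hZtop (by rw [hZk, e])
  have hKle : K ≤ R := by
    have he : K ⊓ R = K := eq_of_le_of_card_ge inf_le_left (by
      rw [hKk, hKRk]; exact Nat.pow_le_pow_right (by omega) (by omega))
    exact he ▸ inf_le_right
  -- `U` meets the centre trivially
  set U := E.S.threeSub with hU
  have hUi : E.Inv U := ⟨E.U_le, by
    rintro _ ⟨u, hu, rfl⟩
    exact ⟨_, E.S.D.U_normal _ E.S.D.a_mem u hu, by simp⟩⟩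
  have hdisj : U ⊓ Z = ⊥ := by
    by_contra hne
    have hUZ : E.Inv (U ⊓ Z) :=
      ⟨inf_le_left.trans hUi.1, fun x hx => ⟨hUi.2 x hx.1, hZi.2 x hx.2⟩⟩
    have h := E.inv_card_le hbot hUZ (bot_lt_iff_ne_bot.2 hne)
    rw [card_bot, one_mul] at h
    have hUle : U ≤ Z := by
      have := eq_of_le_of_card_ge (inf_le_left : U ⊓ Z ≤ U) (by rw [hU, Setup.card_threeSub]; exact h)
      rw [← this]; exact inf_le_right
    have hUK : U = K := eq_of_le_of_card_ge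
      (fun u hu => (hKmem u).2 ⟨hUle hu, E.S.threeSub_cube hu⟩)
      (by rw [hKk, hU, Setup.card_threeSub, show i = 1 by omega, pow_one])
    obtain ⟨u, hu, hu1⟩ := E.S.exists_ne_one_threeSub
    obtain ⟨w, hw, hwu⟩ := (hRmem u).1 (hKle (hUK ▸ hu))
    have hwP := hZi.1 hw
    set w' := E.S.t * w * E.S.t⁻¹ with hw'
    have hw'P : w' ∈ (E.P : Subgroup G) := E.conj_P_mem E.t_mem hwP
    have hw'c : E.Central w' := by
      intro g hg
      have h := ((hmem w).1 hw).2 _ (E.conj_P_mem (inv_mem E.t_mem) hg)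
      rw [inv_inv] at h
      calc g * w' = E.S.t * (E.S.t⁻¹ * g * E.S.t * w) * E.S.t⁻¹ := by rw [hw']; group
        _ = _ := by rw [h, hw']; group
    set d := w' * w⁻¹ with hd
    have hww : Commute w' w := ((hmem w).1 hw).2 w' hw'P
    have hdU : d ∈ U := by
      rw [hUK, hKmem]
      refine ⟨(hmem _).2 ⟨mul_mem hw'P (inv_mem hwP), fun g hg => ?_⟩, ?_⟩
      · exact ((show Commute g w' from hw'c g hg).mul_right
          (show Commute g w from ((hmem w).1 hw).2 g hg).inv_right).eq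
      · rw [hd, hww.inv_right.mul_pow, inv_pow, hwu, hw', conj_pow, hwu, E.S.t_threeSub hu,
          mul_inv_cancel_right, mul_inv_cancel]
    have hd1 : d = 1 := by
      have ht : E.S.t * d * E.S.t⁻¹ = d := by rw [E.S.t_threeSub hdU, mul_inv_cancel_right]
      have hw2 : E.S.t * w' * E.S.t⁻¹ = w := by
        rw [hw', E.S.t_inv]
        calc E.S.t * (E.S.t * w * E.S.t) * E.S.t = E.S.t * E.S.t * w * (E.S.t * E.S.t) := by group
          _ = w := by rw [E.S.t_sq, one_mul, mul_one]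
      have h2 : d = d⁻¹ := by
        conv_lhs => rw [← ht]
        rw [hd, conj_mul', hw2, hw']
        group
      have h3 : d ^ 3 = 1 := E.S.threeSub_cube hdU
      have h22 : d * d = 1 := by
        nth_rewrite 2 [h2]
        exact mul_inv_cancel d
      rw [pow_succ, pow_two, h22, one_mul] at h3
      exact h3
    have hwt : w * E.S.t = E.S.t * w := by
      rw [hd, hw', mul_inv_eq_one] at hd1
      exact (mul_inv_eq_iff_eq_mul.1 hd1).symm
    have hwU : w ∈ U := three_inf_cent E.S E.P.isPGroup' E.U_le hwP hwt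
    exact hu1 (by rw [← hwu, E.S.threeSub_cube hwU])
  -- `P = U Z`
  let g : U × Z → ↥(E.P : Subgroup G) := fun y =>
    ⟨(y.1 : G) * y.2, mul_mem (E.U_le y.1.2) (hZi.1 y.2.2)⟩
  have hinj : Function.Injective g := fun y y' h =>
    Subgroup.mul_injective_of_disjoint (disjoint_iff.2 hdisj) (congrArg Subtype.val h)
  have hbij : Function.Bijective g := by
    haveI : Fintype (U × Z) := Fintype.ofFinite _
    haveI : Fintype (E.P : Subgroup G) := Fintype.ofFinite _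
    refine (Fintype.bijective_iff_injective_and_card g).2 ⟨hinj, ?_⟩
    rw [← Nat.card_eq_fintype_card, ← Nat.card_eq_fintype_card, Nat.card_prod, hP, hU,
      Setup.card_threeSub, hZk, show k = 2 by omega]
    ring
  intro x hx y hy
  obtain ⟨⟨u, w⟩, he⟩ := hbij.2 ⟨x, hx⟩
  obtain ⟨⟨u', w'⟩, he'⟩ := hbij.2 ⟨y, hy⟩
  rw [← show (u : G) * w = x from congrArg Subtype.val he,
    ← show (u' : G) * w' = y from congrArg Subtype.val he']
  have hc1 : ∀ {v : G}, v ∈ (E.P : Subgroup G) → Commute v (w : G) := fun {v} hv =>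
    ((hmem _).1 w.2).2 v hv
  have hc2 : ∀ {v : G}, v ∈ (E.P : Subgroup G) → Commute v (w' : G) := fun {v} hv =>
    ((hmem _).1 w'.2).2 v hv
  exact (((show Commute (u : G) u' from E.S.threeSub_comm u.2 u'.2).mul_right
    (hc2 (E.U_le u.2))).mul_left ((hc1 (mul_mem (E.U_le u'.2) (hZi.1 w'.2))).symm)).eq

end Geo

end Cfsg.Lib.TICyclic
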