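import Cfsg.Agent.Lib.TICyclic.Basic
import Cfsg.Agent.Lib.TICyclic.Tools
import Cfsg.Agent.Lib.ZStar.Main

/-!
# Without centralizing pairs a Sylow two-subgroup is generalized dihedral

All roots of an involution commute, some root sits in a Sylow subgroup with central square, and outside
the centralizer of that root all elements of the Sylow subgroup are involutions.
-/

set_option autoImplicit false
set_option linter.unusedSectionVars false
set_option linter.style.haveILetI false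

namespace Cfsg.Lib.TICyclic

open Subgroup Cfsg.Lib

variable {G : Type*} [Group G] [Finite G] [IsSimpleGroup G]

theorem exists_conj_comm (hG : ¬ IsMulCommutative G) {z : G} (hz : IsSq z) :
    ∃ g : G, z * (g * z * g⁻¹) = g * z * g⁻¹ * z ∧ g * z * g⁻¹ ≠ z := by
  by_contra hcon
  push Not at hcon
  have hiso : Cfsg.IsIsolatedInvolution z := ⟨hz.orderOf, fun g hg => hcon g hg.eq⟩
  have hO : Cfsg.oddCore G = ⊥ :=
    (inferInstance : (Cfsg.oddCore G).Normal).eq_bot_or_eq_top.resolve_right fun h =>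
      ZStar.notMem_oddCore hz.orderOf (h ▸ mem_top z)
  have hC : center G = ⊥ :=
    (inferInstance : (center G).Normal).eq_bot_or_eq_top.resolve_right fun h => hG
      ⟨⟨fun a b => mem_center_iff.1 (h ▸ mem_top b : b ∈ center G) a⟩⟩
  exact hz.ne_one (mem_bot.1 (hC ▸ ZStar.mem_center_of_isolated hO hiso))

/-- A root inside a Sylow subgroup with central square, when no pair centralizes. -/
structure Outer (G : Type*) [Group G] where
  ti : IsTI G
  no : ∀ z v : G, ¬ Rel z v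
  na : ¬ IsMulCommutative G
  S : Sylow 2 G
  x : G
  z : G
  root : IsRoot x z
  x_mem : x ∈ (S : Subgroup G)
  central : ∀ s ∈ (S : Subgroup G), s * z = z * s

/-- A root lies in a Sylow subgroup centralizing its square. -/
theorem exists_outer_data (hti : IsTI G) (hno : ∀ z v : G, ¬ Rel z v) {x z : G} (hx : IsRoot x z) :
    ∃ S : Sylow 2 G, x ∈ (S : Subgroup G) ∧ ∀ s ∈ (S : Subgroup G), s * z = z * s := by
  haveI : Fact (Nat.Prime 2) := ⟨Nat.prime_two⟩
  have hxp : IsPGroup 2 (zpowers x) := IsPGroup.of_card (n := 2) (by rw [Nat.card_zpowers, hx.1]; norm_num)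
  set C := centralizer ({z} : Set G) with hC
  have hxC : x ∈ C := mem_centralizer_singleton_iff.2 hx.comm_sq
  have hxC' : IsPGroup 2 (zpowers (⟨x, hxC⟩ : C)) :=
    IsPGroup.of_card (n := 2) (by rw [Nat.card_zpowers, orderOf_mk, hx.1]; norm_num)
  obtain ⟨P, hP⟩ := hxC'.exists_le_sylow
  set Q := (P : Subgroup C).map C.subtype with hQ
  obtain ⟨S, hS⟩ := (P.isPGroup'.map C.subtype).exists_le_sylow
  have hxQ : x ∈ Q := ⟨⟨x, hxC⟩, hP (mem_zpowers _), rfl⟩
  have hzQ : z ∈ Q := hx.2 ▸ mul_mem hxQ hxQ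
  have hmax : ∀ g ∈ (S : Subgroup G), g * z = z * g → g ∈ Q := by
    intro g hg hgz
    have h := P.is_maximal' (Q := (S : Subgroup G).comap C.subtype)
      (S.2.comap_of_injective _ Subtype.val_injective) fun a ha => hS ⟨a, ha, rfl⟩
    have : (⟨g, mem_centralizer_singleton_iff.2 hgz⟩ : C) ∈ (P : Subgroup C) := h ▸ hg
    exact ⟨_, this, rfl⟩
  have hQC : Q ≤ C := map_subtype_le _
  refine ⟨S, hS hxQ, fun s hs => ?_⟩
  by_contra hcon
  have hne : Q ≠ (S : Subgroup G) := fun e =>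
    hcon (mem_centralizer_singleton_iff.1 (hQC (e.symm ▸ hs)))
  obtain ⟨r, hr, hrQ, hrn⟩ := exists_normalizer_notMem S.2 hS hne
  set v := r * z * r⁻¹ with hv
  have hvc : ∀ q ∈ Q, v * q = q * v := by
    intro q hq
    obtain ⟨q', hq', rfl⟩ : ∃ q' ∈ Q, r * q' * r⁻¹ = q := by
      have he : (fun a => r * a * r⁻¹) '' (Q : Set G) = Q :=
        Set.eq_of_subset_of_ncard_le (by rintro _ ⟨a, ha, rfl⟩; exact hrn a ha)
          (Set.ncard_image_of_injective _ (f := fun a => r * a * r⁻¹) (MulAut.conj r).injective).ge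
          (Set.toFinite _)
      have hq2 : q ∈ (fun a => r * a * r⁻¹) '' (Q : Set G) := by rw [he]; exact hq
      obtain ⟨a, ha, e⟩ := hq2
      exact ⟨a, ha, e⟩
    exact ((Commute.conj_iff r).2 (mem_centralizer_singleton_iff.1 (hQC hq')).symm).eq
  have hzv : z ≠ v := fun e => hrQ (hmax r hr (by
    calc r * z = (r * z * r⁻¹) * r := by group
      _ = z * r := by rw [← hv, ← e]))
  exact hno z v (rel_of_one hti hx (IsSq.conj ⟨x, hx⟩ r) hzv (hvc z hzQ).symm (hvc x hxQ))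

/-- Every root gives such a configuration. -/
theorem exists_outer (hti : IsTI G) (hno : ∀ z v : G, ¬ Rel z v) (hG : ¬ IsMulCommutative G)
    {x z : G} (hx : IsRoot x z) : Nonempty (Outer G) := by
  obtain ⟨S, hxS, hc⟩ := exists_outer_data hti hno hx
  exact ⟨⟨hti, hno, hG, S, x, z, hx, hxS, hc⟩⟩

namespace Outer

variable (D : Outer G)

/-- The centralizer of the root in the Sylow subgroup. -/
def T : Subgroup G := (D.S : Subgroup G) ⊓ centralizer ({D.x} : Set G)

theorem mem_T {g : G} : g ∈ D.T ↔ g ∈ (D.S : Subgroup G) ∧ g * D.x = D.x * g := by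
  rw [T, Subgroup.mem_inf, mem_centralizer_singleton_iff]

theorem isSq : IsSq D.z := ⟨D.x, D.root⟩

theorem z_mem_S : D.z ∈ (D.S : Subgroup G) := D.root.2 ▸ mul_mem D.x_mem D.x_mem
theorem x_mem_T : D.x ∈ D.T := D.mem_T.2 ⟨D.x_mem, rfl⟩
theorem z_mem_T : D.z ∈ D.T := D.root.2 ▸ mul_mem D.x_mem_T D.x_mem_T

theorem inverts_x {s : G} (hs : s ∈ (D.S : Subgroup G)) (hsT : s ∉ D.T) :
    s * D.x * s⁻¹ = D.x⁻¹ :=
  (conj_root D.ti D.root (D.central s hs)).resolve_left fun h =>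
    hsT (D.mem_T.2 ⟨hs, mul_inv_eq_iff_eq_mul.1 h⟩)

theorem mul_outer {s r : G} (hs : s ∈ (D.S : Subgroup G)) (hr : r ∈ (D.S : Subgroup G)) (hsT : s ∉ D.T)
    (hrT : r ∉ D.T) : s * r ∈ D.T := by
  refine D.mem_T.2 ⟨mul_mem hs hr, mul_inv_eq_iff_eq_mul.1 ?_⟩
  rw [show s * r * D.x * (s * r)⁻¹ = s * (r * D.x * r⁻¹) * s⁻¹ by group, D.inverts_x hr hrT,
    show s * D.x⁻¹ * s⁻¹ = (s * D.x * s⁻¹)⁻¹ by group, D.inverts_x hs hsT, inv_inv]

theorem sq_mem_T {s : G} (hs : s ∈ (D.S : Subgroup G)) : s * s ∈ D.T := by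
  by_cases h : s ∈ D.T
  · exact mul_mem h h
  · exact D.mul_outer hs hs h h

theorem conj_mem_T {s g : G} (hs : s ∈ (D.S : Subgroup G)) (hg : g ∈ D.T) : s * g * s⁻¹ ∈ D.T := by
  obtain ⟨hgS, hgx⟩ := D.mem_T.1 hg
  refine D.mem_T.2 ⟨mul_mem (mul_mem hs hgS) (inv_mem hs), ?_⟩
  by_cases h : s ∈ D.T
  · exact (D.mem_T.1 (mul_mem (mul_mem h hg) (inv_mem h))).2
  · have hi : s⁻¹ ∉ D.T := fun h' => h (inv_mem_iff.1 h')
    have h1 := D.inverts_x (inv_mem hs) hi
    rw [inv_inv] at h1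
    refine mul_inv_eq_iff_eq_mul.1 ?_
    rw [show s * g * s⁻¹ * D.x * (s * g * s⁻¹)⁻¹ = s * (g * (s⁻¹ * D.x * s) * g⁻¹) * s⁻¹ by group, h1,
      show g * D.x⁻¹ * g⁻¹ = (g * D.x * g⁻¹)⁻¹ by group, mul_inv_eq_iff_eq_mul.2 hgx,
      show s * D.x⁻¹ * s⁻¹ = (s * D.x * s⁻¹)⁻¹ by group, D.inverts_x hs h, inv_inv]

theorem orderOf_pow_two {s : G} (hs : s ∈ (D.S : Subgroup G)) : ∃ k, orderOf s = 2 ^ k := by
  obtain ⟨k, hk⟩ := IsPGroup.iff_orderOf.1 D.S.2 ⟨s, hs⟩
  exact ⟨k, by rw [← hk, orderOf_mk]⟩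

/-- Another square in the Sylow subgroup inverts the roots of `z`. -/
theorem inverts {b r : G} (hb : IsSq b) (hbS : b ∈ (D.S : Subgroup G)) (hne : b ≠ D.z)
    (hr : IsRoot r D.z) : b * r * b⁻¹ = r⁻¹ :=
  inverts_of_not_rel D.ti hb hne.symm (D.central b hbS).symm (D.no _ _) hr

theorem notMem_T {b : G} (hb : IsSq b) (hbS : b ∈ (D.S : Subgroup G)) (hne : b ≠ D.z) : b ∉ D.T :=
  fun h => D.no D.z b (rel_of_one D.ti D.root hb hne.symm (D.central b hbS).symm (D.mem_T.1 h).2)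

/-- There is another square in the Sylow subgroup. -/
theorem exists_other : ∃ b : G, IsSq b ∧ b ∈ (D.S : Subgroup G) ∧ b ≠ D.z := by
  by_contra hcon
  push Not at hcon
  obtain ⟨g, hg, hne⟩ := exists_conj_comm D.na D.isSq
  have hiso := Invol.isolated_of_sylow D.S D.isSq.orderOf fun g hg => hcon _ (D.isSq.conj g) hg
  exact hne (hiso.2 g hg)

/-- The roots of `z` commute. -/
theorem roots_comm {r r' : G} (hr : IsRoot r D.z) (hr' : IsRoot r' D.z) : r * r' = r' * r := by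
  obtain ⟨b, hb, hbS, hne⟩ := D.exists_other
  have hrz : r' * D.z = D.z * r' := hr'.comm_sq
  rcases conj_root D.ti hr hrz with h | h
  · exact (mul_inv_eq_iff_eq_mul.1 h).symm
  exfalso
  have hrt : IsRoot (r * r') D.z := by
    refine IsRoot.mk' ?_ hr.sq_ne hr.sq_sq
    have h' : r' * r = r⁻¹ * r' := mul_inv_eq_iff_eq_mul.1 h
    calc r * r' * (r * r') = r * (r' * r) * r' := by group
      _ = r * (r⁻¹ * r') * r' := by rw [h']
      _ = r' * r' := by group
      _ = D.z := hr'.2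
  have h1 := D.inverts hb hbS hne hrt
  rw [show b * (r * r') * b⁻¹ = (b * r * b⁻¹) * (b * r' * b⁻¹) by group, D.inverts hb hbS hne hr,
    D.inverts hb hbS hne hr', ← mul_inv_rev, inv_inj] at h1
  rw [h1, mul_inv_cancel_right] at h
  exact hr.inv_ne h.symm

/-- The involution of an element of order at least four. -/
theorem pow_eq_z {y : G} {k : ℕ} (hy : y ∈ (D.S : Subgroup G)) (hk : 2 ≤ k) (ho : orderOf y = 2 ^ k) :
    IsRoot (y ^ 2 ^ (k - 2)) D.z := by
  have hr : IsRoot (y ^ 2 ^ (k - 2)) (y ^ 2 ^ (k - 1)) := by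
    refine IsRoot.mk' ?_ ?_ ?_
    · rw [← pow_add, ← two_mul, ← pow_succ', show k - 2 + 1 = k - 1 by omega]
    · refine pow_ne_one_of_lt_orderOf (pow_ne_zero _ two_ne_zero) ?_
      rw [ho]; exact Nat.pow_lt_pow_right (by norm_num) (by omega)
    · rw [← pow_add, ← two_mul, ← pow_succ', show k - 1 + 1 = k by omega, ← ho, pow_orderOf_eq_one]
  suffices h : y ^ 2 ^ (k - 1) = D.z by rwa [h] at hr
  by_contra hne
  refine D.notMem_T ⟨_, hr⟩ (pow_mem hy _) hne ?_
  rw [show 2 ^ (k - 1) = 2 * 2 ^ (k - 2) by rw [← pow_succ']; congr 1; omega, pow_mul, pow_two]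
  exact pow_mem (D.sq_mem_T hy) _

theorem root_mem {r : G} (hrS : r ∈ (D.S : Subgroup G)) (hr : IsRoot r D.z) : r ∈ D.T :=
  D.mem_T.2 ⟨hrS, D.roots_comm hr D.root⟩

/-- Outside `T` there are only involutions. -/
theorem outer_sq {y : G} (hy : y ∈ (D.S : Subgroup G)) (hyT : y ∉ D.T) : y * y = 1 := by
  obtain ⟨k, hk⟩ := D.orderOf_pow_two hy
  rcases lt_or_ge k 2 with h | h
  · rw [← pow_two]
    exact orderOf_dvd_iff_pow_eq_one.1 (hk ▸ (pow_dvd_pow 2 (show k ≤ 1 by omega)).trans (by norm_num))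
  exfalso
  have hr := D.pow_eq_z hy h hk
  rcases Nat.lt_or_ge k 3 with h3 | h3
  · have hk2 : k = 2 := by omega
    subst hk2
    simp only [Nat.sub_self, pow_zero, pow_one] at hr
    exact hyT (D.root_mem hy hr)
  set r := y ^ 2 ^ (k - 2) with hrd
  obtain ⟨b, hb, hbS, hne⟩ := D.exists_other
  have hbT := D.notMem_T hb hbS hne
  have hbi : b⁻¹ = b := inv_eq_of_mul_eq_one_right hb.mul_self
  set g := b * y with hg
  have hgT : g ∈ D.T := D.mul_outer hbS hy hbT hyT
  have hgS : g ∈ (D.S : Subgroup G) := (D.mem_T.1 hgT).1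
  have hgr : g * r * g⁻¹ = r⁻¹ := by
    rw [hg, show b * y * r * (b * y)⁻¹ = b * (y * r * y⁻¹) * b⁻¹ by group,
      show y * r * y⁻¹ = r by rw [hrd, (Commute.pow_right (Commute.refl y) _).eq, mul_inv_cancel_right]]
    exact D.inverts hb hbS hne hr
  obtain ⟨j, hj⟩ := D.orderOf_pow_two hgS
  rcases lt_or_ge j 3 with hj3 | hj3
  · -- small order: a root or an involution commuting with `x`
    refine hr.inv_ne ?_
    rw [← hgr]
    refine mul_inv_eq_iff_eq_mul.2 ?_
    rcases lt_or_ge j 2 with hj2 | hj2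
    · have hg2 : g * g = 1 := by
        rw [← pow_two]
        exact orderOf_dvd_iff_pow_eq_one.1 (hj ▸ (pow_dvd_pow 2 (show j ≤ 1 by omega)).trans (by norm_num))
      have hc : Commute g D.x := (D.mem_T.1 hgT).2
      have hrt : IsRoot (g * D.x) D.z :=
        IsRoot.mk' (by rw [hc.symm.mul_mul_mul_comm, hg2, one_mul, D.root.2]) D.root.sq_ne D.root.sq_sq
      have h1 := D.roots_comm hrt hr
      have h2 := D.roots_comm D.root hr
      refine mul_right_cancel (b := D.x) ?_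
      rw [mul_assoc g r, ← h2, ← mul_assoc g, h1, ← mul_assoc]
    · have hj' : j = 2 := by omega
      subst hj'
      have := D.pow_eq_z hgS le_rfl hj
      simp only [Nat.sub_self, pow_zero, pow_one] at this
      exact D.roots_comm this hr
  · -- `b` normalizes `⟨g⟩`, so `r` is a power of `g`
    have hrt := D.pow_eq_z hgS (by omega) hj
    have hpi : g ^ 2 ^ (j - 1) = D.z := by
      rw [← hrt.2, ← pow_add, ← two_mul, ← pow_succ', show j - 2 + 1 = j - 1 by omega]
    have hbg : b * g * b⁻¹ ∈ zpowers g :=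
      D.ti.conj_mem Nat.prime_two hj (hpi ▸ D.root.sq_ne) (hpi.symm ▸ D.central b hbS)
    have hyy : y * y ∈ zpowers g := by
      rw [show y * y = (b * g * b⁻¹) * g by
        calc y * y = (b * b) * y * (b⁻¹ * b) * y := by rw [hb.mul_self]; group
          _ = (b * g * b⁻¹) * g := by rw [hg]; group]
      exact mul_mem hbg (mem_zpowers g)
    have hrg : r ∈ zpowers g := by
      rw [hrd, show 2 ^ (k - 2) = 2 * 2 ^ (k - 3) by rw [← pow_succ']; congr 1; omega, pow_mul, pow_two]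
      exact pow_mem hyy _
    obtain ⟨i, hi⟩ := mem_zpowers_iff.1 hrg
    refine hr.inv_ne ?_
    rw [← hgr, ← hi, ((Commute.refl g).zpow_right i).eq, mul_inv_cancel_right]

/-- An element outside `T` inverts `T`. -/
theorem inverts_T {b g : G} (hb : b ∈ (D.S : Subgroup G)) (hbT : b ∉ D.T) (hg : g ∈ D.T) :
    b * g * b⁻¹ = g⁻¹ := by
  have h : b * g ∉ D.T := fun h => hbT (by simpa using mul_mem h (inv_mem hg))
  have h1 := D.outer_sq (mul_mem hb (D.mem_T.1 hg).1) h
  rw [inv_eq_of_mul_eq_one_right (D.outer_sq hb hbT), eq_inv_iff_mul_eq_one, mul_assoc]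
  exact h1

theorem T_comm {g g' : G} (hg : g ∈ D.T) (hg' : g' ∈ D.T) : g * g' = g' * g := by
  obtain ⟨b, hb, hbS, hne⟩ := D.exists_other
  have hbT := D.notMem_T hb hbS hne
  have h := D.inverts_T hbS hbT (mul_mem hg hg')
  rw [show b * (g * g') * b⁻¹ = (b * g * b⁻¹) * (b * g' * b⁻¹) by group, D.inverts_T hbS hbT hg,
    D.inverts_T hbS hbT hg', ← mul_inv_rev, inv_inj] at h
  exact h.symm

/-- The involutions of `T` are central in the Sylow subgroup. -/
theorem central_of_sq {u s : G} (hu : u ∈ D.T) (hu2 : u * u = 1) (hs : s ∈ (D.S : Subgroup G)) :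
    s * u = u * s := by
  by_cases hsT : s ∈ D.T
  · exact D.T_comm hsT hu
  · refine mul_inv_eq_iff_eq_mul.1 ?_
    rw [D.inverts_T hs hsT hu]
    exact inv_eq_of_mul_eq_one_right hu2

/-- The only central square is `z`. -/
theorem eq_z_of_central {b : G} (hb : IsSq b) (hbS : b ∈ (D.S : Subgroup G))
    (hc : b * D.x = D.x * b) : b = D.z :=
  by_contra fun hne => D.notMem_T hb hbS hne (D.mem_T.2 ⟨hbS, hc⟩)

end Outer

end Cfsg.Lib.TICyclic
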